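import Mathlib

/-!
Simultaneous eigenspaces of commuting operators of prime order prime to the characteristic.
-/

set_option autoImplicit false

namespace CfsgLib.AltSection

open Module

variable {k : Type*} [Field k] {V : Type*} [AddCommGroup V] [Module k V]

/-- The joint eigenspace attached to a character, given by exponents of a root of unity. -/
def wsp {q : ℕ} {ι : Type*} (f : ι → Module.End k V) (ω : k) (χ : ι → ZMod q) : Submodule k V :=
  ⨅ i, (f i).eigenspace (ω ^ (χ i).val)

theorem mem_wsp {q : ℕ} {ι : Type*} {f : ι → Module.End k V} {ω : k} {χ : ι → ZMod q} {v : V} :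
    v ∈ wsp f ω χ ↔ ∀ i, f i v = ω ^ (χ i).val • v := by
  simp [wsp, Submodule.mem_iInf]

/-- An operator intertwining two families maps joint eigenspaces into joint eigenspaces. -/
theorem map_wsp_le {q : ℕ} {ι : Type*} {f f' : ι → Module.End k V} {ω : k} (g : Module.End k V)
    (hg : ∀ i, f' i * g = g * f i) (χ : ι → ZMod q) :
    (wsp f ω χ).map g ≤ wsp f' ω χ := by
  rintro _ ⟨v, hv, rfl⟩
  rw [mem_wsp]
  intro i
  have := DFunLike.congr_fun (hg i) v
  simp only [Module.End.mul_apply] at this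
  rw [this, mem_wsp.1 hv i, map_smul]

theorem finrank_sum_of_indep [FiniteDimensional k V] {κ : Type*} [Fintype κ]
    {W : κ → Submodule k V} (hind : iSupIndep W) (htop : ⨆ i, W i = ⊤) :
    finrank k V = ∑ i, finrank k (W i) := by
  classical
  have hI := DirectSum.isInternal_submodule_of_iSupIndep_of_iSup_eq_top hind htop
  rw [← (LinearEquiv.ofBijective (DirectSum.coeLinearMap W) hI).finrank_eq,
    Module.finrank_directSum]

theorem isSemisimple_of_pow_eq_one [FiniteDimensional k V] {q : ℕ} (hqk : (q : k) ≠ 0)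
    {f : Module.End k V} (hf : f ^ q = 1) : f.IsSemisimple := by
  refine Module.End.isSemisimple_of_squarefree_aeval_eq_zero
    (p := Polynomial.X ^ q - Polynomial.C (1 : k))
    (Polynomial.separable_X_pow_sub_C 1 hqk one_ne_zero).squarefree ?_
  simp [hf]

theorem exists_pow_eq {q : ℕ} [NeZero q] {ω : k} (hω : IsPrimitiveRoot ω q) {μ : k}
    (hμ : μ ^ q = 1) : ∃ a : ZMod q, μ = ω ^ a.val := by
  obtain ⟨i, hi, rfl⟩ := hω.eq_pow_of_pow_eq_one hμ
  exact ⟨(i : ZMod q), by rw [ZMod.val_natCast, Nat.mod_eq_of_lt hi]⟩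

theorem wsp_indep {q : ℕ} [NeZero q] {ι : Type*} (f : ι → Module.End k V) {ω : k}
    (hω : IsPrimitiveRoot ω q) (hc : ∀ i j, Commute (f i) (f j)) :
    iSupIndep fun χ : ι → ZMod q => wsp f ω χ := by
  have h := Module.End.independent_iInf_maxGenEigenspace_of_forall_mapsTo f
    fun i j φ => Module.End.mapsTo_maxGenEigenspace_of_comm (hc j i) φ
  have hinj : Function.Injective fun (χ : ι → ZMod q) (i : ι) => ω ^ (χ i).val := by
    intro χ χ' hχ
    funext i
    exact ZMod.val_injective q (hω.pow_inj (ZMod.val_lt _) (ZMod.val_lt _) (congrFun hχ i))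
  refine iSupIndep.mono (h.comp hinj) fun χ => ?_
  intro v hv
  simp only [Function.comp_apply, Submodule.mem_iInf]
  intro i
  exact ((f i).genEigenspace (ω ^ (χ i).val)).mono le_top (mem_wsp.1 hv i |> fun h1 =>
    Module.End.mem_eigenspace_iff.2 h1)

theorem wsp_iSup [IsAlgClosed k] [FiniteDimensional k V] {q : ℕ} [NeZero q] (hqk : (q : k) ≠ 0)
    {ι : Type*} (f : ι → Module.End k V) {ω : k} (hω : IsPrimitiveRoot ω q)
    (hc : ∀ i j, Commute (f i) (f j)) (hq : ∀ i, f i ^ q = 1) :
    ⨆ χ : ι → ZMod q, wsp f ω χ = ⊤ := by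
  have h := Module.End.iSup_iInf_maxGenEigenspace_eq_top_of_iSup_maxGenEigenspace_eq_top_of_commute
    f (fun i j _ => hc i j) fun i => Module.End.iSup_maxGenEigenspace_eq_top (f i)
  rw [eq_top_iff, ← h]
  refine iSup_le fun μ => ?_
  intro v hv
  rw [Submodule.mem_iInf] at hv
  have hv' : ∀ i, f i v = μ i • v := fun i => by
    have := hv i
    rw [(isSemisimple_of_pow_eq_one hqk (hq i)).isFinitelySemisimple.maxGenEigenspace_eq_eigenspace]
      at this
    exact Module.End.mem_eigenspace_iff.1 this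
  rcases eq_or_ne v 0 with rfl | hv0
  · exact zero_mem _
  have hμ : ∀ i, ∃ a : ZMod q, μ i = ω ^ a.val := fun i => by
    refine exists_pow_eq hω ?_
    have hp : ∀ n : ℕ, (f i ^ n) v = μ i ^ n • v := fun n => by
      induction n with
      | zero => simp
      | succ n ih =>
        rw [pow_succ', Module.End.mul_apply, ih, map_smul, hv' i, smul_smul, ← pow_succ]
    have h1 := hp q
    rw [hq i, Module.End.one_apply] at h1
    have h2 : (μ i ^ q - 1) • v = 0 := by rw [sub_smul, one_smul, ← h1, sub_self]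
    exact sub_eq_zero.1 ((smul_eq_zero.1 h2).resolve_right hv0)
  choose χ hχ using hμ
  exact Submodule.mem_iSup_of_mem χ (mem_wsp.2 fun i => by rw [hv' i, hχ i])

theorem finrank_eq_sum_wsp [IsAlgClosed k] [FiniteDimensional k V] {q : ℕ} [NeZero q]
    (hqk : (q : k) ≠ 0) {ι : Type*} [Fintype ι] [DecidableEq ι] (f : ι → Module.End k V) {ω : k}
    (hω : IsPrimitiveRoot ω q) (hc : ∀ i j, Commute (f i) (f j)) (hq : ∀ i, f i ^ q = 1) :
    finrank k V = ∑ χ : ι → ZMod q, finrank k (wsp f ω χ) :=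
  finrank_sum_of_indep (wsp_indep f hω hc) (wsp_iSup hqk f hω hc hq)

theorem exists_primitive [IsAlgClosed k] {q : ℕ} (hqk : (q : k) ≠ 0) :
    ∃ ω : k, IsPrimitiveRoot ω q := by
  haveI : NeZero (q : k) := ⟨hqk⟩
  exact HasEnoughRootsOfUnity.exists_primitiveRoot k q

end CfsgLib.AltSection
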