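import Cfsg.Agent.Lib.AltSection.Setup
import Cfsg.Agent.Lib.AltSection.Eig

/-!
Weight spaces of commuting elements in a representation, and how normalising elements move them.
-/

set_option autoImplicit false

namespace CfsgLib.AltSection

open Equiv Module
open scoped commutatorElement

variable {k : Type*} [Field k] {V : Type*} [AddCommGroup V] [Module k V] {G : Type*} [Group G]
  (ρ : Representation k G V) {q : ℕ} {ι : Type*}

/-- Commuting elements of exponent `q`, with `q` invertible and a primitive root chosen. -/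
structure Tor (ρ : Representation k G V) (q : ℕ) (T : ι → G) (ω : k) : Prop where
  comm : ∀ i j, Commute (T i) (T j)
  pow : ∀ i, T i ^ q = 1
  cast : (q : k) ≠ 0
  prim : IsPrimitiveRoot ω q

/-- The weight space of a character. -/
def wt (T : ι → G) (ω : k) (χ : ι → ZMod q) : Submodule k V :=
  wsp (fun i => ρ (T i)) ω χ

/-- The multiplicity of a weight. -/
noncomputable def mult (T : ι → G) (ω : k) (χ : ι → ZMod q) : ℕ := finrank k (wt ρ T ω χ)

variable {ρ} {T : ι → G} {ω : k}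

theorem mem_wt {χ : ι → ZMod q} {v : V} :
    v ∈ wt ρ T ω χ ↔ ∀ i, ρ (T i) v = ω ^ (χ i).val • v := mem_wsp

theorem pow_val_mul [NeZero q] (hω : IsPrimitiveRoot ω q) (a b : ZMod q) :
    (ω ^ a.val) ^ b.val = ω ^ (b * a).val := by
  rw [← pow_mul, ZMod.val_mul, mul_comm b.val a.val,
    pow_eq_pow_mod (a.val * b.val) hω.pow_eq_one]

theorem pow_apply_eigen {g : G} {c : k} {v : V} (h : ρ g v = c • v) :
    ∀ n : ℕ, ρ (g ^ n) v = c ^ n • v := by
  intro n
  induction n with
  | zero => rw [pow_zero, pow_zero, map_one, one_smul]; rfl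
  | succ n ih => rw [pow_succ' g, rho_mul, ih, map_smul, h, smul_smul, ← pow_succ]

/-- A normalising element maps weight spaces into weight spaces. -/
theorem map_wt_le [NeZero q] (hω : IsPrimitiveRoot ω q) (g : G) (σ : ι → ι) (m : ι → ZMod q)
    (hg : ∀ i, g⁻¹ * T i * g = T (σ i) ^ (m i).val) (χ : ι → ZMod q) :
    (wt ρ T ω χ).map (ρ g) ≤ wt ρ T ω (fun i => m i * χ (σ i)) := by
  rintro _ ⟨v, hv, rfl⟩
  rw [mem_wt]
  intro i
  rw [← rho_mul, show T i * g = g * (g⁻¹ * T i * g) by group, rho_mul, hg,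
    pow_apply_eigen (mem_wt.1 hv (σ i)), map_smul, pow_val_mul hω]

theorem mult_le [NeZero q] [FiniteDimensional k V] (hω : IsPrimitiveRoot ω q) (g : G)
    (σ : ι → ι) (m : ι → ZMod q) (hg : ∀ i, g⁻¹ * T i * g = T (σ i) ^ (m i).val)
    (χ : ι → ZMod q) : mult ρ T ω χ ≤ mult ρ T ω (fun i => m i * χ (σ i)) := by
  rw [mult, ← finrank_map_rho ρ g]
  exact Submodule.finrank_mono (map_wt_le hω g σ m hg χ)

namespace Tor

variable [IsAlgClosed k] [FiniteDimensional k V] [NeZero q] [Fintype ι] [DecidableEq ι]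
  (hT : Tor ρ q T ω)
include hT

theorem ops : (∀ i j, Commute (ρ (T i)) (ρ (T j))) ∧ ∀ i, ρ (T i) ^ q = 1 :=
  ⟨fun i j => (hT.comm i j).map ρ, fun i => by rw [← map_pow, hT.pow, map_one]⟩

theorem dim_eq : finrank k V = ∑ χ : ι → ZMod q, mult ρ T ω χ :=
  finrank_eq_sum_wsp hT.cast _ hT.prim hT.ops.1 hT.ops.2

theorem sum_le (S : Finset (ι → ZMod q)) : ∑ χ ∈ S, mult ρ T ω χ ≤ finrank k V := by
  rw [hT.dim_eq]
  exact Finset.sum_le_sum_of_subset (Finset.subset_univ S)

theorem card_mul_le (S : Finset (ι → ZMod q)) {d : ℕ} (hd : ∀ χ ∈ S, d ≤ mult ρ T ω χ) :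
    S.card * d ≤ finrank k V := by
  refine le_trans ?_ (hT.sum_le S)
  have := Finset.card_nsmul_le_sum S _ d hd
  simpa using this

/-- A subspace invariant under all the elements is the sum of its traces on weight spaces. -/
theorem dim_eq_sub (U : Submodule k V) (hU : ∀ i, ∀ v ∈ U, ρ (T i) v ∈ U) :
    finrank k U = ∑ χ : ι → ZMod q, finrank k (U ⊓ wt ρ T ω χ : Submodule k V) := by
  let f : ι → Module.End k U := fun i => (ρ (T i)).restrict (hU i)
  have hc : ∀ i j, Commute (f i) (f j) := fun i j => LinearMap.restrict_commute (hT.ops.1 i j) _ _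
  have hp : ∀ i (n : ℕ) (v : U), ((f i ^ n) v : V) = (ρ (T i) ^ n) (v : V) := fun i n v => by
    induction n with
    | zero => rfl
    | succ n ih =>
      rw [pow_succ', pow_succ', Module.End.mul_apply, Module.End.mul_apply, ← ih]
      rfl
  have hq : ∀ i, f i ^ q = 1 := fun i => LinearMap.ext fun v => Subtype.ext (by
    rw [hp, hT.ops.2]; rfl)
  rw [finrank_eq_sum_wsp hT.cast f hT.prim hc hq]
  refine Finset.sum_congr rfl fun χ _ => ?_
  rw [← Submodule.finrank_map_subtype_eq U]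
  suffices hh : Submodule.map U.subtype (wsp f ω χ) = U ⊓ wt ρ T ω χ by rw [hh]
  ext v
  constructor
  · rintro ⟨w, hw, rfl⟩
    exact ⟨w.2, mem_wt.2 fun i => congrArg Subtype.val (mem_wsp.1 hw i)⟩
  · rintro ⟨hv, hw⟩
    exact ⟨⟨v, hv⟩, mem_wsp.2 fun i => Subtype.ext (mem_wt.1 hw i), rfl⟩

theorem dim_eigen (i : ι) (a : ZMod q) :
    finrank k (Module.End.eigenspace (ρ (T i)) (ω ^ a.val)) =
      ∑ χ ∈ Finset.univ.filter (fun χ : ι → ZMod q => χ i = a), mult ρ T ω χ := by
  rw [hT.dim_eq_sub _ fun j v hv => ?_, Finset.sum_filter]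
  · refine Finset.sum_congr rfl fun χ _ => ?_
    split_ifs with h
    · rw [mult, inf_eq_right.2 fun v hv => Module.End.mem_eigenspace_iff.2 (h ▸ mem_wt.1 hv i)]
    · suffices hh : Module.End.eigenspace (ρ (T i)) (ω ^ a.val) ⊓ wt ρ T ω χ = ⊥ by rw [hh, finrank_bot]
      refine (Submodule.eq_bot_iff _).2 fun v hv => ?_
      have h1 := Module.End.mem_eigenspace_iff.1 hv.1
      rw [mem_wt.1 hv.2 i] at h1
      have h2 : (ω ^ (χ i).val - ω ^ a.val) • v = 0 := by rw [sub_smul, h1, sub_self]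
      refine (smul_eq_zero.1 h2).resolve_left fun h3 => h ?_
      exact ZMod.val_injective q
        (hT.prim.pow_inj (ZMod.val_lt _) (ZMod.val_lt _) (sub_eq_zero.1 h3))
  · rw [Module.End.mem_eigenspace_iff] at hv ⊢
    have h1 := DFunLike.congr_fun (hT.ops.1 i j).eq v
    simp only [Module.End.mul_apply] at h1
    rw [h1, hv, map_smul]

theorem eq_zero_of_wt (f : V →ₗ[k] V) (h : ∀ χ : ι → ZMod q, ∀ v ∈ wt ρ T ω χ, f v = 0) :
    f = 0 := by
  refine LinearMap.ker_eq_top.1 (top_unique ?_)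
  rw [← wsp_iSup hT.cast (fun i => ρ (T i)) hT.prim hT.ops.1 hT.ops.2]
  exact iSup_le fun χ v hv => LinearMap.mem_ker.2 (h χ v hv)

theorem eq_one_of_mult_zero (hinj : Function.Injective ρ) (i : ι)
    (h : ∀ χ : ι → ZMod q, χ i ≠ 0 → mult ρ T ω χ = 0) : T i = 1 := by
  refine hinj ?_
  rw [map_one, ← sub_eq_zero]
  refine hT.eq_zero_of_wt _ fun χ v hv => ?_
  by_cases hi : χ i = 0
  · rw [LinearMap.sub_apply, mem_wt.1 hv i, hi, ZMod.val_zero, pow_zero, one_smul,
      Module.End.one_apply, sub_self]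
  · have h0 : wt ρ T ω χ = ⊥ := Submodule.finrank_eq_zero.1 (h χ hi)
    rw [h0, Submodule.mem_bot] at hv
    rw [hv, map_zero]

end Tor

end CfsgLib.AltSection
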