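import Cfsg.Agent.Lib.AltSection.Extend
import Cfsg.Agent.Lib.AltSection.Weights
import Mathlib

/-!
Cycles of length five and seven on embedded blocks, and their canonical lifts.
-/

set_option autoImplicit false

namespace CfsgLib.AltSection

open Equiv Module
open scoped commutatorElement

/-- Multiplication by two on `Fin 5`. -/
def dbl5 : Perm (Fin 5) := swap 1 2 * swap 2 4 * swap 4 3

/-- Multiplication by three on `Fin 7`. -/
def tpl7 : Perm (Fin 7) := swap 1 3 * swap 3 2 * swap 2 6 * swap 6 4 * swap 4 5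

theorem sign_dbl5 : Perm.sign dbl5 = -1 := by decide

theorem sign_tpl7 : Perm.sign tpl7 = -1 := by decide

theorem sign_rot5 : Perm.sign (finRotate 5) = 1 := by decide

theorem sign_rot7 : Perm.sign (finRotate 7) = 1 := by decide

theorem dbl5_conj : dbl5 * finRotate 5 * dbl5⁻¹ = finRotate 5 ^ 2 := by decide

theorem tpl7_conj : tpl7 * finRotate 7 * tpl7⁻¹ = finRotate 7 ^ 3 := by decide

theorem dbl5_sq_conj : dbl5 ^ 2 * finRotate 5 * (dbl5 ^ 2)⁻¹ = finRotate 5 ^ 4 := by decide

theorem rot5_pow : finRotate 5 ^ 5 = 1 := by decide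

theorem rot7_pow : finRotate 7 ^ 7 = 1 := by decide

variable {α : Type*} [Fintype α] [DecidableEq α] {n : ℕ}

/-- A permutation of `Fin n` carried to an embedded block. -/
noncomputable def onBlock (e : Fin n ↪ α) : Perm (Fin n) →* Perm α := Perm.viaEmbeddingHom e

theorem onBlock_apply (e : Fin n ↪ α) (σ : Perm (Fin n)) (i : Fin n) :
    onBlock e σ (e i) = e (σ i) := Perm.viaEmbedding_apply σ e i

theorem onBlock_other (e : Fin n ↪ α) (σ : Perm (Fin n)) {x : α} (hx : x ∉ Set.range e) :
    onBlock e σ x = x := Perm.viaEmbedding_apply_of_notMem σ e x hx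

theorem sign_onBlock (e : Fin n ↪ α) (σ : Perm (Fin n)) :
    Perm.sign (onBlock e σ) = Perm.sign σ := by
  classical
  show Perm.sign (σ.viaEmbedding e) = _
  rw [Perm.viaEmbedding, Perm.sign_extendDomain]

/-- Permutations moving only disjoint sets of points commute. -/
theorem commute_of_support {σ τ : Perm α} (h : ∀ x, σ x = x ∨ τ x = x) : Commute σ τ :=
  (show Perm.Disjoint σ τ from h).commute

theorem onBlock_disjoint (e e' : Fin n ↪ α) (hd : ∀ i j, e i ≠ e' j) (σ τ : Perm (Fin n)) :
    Commute (onBlock e σ) (onBlock e' τ) := commute_of_support fun x => by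
  by_cases hx : x ∈ Set.range e
  · obtain ⟨i, rfl⟩ := hx
    exact Or.inr (onBlock_other e' τ fun ⟨j, hj⟩ => hd i j hj.symm)
  · exact Or.inl (onBlock_other e σ hx)

namespace Cov

variable {G : Type*} [Group G] {π : G →* Perm α} (hπ : Cov π)
include hπ

theorem conj_comm_pow {g h x x' : G} {m q e : ℕ}
    (hm : π h * π x' * (π h)⁻¹ = π x' ^ m) (hq : π x' ^ q = 1)
    (hgh : Commute (π g) (π h)) (hgx : π g * π x * (π g)⁻¹ = π x' ^ e) :
    g * ⁅h, x⁆ * g⁻¹ = ⁅h, x'⁆ ^ e := by
  have h1 : π (g * h * g⁻¹) = π h := by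
    rw [map_mul, map_mul, map_inv, hgh.eq, mul_inv_cancel_right]
  have h2 : π (g * x * g⁻¹) = π (x' ^ e) := by rw [map_mul, map_mul, map_inv, hgx, map_pow]
  rw [conjugate_commutatorElement, hπ.comm_center_left h1, hπ.comm_center h2,
    commutatorElement_def, ← conj_pow]
  have h3 : h * x' * h⁻¹ = ⁅h, x'⁆ * x' := by rw [commutatorElement_def]; group
  have h4 : Commute ⁅h, x'⁆ x' := by
    obtain ⟨z, hz, hzx⟩ : ∃ z, π z = 1 ∧ h * x' * h⁻¹ = z * x' ^ m :=
      ⟨h * x' * h⁻¹ * (x' ^ m)⁻¹, by
        simp only [map_mul, map_inv, map_pow]; rw [hm, mul_inv_cancel], by group⟩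
    rw [show ⁅h, x'⁆ = z * x' ^ m * x'⁻¹ by rw [← hzx, commutatorElement_def]]
    exact (((hπ.central z hz x').mul_left ((Commute.refl x').pow_left m))).mul_left
      (Commute.refl x').inv_left
  rw [h3, h4.mul_pow, mul_inv_cancel_right]

/-- Elements over permutations with supports separated by a set commute. -/
theorem commute_sets {g h : G} {S : Finset α} (hS : 5 ≤ S.card)
    (hh : ∀ x ∈ S, π h x = x) (hg : ∀ x, x ∉ S → π g x = x) : Commute g h :=
  hπ.commute_disjoint (S := Sᶜ) (by rw [compl_compl]; exact hS)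
    (fun x hx => hh x (by simpa using hx)) fun x hx => hg x (Finset.mem_compl.1 hx)

end Cov

end CfsgLib.AltSection
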