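import Mathlib

/-!
Functions invariant under signed swaps depend only on the size of the support.
-/

set_option autoImplicit false

namespace CfsgLib.AltSection

open Finset

/-- The support of a character. -/
def chSupp {m q : ℕ} (χ : Fin m → ZMod q) : Finset (Fin m) := Finset.univ.filter fun i => χ i ≠ 0

theorem mem_chSupp {m q : ℕ} {χ : Fin m → ZMod q} {i : Fin m} : i ∈ chSupp χ ↔ χ i ≠ 0 := by
  simp [chSupp]

/-- A signed transposition of coordinates. -/
def sswap {m : ℕ} (i j : Fin m) (χ : Fin m → ZMod 3) : Fin m → ZMod 3 :=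
  Function.update (fun x => χ (Equiv.swap i j x)) j (-χ i)

theorem sswap_left {m : ℕ} {i j : Fin m} (h : i ≠ j) (χ : Fin m → ZMod 3) :
    sswap i j χ i = χ j := by
  simp [sswap, Function.update_of_ne h]

theorem sswap_right {m : ℕ} (i j : Fin m) (χ : Fin m → ZMod 3) : sswap i j χ j = -χ i := by
  simp [sswap]

theorem sswap_other {m : ℕ} {i j x : Fin m} (hi : x ≠ i) (hj : x ≠ j) (χ : Fin m → ZMod 3) :
    sswap i j χ x = χ x := by
  simp [sswap, Function.update_of_ne hj, Equiv.swap_apply_of_ne_of_ne hi hj]

/-- Negation of one coordinate. -/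
def cneg {m : ℕ} (i : Fin m) (χ : Fin m → ZMod 3) : Fin m → ZMod 3 := Function.update χ i (-χ i)

theorem sswap_sswap {m : ℕ} {i j : Fin m} (h : i ≠ j) (χ : Fin m → ZMod 3) :
    sswap i j (sswap i j χ) = cneg i (cneg j χ) := by
  funext x
  by_cases hi : x = i
  · subst hi
    rw [sswap_left h, sswap_right]
    simp [cneg, Function.update_of_ne h]
  by_cases hj : x = j
  · subst hj
    rw [sswap_right, sswap_left h]
    simp [cneg, Function.update_of_ne hi]
  rw [sswap_other hi hj, sswap_other hi hj]
  simp [cneg, Function.update_of_ne hi, Function.update_of_ne hj]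

section

variable {m : ℕ} (hm : 3 ≤ m) {d : (Fin m → ZMod 3) → ℕ}
  (hR : ∀ i j, i ≠ j → ∀ χ, d χ ≤ d (sswap i j χ))
include hR

theorem d_sswap {i j : Fin m} (h : i ≠ j) (χ : Fin m → ZMod 3) : d (sswap i j χ) = d χ := by
  refine le_antisymm ?_ (hR i j h χ)
  have h4 : sswap i j (sswap i j (sswap i j (sswap i j χ))) = χ := by
    rw [sswap_sswap h, sswap_sswap h]
    funext x
    by_cases hi : x = i
    · subst hi; simp [cneg, Function.update_of_ne h]
    by_cases hj : x = j
    · subst hj; simp [cneg, Function.update_of_ne hi]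
    simp [cneg, Function.update_of_ne hi, Function.update_of_ne hj]
  calc d (sswap i j χ) ≤ d (sswap i j (sswap i j χ)) := hR i j h _
    _ ≤ d (sswap i j (sswap i j (sswap i j χ))) := hR i j h _
    _ ≤ d (sswap i j (sswap i j (sswap i j (sswap i j χ)))) := hR i j h _
    _ = d χ := by rw [h4]

theorem d_neg_two {i j : Fin m} (h : i ≠ j) (χ : Fin m → ZMod 3) :
    d (cneg i (cneg j χ)) = d χ := by
  rw [← sswap_sswap h, d_sswap hR h, d_sswap hR h]

include hm

theorem d_neg (i : Fin m) (χ : Fin m → ZMod 3) : d (cneg i χ) = d χ := by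
  by_cases h0 : ∃ j, j ≠ i ∧ χ j = 0
  · obtain ⟨j, hj, hj0⟩ := h0
    have h1 : cneg j χ = χ := by
      rw [cneg, hj0, neg_zero]
      exact Function.update_eq_self_iff.2 hj0.symm
    conv_lhs => rw [← h1]
    exact d_neg_two hR hj.symm χ
  push Not at h0
  by_cases hi0 : χ i = 0
  · rw [cneg, hi0, neg_zero]
    congr 1
    exact Function.update_eq_self_iff.2 hi0.symm
  have hall : ∀ j, χ j ≠ 0 := fun j => by
    by_cases hj : j = i
    · subst hj; exact hi0
    · exact h0 j hj
  obtain ⟨j, l, hjl, heq⟩ : ∃ j l, j ≠ l ∧ χ j = χ l := by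
    obtain ⟨j, l, hjl, heq⟩ := Fintype.exists_ne_map_eq_of_card_lt
      (fun j => (⟨χ j, hall j⟩ : {x : ZMod 3 // x ≠ 0})) (by
        have h2 : Fintype.card {x : ZMod 3 // x ≠ 0} = 2 := by decide
        rw [h2, Fintype.card_fin]; omega)
    exact ⟨j, l, hjl, congrArg Subtype.val heq⟩
  have hl : d (cneg l χ) = d χ := by
    have h1 : sswap j l χ = cneg l χ := by
      funext x
      by_cases hxj : x = j
      · subst hxj
        rw [sswap_left hjl, cneg, Function.update_of_ne hjl, heq]
      by_cases hxl : x = l
      · subst hxl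
        rw [sswap_right]
        simp [cneg, heq]
      rw [sswap_other hxj hxl, cneg, Function.update_of_ne hxl]
    rw [← h1, d_sswap hR hjl]
  by_cases hil : i = l
  · subst hil; exact hl
  have h2 : cneg i χ = cneg i (cneg l (cneg l χ)) := by
    congr 1
    simp [cneg]
  rw [h2, d_neg_two hR hil, hl]

theorem d_swap (i j : Fin m) (χ : Fin m → ZMod 3) :
    d (fun x => χ (Equiv.swap i j x)) = d χ := by
  by_cases h : i = j
  · subst h; simp
  have h1 : (fun x => χ (Equiv.swap i j x)) = cneg j (sswap i j χ) := by
    funext x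
    by_cases hj : x = j
    · subst hj; simp [cneg, sswap_right]
    · rw [cneg, Function.update_of_ne hj, sswap, Function.update_of_ne hj]
  rw [h1, d_neg hm hR, d_sswap hR h]

theorem d_perm (σ : Equiv.Perm (Fin m)) : ∀ χ, d (fun x => χ (σ x)) = d χ := by
  induction σ using Equiv.Perm.swap_induction_on with
  | one => intro χ; rfl
  | swap_mul f x y hxy ih =>
    intro χ
    have h2 := ih (fun z => χ (Equiv.swap x y z))
    exact h2.trans (d_swap hm hR x y χ)

theorem d_supp_eq : ∀ (D : Finset (Fin m)) (χ χ' : Fin m → ZMod 3),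
    (∀ i, i ∉ D → χ i = χ' i) → (∀ i ∈ D, χ' i = -χ i) → d χ = d χ' := by
  intro D
  induction D using Finset.induction_on with
  | empty => intro χ χ' h _; congr 1; exact funext fun i => h i (notMem_empty i)
  | insert a D ha ih =>
    intro χ χ' h1 h2
    rw [← d_neg hm hR a χ]
    refine ih _ _ (fun i hi => ?_) fun i hi => ?_
    · by_cases hia : i = a
      · subst hia
        rw [h2 i (mem_insert_self i D)]
        simp [cneg]
      · rw [cneg, Function.update_of_ne hia]
        exact h1 i (by simp [hia, hi])
    · have hia : i ≠ a := fun h => ha (h ▸ hi)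
      rw [cneg, Function.update_of_ne hia]
      exact h2 i (mem_insert_of_mem hi)

theorem d_card_eq (χ χ' : Fin m → ZMod 3) (h : (chSupp χ).card = (chSupp χ').card) :
    d χ = d χ' := by
  classical
  have hc : Fintype.card {i // χ' i ≠ 0} = Fintype.card {i // χ i ≠ 0} := by
    rw [Fintype.card_subtype, Fintype.card_subtype]; exact h.symm
  set σ := (Fintype.equivOfCardEq hc).extendSubtype with hσ
  rw [← d_perm hm hR σ χ]
  refine d_supp_eq hm hR (univ.filter fun i => χ (σ i) ≠ χ' i) _ _
    (fun i hi => by simpa using hi) fun i hi => ?_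
  simp only [mem_filter, mem_univ, true_and] at hi
  have h3 : ∀ x y : ZMod 3, (x = 0 ↔ y = 0) → x ≠ y → y = -x := by decide
  refine h3 _ _ ?_ hi
  constructor
  · intro hx
    by_contra hy
    have h5 := Equiv.extendSubtype_mem (p := fun z => χ' z ≠ 0) (q := fun z => χ z ≠ 0)
      (Fintype.equivOfCardEq hc) i hy
    exact h5 hx
  · intro hy
    by_contra hx
    exact Equiv.extendSubtype_not_mem (p := fun z => χ' z ≠ 0) (q := fun z => χ z ≠ 0)
      (Fintype.equivOfCardEq hc) i (fun h => h hy) hx

end

/-- The characters with support of a given size. -/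
def suppSet (m s : ℕ) : Finset (Fin m → ZMod 3) :=
  Finset.univ.filter fun χ => (chSupp χ).card = s

theorem card_suppSet (m s : ℕ) : (suppSet m s).card = m.choose s * 2 ^ s := by
  classical
  have h : suppSet m s = ((Finset.univ : Finset (Fin m)).powersetCard s).biUnion fun A =>
      Finset.univ.filter fun χ : Fin m → ZMod 3 => chSupp χ = A := by
    ext χ
    simp [suppSet]
  rw [h, Finset.card_biUnion, Finset.sum_eq_card_nsmul (b := 2 ^ s) (s := _)]
  · simp [Finset.card_powersetCard]
  · intro A hA
    have h2 : (Finset.univ.filter fun χ : Fin m → ZMod 3 => chSupp χ = A) =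
        Fintype.piFinset fun i => if i ∈ A then ({1, 2} : Finset (ZMod 3)) else {0} := by
      ext χ
      simp only [mem_filter, mem_univ, true_and, Fintype.mem_piFinset]
      constructor
      · rintro rfl i
        have h3 : ∀ x : ZMod 3, x ≠ 0 → x = 1 ∨ x = 2 := by decide
        split_ifs with hi
        · simpa using h3 _ (mem_chSupp.1 hi)
        · simpa [mem_chSupp] using hi
      · intro hχ
        ext i
        rw [mem_chSupp]
        have h3 := hχ i
        split_ifs at h3 with hi
        · simp only [mem_insert, mem_singleton] at h3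
          rcases h3 with h3 | h3 <;> rw [h3] <;> simp [hi] <;> decide
        · simp only [mem_singleton] at h3
          simp [h3, hi]
    rw [h2, Fintype.card_piFinset]
    have h4 : ∀ i : Fin m, (if i ∈ A then ({1, 2} : Finset (ZMod 3)) else {0}).card =
        if i ∈ A then 2 else 1 := fun i => by split_ifs <;> rfl
    simp [h4, Finset.prod_ite_mem, (Finset.mem_powersetCard.1 hA).2]
  · intro A _ B _ hAB
    rw [Function.onFun, Finset.disjoint_left]
    intro χ hA hB
    simp only [mem_filter] at hA hB
    exact hAB (hA.2.symm.trans hB.2)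

theorem le_choose {m s : ℕ} (h1 : 1 ≤ s) (h2 : s < m) : m ≤ m.choose s := by
  induction m generalizing s with
  | zero => omega
  | succ m ih =>
    rcases Nat.lt_or_ge s 2 with hs | hs
    · obtain rfl : s = 1 := by omega
      simp
    rcases Nat.lt_or_ge s m with hsm | hsm
    · obtain ⟨s, rfl⟩ : ∃ t, s = t + 1 := ⟨s - 1, by omega⟩
      rw [Nat.choose_succ_succ]
      have h3 := ih (s := s) (by omega) (by omega)
      have h4 : 1 ≤ m.choose (s + 1) := Nat.choose_pos (by omega)
      show m + 1 ≤ m.choose s + m.choose (s + 1)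
      omega
    · obtain rfl : s = m := by omega
      rw [← Nat.succ_eq_add_one, Nat.choose_succ_self_right]

end CfsgLib.AltSection
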