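import Cfsg.Agent.Lib.AltSection.Perm
import Mathlib.GroupTheory.Subgroup.Center

/-!
Central extensions of alternating groups: lifts of disjoint permutations commute, and
three-cycles have canonical lifts of order three.
-/

set_option autoImplicit false

namespace CfsgLib.AltSection

open Equiv
open scoped commutatorElement

variable {G : Type*} [Group G] {α : Type*} [Fintype α] [DecidableEq α]

/-- `π` is a central extension of the alternating group on at least nine points. -/
structure Cov (π : G →* Perm α) : Prop where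
  range : π.range = alternatingGroup α
  central : ∀ x, π x = 1 → ∀ g : G, Commute x g
  nine : 9 ≤ Fintype.card α

/-- A chosen preimage of a permutation. -/
noncomputable def lft (π : G →* Perm α) (σ : Perm α) : G := Function.invFun π σ

/-- The canonical lift of the three-cycle `(a b c)`: a commutator of a lift of it with an
element inverting it. -/
noncomputable def T (π : G →* Perm α) (a b c : α) : G :=
  ⁅Classical.epsilon fun g : G => π g * cyc a b c * (π g)⁻¹ = (cyc a b c)⁻¹, lft π (cyc a b c)⁆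

variable {π : G →* Perm α}

namespace Cov

variable (hπ : Cov π)
include hπ

theorem apply_mem (g : G) : π g ∈ alternatingGroup α := hπ.range ▸ ⟨g, rfl⟩

theorem map_lft {σ : Perm α} (hσ : σ ∈ alternatingGroup α) : π (lft π σ) = σ :=
  Function.invFun_eq (by rw [← hπ.range] at hσ; exact hσ)

theorem map_lft_cyc (a b c : α) : π (lft π (cyc a b c)) = cyc a b c := hπ.map_lft (cyc_mem a b c)

theorem map_lft_dt (a b c d : α) : π (lft π (dt a b c d)) = dt a b c d :=
  hπ.map_lft (dt_mem a b c d)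

theorem central' {x : G} (hx : π x = 1) (g : G) : g * x = x * g := (hπ.central x hx g).eq.symm

theorem comm_center {x y : G} (hxy : π x = π y) (g : G) : ⁅g, x⁆ = ⁅g, y⁆ := by
  obtain ⟨z, hz, rfl⟩ : ∃ z, π z = 1 ∧ x = z * y :=
    ⟨x * y⁻¹, by rw [map_mul, map_inv, hxy, mul_inv_cancel], by group⟩
  have h1 := hπ.central z hz
  rw [commutatorElement_def, commutatorElement_def]
  have h2 : ∀ w : G, z * w * z⁻¹ = w := fun w => by rw [(h1 w).eq]; group
  calc g * (z * y) * g⁻¹ * (z * y)⁻¹ = (g * z) * y * g⁻¹ * y⁻¹ * z⁻¹ := by group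
    _ = z * (g * y * g⁻¹ * y⁻¹) * z⁻¹ := by rw [← (h1 g).eq]; group
    _ = g * y * g⁻¹ * y⁻¹ := h2 _

theorem comm_center_left {x y : G} (hxy : π x = π y) (g : G) : ⁅x, g⁆ = ⁅y, g⁆ := by
  rw [← commutatorElement_inv g x, ← commutatorElement_inv g y, hπ.comm_center hxy]

theorem commute_of_eq {x y g : G} (hxy : π x = π y) (h : Commute g x) : Commute g y := by
  rw [← commutatorElement_eq_one_iff_commute] at h ⊢
  rw [← hπ.comm_center hxy, h]

theorem commute_same_image {x y : G} (hxy : π x = π y) : Commute x y :=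
  hπ.commute_of_eq hxy (Commute.refl x)

/-- Lifts of permutations with disjoint supports commute. -/
theorem commute_disjoint {g h : G} {S : Finset α} (hS : 5 ≤ Sᶜ.card)
    (hh : ∀ x, x ∉ S → π h x = x) (hg : ∀ x ∈ S, π g x = x) : Commute g h := by
  set M : Subgroup G := (altOn Sᶜ).comap π with hM
  have hc : ∀ m ∈ M, π ⁅m, h⁆ = 1 := fun m hm => by
    rw [map_commutatorElement, commutatorElement_eq_one_iff_commute]
    ext x
    simp only [Perm.mul_apply]
    by_cases hx : x ∈ S
    · have h1 : π m x = x := (mem_altOn.1 hm).2 x (by simp [hx])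
      have h2 : π m (π h x) = π h x := by
        refine (mem_altOn.1 hm).2 _ ?_
        simp only [Finset.mem_compl, not_not]
        by_contra hn
        exact hn (by rw [(π h).injective (hh _ hn)]; exact hx)
      rw [h1, h2]
    · have h1 : π h x = x := hh x hx
      have h2 : π h (π m x) = π m x := hh _ fun hn => by
        have := (mem_altOn.1 hm).2 (π m x) (by simp [hn])
        exact hx (by rw [← (π m).injective this]; exact hn)
      rw [h1, h2]
  let χ : M →* Subgroup.center G :=
    { toFun := fun m => ⟨⁅(m : G), h⁆, Subgroup.mem_center_iff.2 fun g =>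
        hπ.central' (hc m m.2) g⟩
      map_one' := Subtype.ext (commutatorElement_one_left h)
      map_mul' := fun m m' => Subtype.ext <| by
        show ⁅(m : G) * m', h⁆ = ⁅(m : G), h⁆ * ⁅(m' : G), h⁆
        rw [← (hπ.central _ (hc m' m'.2) ⁅(m : G), h⁆).eq]
        calc ⁅(m : G) * m', h⁆ = (m : G) * ⁅(m' : G), h⁆ * (m : G)⁻¹ * ⁅(m : G), h⁆ := by
              simp only [commutatorElement_def]; group
          _ = ⁅(m' : G), h⁆ * ⁅(m : G), h⁆ := by
              rw [← (hπ.central _ (hc m' m'.2) (m : G)).eq]; group }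
  have hker : ⁅M, M⁆ ≤ χ.ker.map M.subtype := by
    rw [Subgroup.commutator_le]
    intro a ha b hb
    refine ⟨⁅(⟨a, ha⟩ : M), ⟨b, hb⟩⁆, ?_, rfl⟩
    rw [SetLike.mem_coe, MonoidHom.mem_ker, map_commutatorElement,
      commutatorElement_eq_one_iff_commute]
    exact Subtype.ext ((Subgroup.mem_center_iff.1 (χ ⟨b, hb⟩).2 _))
  have hmap : M.map π = altOn Sᶜ := by
    refine Subgroup.map_comap_eq_self ?_
    rw [hπ.range]
    exact fun σ hσ => (mem_altOn.1 hσ).1
  have hgA : π g ∈ altOn Sᶜ :=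
    ⟨hπ.apply_mem g, fun x hx => hg x (by simpa using hx)⟩
  have hperf := altOn_perfect hS
  rw [← hperf, ← hmap, ← Subgroup.map_commutator] at hgA
  obtain ⟨m, hm, hmg⟩ := hgA
  obtain ⟨m', hm', rfl⟩ := hker hm
  have h1 : Commute (m' : G) h :=
    commutatorElement_eq_one_iff_commute.1 (congrArg Subtype.val (MonoidHom.mem_ker.1 hm'))
  exact (hπ.commute_of_eq hmg h1.symm).symm

theorem commute_disjoint' {g h : G} {S : Finset α} (hS : 5 ≤ Sᶜ.card)
    (hh : ∀ x, x ∉ S → π h x = x) (hg : ∀ x ∈ S, π g x = x) : Commute h g :=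
  (hπ.commute_disjoint hS hh hg).symm

theorem exists_inverter {a b c : α} (h : D3 a b c) :
    ∃ g : G, π g * cyc a b c * (π g)⁻¹ = (cyc a b c)⁻¹ := by
  obtain ⟨d, e, hde, hd, he⟩ := exists_two_outside (S := ({a, b, c} : Finset α))
    (by have := hπ.nine; have := (Finset.card_le_three (a := a) (b := b) (c := c)); omega)
  simp only [Finset.mem_insert, Finset.mem_singleton, not_or] at hd he
  exact ⟨lft π (dt b c d e), by
    rw [hπ.map_lft_dt]
    exact conj_dt_cyc h hde hd.1 hd.2.1 hd.2.2 he.1 he.2.1 he.2.2⟩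

/-- Elements centralising a three-cycle downstairs centralise its lifts. -/
theorem commute_centralizer {a b c : α} (h : D3 a b c) {u x : G} (hx : π x = cyc a b c)
    (hu : Commute (π u) (cyc a b c)) : Commute u x := by
  obtain ⟨hab, hac, hbc⟩ := h
  set y := cyc a b c with hy
  have hcom : ∀ z, π u (y z) = y (π u z) := fun z => DFunLike.congr_fun hu.eq z
  have hya : y a = b := cyc_apply_fst hac hbc
  have hyb : y b = c := cyc_apply_snd hab hac
  have hyc : y c = a := cyc_apply_thd hab hac hbc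
  have hmem : π u a = a ∨ π u a = b ∨ π u a = c := by
    by_contra hn
    push Not at hn
    have h1 := hcom a
    rw [hya, cyc_apply_other hn.1 hn.2.1 hn.2.2] at h1
    exact hab.symm ((π u).injective h1)
  have key : ∀ v : G, Commute (π v) y → π v a = a → Commute v x := by
    intro v hv hva
    have hcv : ∀ z, π v (y z) = y (π v z) := fun z => DFunLike.congr_fun hv.eq z
    have hvb : π v b = b := by rw [← hya, hcv, hva]
    have hvc : π v c = c := by rw [← hyb, hcv, hvb]
    refine hπ.commute_disjoint (S := {a, b, c}) ?_ ?_ ?_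
    · rw [Finset.card_compl]
      have := hπ.nine
      have := (Finset.card_le_three (a := a) (b := b) (c := c))
      omega
    · intro z hz
      simp only [Finset.mem_insert, Finset.mem_singleton, not_or] at hz
      rw [hx, cyc_apply_other hz.1 hz.2.1 hz.2.2]
    · intro z hz
      simp only [Finset.mem_insert, Finset.mem_singleton] at hz
      rcases hz with rfl | rfl | rfl <;> assumption
  have step : ∀ i : ℕ, π u a = (y ^ i) a → Commute u x := by
    intro i hi
    have hxi : π ((x ^ i)⁻¹ * u) = (y ^ i)⁻¹ * π u := by rw [map_mul, map_inv, map_pow, hx]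
    have h1 : Commute ((x ^ i)⁻¹ * u) x := by
      refine key _ ?_ ?_
      · rw [hxi]
        exact (Commute.inv_left ((Commute.refl y).pow_left i)).mul_left hu
      · rw [hxi, Perm.mul_apply, hi]
        simp
    have h2 : Commute (x ^ i) x := (Commute.refl x).pow_left i
    have h3 := h2.mul_left h1
    rwa [mul_inv_cancel_left] at h3
  rcases hmem with h1 | h1 | h1
  · exact step 0 (by simpa using h1)
  · exact step 1 (by rw [pow_one, hya, h1])
  · exact step 2 (by rw [pow_two, Perm.mul_apply, hya, hyb, h1])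

theorem T_eq {a b c : α} (h : D3 a b c) {g x : G}
    (hg : π g * cyc a b c * (π g)⁻¹ = (cyc a b c)⁻¹) (hx : π x = cyc a b c) :
    T π a b c = ⁅g, x⁆ := by
  set g₀ := Classical.epsilon fun g : G => π g * cyc a b c * (π g)⁻¹ = (cyc a b c)⁻¹ with hg₀
  have hspec : π g₀ * cyc a b c * (π g₀)⁻¹ = (cyc a b c)⁻¹ :=
    Classical.epsilon_spec (hπ.exists_inverter h)
  have hu : Commute (π (g₀⁻¹ * g)) (cyc a b c) := by
    have h1 : π g * cyc a b c * (π g)⁻¹ = π g₀ * cyc a b c * (π g₀)⁻¹ := by rw [hg, hspec]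
    rw [Commute, SemiconjBy, map_mul, map_inv]
    calc (π g₀)⁻¹ * π g * cyc a b c
        = (π g₀)⁻¹ * (π g * cyc a b c * (π g)⁻¹) * π g := by group
      _ = cyc a b c * ((π g₀)⁻¹ * π g) := by rw [h1]; group
  have hc : Commute (g₀⁻¹ * g) x := hπ.commute_centralizer h hx hu
  rw [T, ← hg₀, hπ.comm_center (show π (lft π (cyc a b c)) = π x by rw [hπ.map_lft_cyc, hx]),
    commutatorElement_def, commutatorElement_def]
  have h2 : g * x * g⁻¹ = g₀ * x * g₀⁻¹ := by
    calc g * x * g⁻¹ = g₀ * ((g₀⁻¹ * g) * x * (g₀⁻¹ * g)⁻¹) * g₀⁻¹ := by group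
      _ = g₀ * x * g₀⁻¹ := by rw [hc.eq]; group
  rw [h2]

theorem map_T {a b c : α} (h : D3 a b c) : π (T π a b c) = cyc a b c := by
  obtain ⟨g, hg⟩ := hπ.exists_inverter h
  rw [hπ.T_eq h hg (hπ.map_lft_cyc a b c), map_commutatorElement, commutatorElement_def,
    hπ.map_lft_cyc, hg, ← mul_inv_rev, ← pow_two, inv_eq_iff_mul_eq_one, ← pow_succ,
    cyc_pow_three h]

theorem conj_T {a b c : α} (h : D3 a b c) (k : G) :
    k * T π a b c * k⁻¹ = T π (π k a) (π k b) (π k c) := by
  obtain ⟨g, hg⟩ := hπ.exists_inverter h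
  have hg' : π (k * g * k⁻¹) * cyc (π k a) (π k b) (π k c) * (π (k * g * k⁻¹))⁻¹ =
      (cyc (π k a) (π k b) (π k c))⁻¹ := by
    rw [← conj_cyc, map_mul, map_mul, map_inv]
    calc π k * π g * (π k)⁻¹ * (π k * cyc a b c * (π k)⁻¹) * (π k * π g * (π k)⁻¹)⁻¹
        = π k * (π g * cyc a b c * (π g)⁻¹) * (π k)⁻¹ := by group
      _ = _ := by rw [hg]; group
  rw [hπ.T_eq h hg (hπ.map_lft_cyc a b c), conjugate_commutatorElement,
    hπ.T_eq (h.map (π k).injective) hg' (x := k * lft π (cyc a b c) * k⁻¹)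
      (by rw [map_mul, map_mul, map_inv, hπ.map_lft_cyc, conj_cyc])]

theorem T_rot {a b c : α} (h : D3 a b c) : T π b c a = T π a b c := by
  obtain ⟨g, hg⟩ := hπ.exists_inverter h
  rw [hπ.T_eq h hg (hπ.map_lft_cyc a b c),
    hπ.T_eq h.rot (g := g) (x := lft π (cyc a b c)) (by rw [cyc_rot h]; exact hg)
      (by rw [cyc_rot h, hπ.map_lft_cyc])]

theorem T_swap {a b c : α} (h : D3 a b c) : T π b a c = (T π a b c)⁻¹ := by
  obtain ⟨g, hg⟩ := hπ.exists_inverter h
  set x := lft π (cyc a b c) with hx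
  have hxx : π x = cyc a b c := hπ.map_lft_cyc a b c
  have hg' : π g * cyc b a c * (π g)⁻¹ = (cyc b a c)⁻¹ := by
    have h0 := congrArg (fun w => w⁻¹) hg
    simp only [inv_inv, mul_inv_rev] at h0
    rw [cyc_swap h, inv_inv, mul_assoc]
    exact h0
  have h1 : π ⁅g, x⁆ = cyc a b c := by rw [← hπ.T_eq h hg hxx]; exact hπ.map_T h
  have hc : Commute ⁅g, x⁆ x := (hπ.commute_same_image (hxx.trans h1.symm)).symm
  rw [hπ.T_eq h.swap12 hg' (x := x⁻¹) (by rw [map_inv, hxx, cyc_swap h]), hπ.T_eq h hg hxx]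
  calc ⁅g, x⁻¹⁆ = x⁻¹ * ⁅g, x⁆⁻¹ * x := by simp only [commutatorElement_def]; group
    _ = ⁅g, x⁆⁻¹ := by rw [mul_assoc, hc.inv_left.eq]; group

/-- If an element powers a permutation, the commutator with a lift has exponent dividing its
order and is powered the same way, exactly. -/
theorem comm_pow {h x : G} {m q : ℕ} (hconj : π h * π x * (π h)⁻¹ = π x ^ m)
    (hq : π x ^ q = 1) :
    π ⁅h, x⁆ = π x ^ m * (π x)⁻¹ ∧ ⁅h, x⁆ ^ q = 1 ∧ h * ⁅h, x⁆ * h⁻¹ = ⁅h, x⁆ ^ m := by
  set y := ⁅h, x⁆ with hy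
  have hπy : π y = π x ^ m * (π x)⁻¹ := by
    rw [hy, map_commutatorElement, commutatorElement_def, hconj]
  have hyx : h * x * h⁻¹ = y * x := by rw [hy, commutatorElement_def]; group
  obtain ⟨z, hz, hzx⟩ : ∃ z, π z = 1 ∧ h * x * h⁻¹ = z * x ^ m :=
    ⟨h * x * h⁻¹ * (x ^ m)⁻¹, by
      simp only [map_mul, map_inv, map_pow]; rw [hconj, mul_inv_cancel], by group⟩
  have hyval : y = z * x ^ m * x⁻¹ := by rw [← hzx, hyx]; group
  have hcyx : Commute y x := by
    rw [hyval]
    exact (((hπ.central z hz x).mul_left ((Commute.refl x).pow_left m))).mul_left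
      (Commute.refl x).inv_left
  refine ⟨hπy, ?_, ?_⟩
  · have h1 : h * x ^ q * h⁻¹ = x ^ q := by
      rw [hπ.central' (show π (x ^ q) = 1 by rw [map_pow, hq]) h]; group
    rw [← conj_pow, hyx, hcyx.mul_pow] at h1
    exact mul_eq_right.1 h1
  · have h2 : h * y * h⁻¹ = ⁅h, h * x * h⁻¹⁆ := by
      rw [hy, commutatorElement_def, commutatorElement_def]; group
    rw [h2, hzx, hπ.comm_center (show π (z * x ^ m) = π (x ^ m) by rw [map_mul, hz, one_mul]),
      commutatorElement_def, ← conj_pow, hyx, hcyx.mul_pow, mul_inv_cancel_right]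

theorem T_pow_three {a b c : α} (h : D3 a b c) : T π a b c ^ 3 = 1 := by
  obtain ⟨g, hg⟩ := hπ.exists_inverter h
  have hx := hπ.map_lft_cyc a b c
  rw [hπ.T_eq h hg hx]
  refine (hπ.comm_pow (m := 2) ?_ (by rw [hx, cyc_pow_three h])).2.1
  rw [hx, hg, inv_eq_iff_mul_eq_one, ← pow_succ', cyc_pow_three h]

end Cov

end CfsgLib.AltSection
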