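import Cfsg.Agent.Lib.AltSection.Extend
import Cfsg.Agent.Lib.AltSection.Weights
import Cfsg.Agent.Lib.AltSection.Count

/-!
Weights of an elementary abelian group generated by disjoint three-cycles, away from
characteristic three.
-/

set_option autoImplicit false

namespace CfsgLib.AltSection

open Equiv Module
open scoped commutatorElement

variable {k : Type*} [Field k] {V : Type*} [AddCommGroup V] [Module k V] {G : Type*} [Group G]
  {α : Type*} [Fintype α] [DecidableEq α] {ρ : Representation k G V} {π : G →* Perm α}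

/-- The canonical lifts of a family of disjoint three-cycles. -/
noncomputable def blockT (π : G →* Perm α) {m : ℕ} (e : Fin m × Fin 3 → α) (i : Fin m) : G :=
  T π (e (i, 0)) (e (i, 1)) (e (i, 2))

theorem block_D3 {m : ℕ} {e : Fin m × Fin 3 → α} (he : Function.Injective e) (i : Fin m) :
    D3 (e (i, 0)) (e (i, 1)) (e (i, 2)) :=
  ⟨fun h => by simpa using he h, fun h => by simpa using he h, fun h => by simpa using he h⟩

theorem eigen_zero_eq_fixedSp {q : ℕ} (g : G) (ω : k) :
    Module.End.eigenspace (ρ g) (ω ^ (0 : ZMod q).val) = fixedSp ρ g := by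
  ext v
  rw [Module.End.mem_eigenspace_iff, mem_fixedSp, ZMod.val_zero, pow_zero, one_smul]

namespace Setup

variable [FiniteDimensional k V] (hs : Setup ρ π)
include hs

theorem T_ne_one {a b c : α} (h : D3 a b c) : T π a b c ≠ 1 := fun h1 => by
  have h2 := hs.map_T h
  rw [h1, map_one] at h2
  have h3 := cyc_apply_fst (b := b) h.2.1 h.2.2
  rw [← h2, Perm.one_apply] at h3
  exact h.1 h3

theorem blockT_tor [IsAlgClosed k] {ω : k} (hω : IsPrimitiveRoot ω 3) (h3 : (3 : k) ≠ 0) {m : ℕ}
    {e : Fin m × Fin 3 → α} (he : Function.Injective e) : Tor ρ 3 (blockT π e) ω := by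
  refine ⟨fun i j => ?_, fun i => hs.T_pow_three (block_D3 he i), by exact_mod_cast h3, hω⟩
  by_cases hij : i = j
  · subst hij; exact Commute.refl _
  refine hs.commute_disjoint (S := {e (j, 0), e (j, 1), e (j, 2)}) ?_ ?_ ?_
  · rw [Finset.card_compl]
    have := hs.nine
    have := (Finset.card_le_three (a := e (j, 0)) (b := e (j, 1)) (c := e (j, 2)))
    omega
  · intro x hx
    simp only [Finset.mem_insert, Finset.mem_singleton, not_or] at hx
    rw [blockT, hs.map_T (block_D3 he j), cyc_apply_other hx.1 hx.2.1 hx.2.2]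
  · intro x hx
    simp only [Finset.mem_insert, Finset.mem_singleton] at hx
    rw [blockT, hs.map_T (block_D3 he i)]
    rcases hx with rfl | rfl | rfl <;>
      exact cyc_apply_other (fun h => hij (congrArg Prod.fst (he h)).symm)
        (fun h => hij (congrArg Prod.fst (he h)).symm) fun h => hij (congrArg Prod.fst (he h)).symm

theorem T_swap23 {a b c : α} (h : D3 a b c) : T π a c b = T π a b c ^ 2 := by
  have h1 : T π a b c ^ 2 = (T π a b c)⁻¹ :=
    eq_inv_of_mul_eq_one_left (by rw [← pow_succ, hs.T_pow_three h])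
  rw [h1, ← hs.T_swap h, hs.T_rot h.swap12]

theorem blockT_sswap [IsAlgClosed k] {ω : k} (hω : IsPrimitiveRoot ω 3) {m : ℕ}
    {e : Fin m × Fin 3 → α} (he : Function.Injective e) {i j : Fin m} (hij : i ≠ j)
    (χ : Fin m → ZMod 3) :
    mult ρ (blockT π e) ω χ ≤ mult ρ (blockT π e) ω (sswap i j χ) := by
  set σ : Perm α := swap (e (i, 1)) (e (i, 2)) * swap (e (i, 0)) (e (j, 0)) *
    swap (e (i, 1)) (e (j, 1)) * swap (e (i, 2)) (e (j, 2)) with hσdef
  have hne : ∀ x y : Fin m × Fin 3, x ≠ y → e x ≠ e y := fun x y h => he.ne h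
  have hmem : σ ∈ alternatingGroup α := by
    rw [Perm.mem_alternatingGroup, hσdef, map_mul, map_mul, map_mul,
      Perm.sign_swap (hne _ _ (by simp)), Perm.sign_swap (hne _ _ (by simp [hij])),
      Perm.sign_swap (hne _ _ (by simp [hij])), Perm.sign_swap (hne _ _ (by simp [hij]))]
    rfl
  have hπh := hs.map_lft hmem
  have hsw : ∀ (x y z : Fin m × Fin 3), z ≠ x → z ≠ y → swap (e x) (e y) (e z) = e z :=
    fun x y z h1 h2 => swap_apply_of_ne_of_ne (hne _ _ h1) (hne _ _ h2)
  have hji : j ≠ i := hij.symm
  have hi0 : σ (e (i, 0)) = e (j, 0) := by simp [hσdef, hsw, hij, hji]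
  have hi1 : σ (e (i, 1)) = e (j, 1) := by simp [hσdef, hsw, hij, hji]
  have hi2 : σ (e (i, 2)) = e (j, 2) := by simp [hσdef, hsw, hij, hji]
  have hj0 : σ (e (j, 0)) = e (i, 0) := by simp [hσdef, hsw, hij, hji]
  have hj1 : σ (e (j, 1)) = e (i, 2) := by simp [hσdef, hsw, hij, hji]
  have hj2 : σ (e (j, 2)) = e (i, 1) := by simp [hσdef, hsw, hij, hji]
  have hx : ∀ x, x ≠ i → x ≠ j → ∀ t, σ (e (x, t)) = e (x, t) := fun x h1 h2 t => by
    simp [hσdef, hsw, h1, h2]
  let mm : Fin m → ZMod 3 := fun x => if x = j then 2 else 1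
  have hg : ∀ x, (lft π σ)⁻¹⁻¹ * blockT π e x * (lft π σ)⁻¹ =
      blockT π e (swap i j x) ^ (mm x).val := by
    intro x
    rw [inv_inv, blockT, hs.conj_T (block_D3 he x), hπh]
    by_cases hxi : x = i
    · subst hxi
      rw [hi0, hi1, hi2, swap_apply_left]
      simp [mm, hij, blockT, ZMod.val_one]
    by_cases hxj : x = j
    · subst hxj
      rw [hj0, hj1, hj2, swap_apply_right, hs.T_swap23 (block_D3 he i)]
      simp [mm, blockT]
      rfl
    rw [hx x hxi hxj, hx x hxi hxj, hx x hxi hxj, swap_apply_of_ne_of_ne hxi hxj]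
    simp [mm, hxj, blockT, ZMod.val_one]
  have h := mult_le (ρ := ρ) hω (lft π σ)⁻¹ (swap i j) mm hg χ
  have heq : (fun x => mm x * χ (swap i j x)) = sswap i j χ := by
    funext x
    by_cases hxi : x = i
    · subst hxi; rw [sswap_left hij]; simp [mm, hij]
    by_cases hxj : x = j
    · subst hxj
      rw [sswap_right]
      have h3 : ∀ z : ZMod 3, 2 * z = -z := by decide
      simp [mm, h3]
    rw [sswap_other hxi hxj]; simp [mm, hxj, swap_apply_of_ne_of_ne hxi hxj]
  rwa [heq] at h

theorem mult_suppSet [IsAlgClosed k] {ω : k} (hω : IsPrimitiveRoot ω 3) (h3 : (3 : k) ≠ 0) {m : ℕ}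
    (hm : 3 ≤ m) {e : Fin m × Fin 3 → α} (he : Function.Injective e) (χ : Fin m → ZMod 3) :
    (m.choose (chSupp χ).card * 2 ^ (chSupp χ).card) * mult ρ (blockT π e) ω χ ≤ finrank k V := by
  rw [← card_suppSet]
  refine (hs.blockT_tor hω h3 he).card_mul_le _ fun χ' hχ' => ?_
  refine (d_card_eq hm (d := fun χ => mult ρ (blockT π e) ω χ)
    (fun i j hij χ => hs.blockT_sswap hω he hij χ) χ χ' ?_).le
  exact (Finset.mem_filter.1 hχ').2.symm

/-- The two possible shapes of a family of disjoint three-cycles in a small representation. -/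
theorem cycle_shape [IsAlgClosed k] (h3 : (3 : k) ≠ 0) {m : ℕ} (hm : m = Fintype.card α / 3)
    (hsmall : finrank k V + 2 ≤ Fintype.card α) {e : Fin m × Fin 3 → α}
    (he : Function.Injective e) :
    (∀ i, finrank k (moved ρ (blockT π e i)) = 2 ∧
      ∀ j, j ≠ i → ∀ v ∈ moved ρ (blockT π e i), ρ (blockT π e j) v = v) ∨
    (Fintype.card α ≤ 11 ∧ ∀ i, finrank k (moved ρ (blockT π e i)) = 8 ∧
      ∀ j, fixedSp ρ (blockT π e i) = fixedSp ρ (blockT π e j)) := by
  classical
  obtain ⟨ω, hω⟩ : ∃ ω : k, IsPrimitiveRoot ω 3 := exists_primitive (by exact_mod_cast h3)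
  have hm3 : 3 ≤ m := by have := hs.nine; omega
  have hn : finrank k V ≤ 3 * m := by omega
  have hT := hs.blockT_tor hω h3 he
  set d := fun χ => mult ρ (blockT π e) ω χ with hd
  have hR : ∀ i j : Fin m, i ≠ j → ∀ χ, d χ ≤ d (sswap i j χ) :=
    fun i j hij χ => hs.blockT_sswap hω he hij χ
  have hbound := hs.mult_suppSet hω h3 hm3 he
  have hmid : ∀ χ, 0 < d χ → (chSupp χ).card ≤ 1 ∨ (chSupp χ).card = m := by
    intro χ hχ
    by_contra hc
    push Not at hc
    have hle : (chSupp χ).card ≤ m :=
      (Finset.card_le_univ _).trans (Fintype.card_fin m).le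
    have h1 := le_choose (m := m) (s := (chSupp χ).card) (by omega) (by omega)
    have h2 : 2 ^ 2 ≤ 2 ^ (chSupp χ).card := Nat.pow_le_pow_right (by norm_num) (by omega)
    have h5 : m * 4 ≤ m.choose (chSupp χ).card * 2 ^ (chSupp χ).card :=
      Nat.mul_le_mul h1 (by omega)
    have h6 := hbound χ
    have h7 : m * 4 ≤ finrank k V :=
      le_trans (le_trans h5 (Nat.le_mul_of_pos_right _ hχ)) h6
    omega
  have hfull : ∀ χ, 0 < d χ → (chSupp χ).card = m → m = 3 ∧ d χ = 1 := by
    intro χ hχ hc
    have h6 := hbound χ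
    rw [hc, Nat.choose_self, one_mul] at h6
    have h7 : 2 ^ m ≤ finrank k V := le_trans (Nat.le_mul_of_pos_right _ hχ) h6
    have h8 : m = 3 := by
      by_contra hne
      have h9 : ∀ m, 4 ≤ m → 3 * m + 1 ≤ 2 ^ m := by
        intro m hm
        induction m, hm using Nat.le_induction with
        | base => norm_num
        | succ m hm ih => rw [pow_succ]; omega
      have := h9 m (by omega)
      omega
    subst h8
    refine ⟨rfl, ?_⟩
    have h10 : 8 * d χ ≤ finrank k V := h6
    omega
  have hfix : ∀ i, finrank k (fixedSp ρ (blockT π e i)) =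
      ∑ χ ∈ Finset.univ.filter (fun χ : Fin m → ZMod 3 => χ i = 0), d χ := fun i => by
    rw [← eigen_zero_eq_fixedSp (q := 3) (blockT π e i) ω, hT.dim_eigen]
  have hmoved : ∀ i, finrank k (moved ρ (blockT π e i)) =
      ∑ χ ∈ Finset.univ.filter (fun χ : Fin m → ZMod 3 => χ i ≠ 0), d χ := fun i => by
    have h1 := finrank_moved_add (ρ := ρ) (blockT π e i)
    have h2 := Finset.sum_filter_add_sum_filter_not Finset.univ
      (fun χ : Fin m → ZMod 3 => χ i = 0) d
    rw [hfix i] at h1
    have h4 : finrank k V = ∑ χ, d χ := hT.dim_eq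
    simp only [ne_eq]
    omega
  by_cases hA : ∃ χ, 0 < d χ ∧ (chSupp χ).card = m
  · -- all nontrivial weights have full support
    obtain ⟨χ₀, hχ₀, hc₀⟩ := hA
    obtain ⟨hm', hd₀⟩ := hfull χ₀ hχ₀ hc₀
    have honly : ∀ χ, 0 < d χ → (chSupp χ).card ≠ 1 := by
      intro χ hχ hc
      have hsum := hT.sum_le (suppSet m 1 ∪ suppSet m m)
      rw [Finset.sum_union (by
        rw [Finset.disjoint_left]
        intro x h1 h2
        simp only [suppSet, Finset.mem_filter] at h1 h2
        omega)] at hsum
      have h1 : ∀ s (ψ : Fin m → ZMod 3), (chSupp ψ).card = s → 0 < d ψ →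
          (suppSet m s).card ≤ ∑ x ∈ suppSet m s, d x := by
        intro s ψ hψ hpos
        rw [Finset.card_eq_sum_ones]
        refine Finset.sum_le_sum fun x hx => ?_
        rw [d_card_eq hm3 hR x ψ (by rw [(Finset.mem_filter.1 hx).2, hψ])]
        exact hpos
      have e1 := h1 1 χ hc hχ
      have e3 := h1 m χ₀ hc₀ hχ₀
      rw [card_suppSet] at e1 e3
      subst hm'
      norm_num [Nat.choose] at e1 e3
      simp only [hd] at hsum e1 e3
      omega
    refine Or.inr ⟨by subst hm'; omega, fun i => ⟨?_, fun j => ?_⟩⟩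
    · rw [hmoved]
      have h1 : ∑ χ ∈ Finset.univ.filter (fun χ : Fin m → ZMod 3 => χ i ≠ 0), d χ =
          ∑ χ ∈ suppSet m m, d χ := by
        refine (Finset.sum_subset ?_ ?_).symm
        · intro x hx
          simp only [suppSet, Finset.mem_filter, Finset.mem_univ, true_and] at hx ⊢
          have := Finset.eq_univ_of_card (chSupp x) (by rw [hx, Fintype.card_fin])
          exact mem_chSupp.1 (this ▸ Finset.mem_univ i)
        · intro x hx hnot
          simp only [suppSet, Finset.mem_filter, Finset.mem_univ, true_and] at hx hnot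
          by_contra hne
          rcases hmid x (Nat.pos_of_ne_zero hne) with hle | heq
          · have hpos : 0 < (chSupp x).card := Finset.card_pos.2 ⟨i, mem_chSupp.2 hx⟩
            exact honly x (Nat.pos_of_ne_zero hne) (by omega)
          · exact hnot heq
      rw [h1, Finset.sum_eq_card_nsmul (b := 1), card_suppSet]
      · subst hm'; norm_num
      · intro x hx
        rw [d_card_eq hm3 hR x χ₀ (by rw [(Finset.mem_filter.1 hx).2, hc₀])]
        exact hd₀
    · have h0 : ∀ i, fixedSp ρ (blockT π e i) = wt ρ (blockT π e) ω (0 : Fin m → ZMod 3) := by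
        intro i
        refine (Submodule.eq_of_le_of_finrank_le ?_ ?_).symm
        · intro v hv
          rw [mem_fixedSp]
          simpa using mem_wt.1 hv i
        · rw [hfix i, Finset.sum_eq_single (0 : Fin m → ZMod 3)]
          · exact le_rfl
          · intro x hx hx0
            simp only [Finset.mem_filter, Finset.mem_univ, true_and] at hx
            by_contra hne
            rcases hmid x (Nat.pos_of_ne_zero hne) with hle | heq
            · obtain ⟨l, hl⟩ := Function.ne_iff.1 hx0
              have hpos : 0 < (chSupp x).card := Finset.card_pos.2 ⟨l, mem_chSupp.2 hl⟩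
              exact honly x (Nat.pos_of_ne_zero hne) (by omega)
            · have := Finset.eq_univ_of_card (chSupp x) (by rw [heq, Fintype.card_fin])
              exact mem_chSupp.1 (this ▸ Finset.mem_univ i) hx
          · intro h; simp at h
      rw [h0 i, h0 j]
  · push Not at hA
    have hsup : ∀ χ, 0 < d χ → (chSupp χ).card ≤ 1 := fun χ hχ =>
      (hmid χ hχ).resolve_right (hA χ hχ)
    have hone : ∀ χ i, χ i ≠ 0 → 0 < d χ → ∀ l, l ≠ i → χ l = 0 := fun χ i hi hχ l hl => by
      by_contra hne
      exact hl (Finset.card_le_one.1 (hsup χ hχ) l (mem_chSupp.2 hne) i (mem_chSupp.2 hi))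
    refine Or.inl fun i => ⟨?_, fun j hj v hv => ?_⟩
    · rw [hmoved]
      have hsingle : ∀ c : ZMod 3, c ≠ 0 → chSupp (Pi.single i c) = {i} := by
        intro c hc
        ext l
        rw [mem_chSupp, Finset.mem_singleton]
        by_cases hl : l = i
        · subst hl; simp [hc]
        · simp [hl]
      have hsub : ∑ χ ∈ Finset.univ.filter (fun χ : Fin m → ZMod 3 => χ i ≠ 0), d χ =
          d (Pi.single i 1) + d (Pi.single i 2) := by
        have hne12 : (Pi.single i 1 : Fin m → ZMod 3) ≠ Pi.single i 2 := fun h => by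
          have := congrFun h i
          simp at this
          exact absurd this (by decide)
        rw [← Finset.sum_pair hne12]
        refine (Finset.sum_subset ?_ ?_).symm
        · intro x hx
          simp only [Finset.mem_insert, Finset.mem_singleton] at hx
          simp only [Finset.mem_filter, Finset.mem_univ, true_and]
          rcases hx with rfl | rfl <;> simp <;> decide
        · intro x hx hnot
          simp only [Finset.mem_filter, Finset.mem_univ, true_and] at hx
          by_contra hne
          have hz := hone x i hx (Nat.pos_of_ne_zero hne)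
          refine hnot ?_
          have hx2 : ∀ z : ZMod 3, z ≠ 0 → z = 1 ∨ z = 2 := by decide
          have hxe : x = Pi.single i (x i) := funext fun l => by
            by_cases hl : l = i
            · subst hl; simp
            · simp [hl, hz l hl]
          rcases hx2 _ hx with h | h <;> rw [hxe, h] <;> simp
      rw [hsub]
      have e2 : d (Pi.single i 2) = d (Pi.single i 1) := d_card_eq hm3 hR _ _ (by
        rw [hsingle 2 (by decide), hsingle 1 (by decide)])
      have hpos : d (Pi.single i 1) ≠ 0 := by
        intro h0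
        refine hs.T_ne_one (block_D3 he i) (hT.eq_one_of_mult_zero hs.inj i fun χ hχ => ?_)
        by_contra hne
        have h11 : (chSupp χ).card = (chSupp (Pi.single i (1 : ZMod 3))).card := by
          have hle := hsup χ (Nat.pos_of_ne_zero hne)
          have hgt : 0 < (chSupp χ).card := Finset.card_pos.2 ⟨i, mem_chSupp.2 hχ⟩
          rw [hsingle 1 (by decide), Finset.card_singleton]
          omega
        exact hne ((d_card_eq hm3 hR χ _ h11).trans h0)
      have h12 := hbound (Pi.single i 1)
      rw [hsingle 1 (by decide), Finset.card_singleton, Nat.choose_one_right, pow_one] at h12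
      have h13 : m * 2 * d (Pi.single i 1) ≤ finrank k V := h12
      have h14 : d (Pi.single i 1) < 2 := by
        by_contra hge
        have : m * 2 * 2 ≤ m * 2 * d (Pi.single i 1) := Nat.mul_le_mul_left _ (by omega)
        omega
      omega
    · obtain ⟨w, rfl⟩ := hv
      have hzero : (ρ (blockT π e j) - 1) * (ρ (blockT π e i) - 1) = 0 := by
        refine hT.eq_zero_of_wt _ fun χ u hu => ?_
        rw [Module.End.mul_apply, LinearMap.sub_apply (f := ρ (blockT π e i)), mem_wt.1 hu i,
          Module.End.one_apply]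
        by_cases h1 : χ i = 0
        · simp [h1]
        rcases Nat.eq_zero_or_pos (d χ) with h0 | hpos
        · have h5 : wt ρ (blockT π e) ω χ = ⊥ := Submodule.finrank_eq_zero.1 h0
          rw [h5, Submodule.mem_bot] at hu
          simp [hu]
        · have h2 := hone χ i h1 hpos j hj
          rw [map_sub, map_smul, LinearMap.sub_apply, mem_wt.1 hu j, h2]
          simp
      have := DFunLike.congr_fun hzero w
      rw [Module.End.mul_apply, LinearMap.sub_apply, LinearMap.zero_apply, sub_eq_zero] at this
      exact this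

end Setup

end CfsgLib.AltSection
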