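import Cfsg.Agent.Lib.AltSection.QuadBase
import Cfsg.Agent.Lib.AltSection.Cycle3

/-!
Weights of an elementary abelian group generated by the canonical involutions of disjoint
four-point blocks, in characteristic three.
-/

set_option autoImplicit false

namespace CfsgLib.AltSection

open Equiv Module
open scoped commutatorElement

section count

variable {m : ℕ}

/-- The cyclic move of the three nonzero values. -/
def cyc4 : Fin 4 → Fin 4 := ![0, 3, 1, 2]

/-- The support of a block labelling. -/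
def bSupp (ψ : Fin m → Fin 4) : Finset (Fin m) := Finset.univ.filter fun i => ψ i ≠ 0

theorem mem_bSupp {ψ : Fin m → Fin 4} {i : Fin m} : i ∈ bSupp ψ ↔ ψ i ≠ 0 := by simp [bSupp]

/-- The labellings with a given size of support. -/
def bSet (m s : ℕ) : Finset (Fin m → Fin 4) := Finset.univ.filter fun ψ => (bSupp ψ).card = s

theorem card_bSet (m s : ℕ) : (bSet m s).card = m.choose s * 3 ^ s := by
  classical
  have h : bSet m s = ((Finset.univ : Finset (Fin m)).powersetCard s).biUnion fun A =>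
      Finset.univ.filter fun ψ : Fin m → Fin 4 => bSupp ψ = A := by
    ext ψ
    simp [bSet]
  rw [h, Finset.card_biUnion, Finset.sum_eq_card_nsmul (b := 3 ^ s) (s := _)]
  · simp [Finset.card_powersetCard]
  · intro A hA
    have h2 : (Finset.univ.filter fun ψ : Fin m → Fin 4 => bSupp ψ = A) =
        Fintype.piFinset fun i => if i ∈ A then ({1, 2, 3} : Finset (Fin 4)) else {0} := by
      ext ψ
      simp only [Finset.mem_filter, Finset.mem_univ, true_and, Fintype.mem_piFinset]
      constructor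
      · rintro rfl i
        have h3 : ∀ x : Fin 4, x ≠ 0 → x = 1 ∨ x = 2 ∨ x = 3 := by decide
        split_ifs with hi
        · simpa using h3 _ (mem_bSupp.1 hi)
        · simpa [mem_bSupp] using hi
      · intro hψ
        ext i
        rw [mem_bSupp]
        have h3 := hψ i
        split_ifs at h3 with hi
        · simp only [Finset.mem_insert, Finset.mem_singleton] at h3
          rcases h3 with h3 | h3 | h3 <;> simp [h3, hi]
        · simp only [Finset.mem_singleton] at h3
          simp [h3, hi]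
    rw [h2, Fintype.card_piFinset]
    have h4 : ∀ i : Fin m, (if i ∈ A then ({1, 2, 3} : Finset (Fin 4)) else {0}).card =
        if i ∈ A then 3 else 1 := fun i => by split_ifs <;> rfl
    simp [h4, Finset.prod_ite_mem, (Finset.mem_powersetCard.1 hA).2]
  · intro A _ B _ hAB
    rw [Function.onFun, Finset.disjoint_left]
    intro χ hA hB
    simp only [Finset.mem_filter] at hA hB
    exact hAB (hA.2.symm.trans hB.2)

variable {D : (Fin m → Fin 4) → ℕ}
  (hswap : ∀ i j, ∀ ψ, D ψ ≤ D (fun x => ψ (swap i j x)))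
  (hcyc : ∀ i, ∀ ψ, D ψ ≤ D (Function.update ψ i (cyc4 (ψ i))))
include hswap hcyc

omit hswap in
theorem D_cyc (i : Fin m) (ψ : Fin m → Fin 4) : D (Function.update ψ i (cyc4 (ψ i))) = D ψ := by
  refine le_antisymm ?_ (hcyc i ψ)
  have h3 : ∀ x : Fin 4, cyc4 (cyc4 (cyc4 x)) = x := by decide
  have h1 := hcyc i (Function.update ψ i (cyc4 (ψ i)))
  have h2 := hcyc i (Function.update ψ i (cyc4 (cyc4 (ψ i))))
  simp only [Function.update_self, Function.update_idem, h3, Function.update_eq_self] at h1 h2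
  exact h1.trans h2

omit hswap in
theorem D_supp_eq : ∀ (S : Finset (Fin m)) (ψ ψ' : Fin m → Fin 4),
    (∀ i, i ∉ S → ψ i = ψ' i) → (∀ i ∈ S, ψ i ≠ 0 ∧ ψ' i ≠ 0) → D ψ = D ψ' := by
  intro S
  induction S using Finset.induction_on with
  | empty => intro ψ ψ' h _; congr 1; exact funext fun i => h i (Finset.notMem_empty i)
  | insert a S ha ih =>
    intro ψ ψ' h1 h2
    have hone : ∀ i ψ x, ψ i ≠ 0 → x ≠ 0 → D (Function.update ψ i x) = D ψ := by
      intro i ψ x hi hx
      have h3 : ∀ y x : Fin 4, y ≠ 0 → x ≠ 0 → x = y ∨ x = cyc4 y ∨ x = cyc4 (cyc4 y) := by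
        decide
      rcases h3 _ x hi hx with rfl | rfl | rfl
      · rw [Function.update_eq_self]
      · exact D_cyc hcyc i ψ
      · have h4 := D_cyc hcyc i (Function.update ψ i (cyc4 (ψ i)))
        rw [Function.update_self, Function.update_idem] at h4
        rw [h4, D_cyc hcyc i ψ]
    obtain ⟨ha1, ha2⟩ := h2 a (Finset.mem_insert_self a S)
    rw [← hone a ψ (ψ' a) ha1 ha2]
    refine ih _ _ (fun i hi => ?_) fun i hi => ?_
    · by_cases hia : i = a
      · subst hia; rw [Function.update_self]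
      · rw [Function.update_of_ne hia]; exact h1 i (by simp [hia, hi])
    · have hia : i ≠ a := fun h => ha (h ▸ hi)
      rw [Function.update_of_ne hia]
      exact h2 i (Finset.mem_insert_of_mem hi)

omit hcyc in
theorem D_perm (σ : Perm (Fin m)) : ∀ ψ, D (fun x => ψ (σ x)) = D ψ := by
  induction σ using Equiv.Perm.swap_induction_on with
  | one => intro ψ; rfl
  | swap_mul f x y hxy ih =>
    intro ψ
    refine (ih (fun z => ψ (swap x y z))).trans (le_antisymm ?_ (hswap x y ψ))
    have := hswap x y (fun z => ψ (swap x y z))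
    simpa using this

theorem D_card_eq (ψ ψ' : Fin m → Fin 4) (h : (bSupp ψ).card = (bSupp ψ').card) :
    D ψ = D ψ' := by
  classical
  have hc : Fintype.card {i // ψ' i ≠ 0} = Fintype.card {i // ψ i ≠ 0} := by
    rw [Fintype.card_subtype, Fintype.card_subtype]; exact h.symm
  set σ := (Fintype.equivOfCardEq hc).extendSubtype with hσ
  rw [← D_perm hswap σ ψ]
  refine D_supp_eq hcyc (Finset.univ.filter fun i => ψ (σ i) ≠ ψ' i) _ _
    (fun i hi => by simpa using hi) fun i hi => ?_
  simp only [Finset.mem_filter, Finset.mem_univ, true_and] at hi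
  by_cases hy : ψ' i = 0
  · exfalso
    refine hi ?_
    rw [hy]
    by_contra hx
    exact Equiv.extendSubtype_not_mem (p := fun z => ψ' z ≠ 0) (q := fun z => ψ z ≠ 0)
      (Fintype.equivOfCardEq hc) i (fun h => h hy) hx
  · exact ⟨Equiv.extendSubtype_mem (p := fun z => ψ' z ≠ 0) (q := fun z => ψ z ≠ 0)
      (Fintype.equivOfCardEq hc) i hy, hy⟩

end count

variable {k : Type*} [Field k] {V : Type*} [AddCommGroup V] [Module k V] {G : Type*} [Group G]
  {α : Type*} [Fintype α] [DecidableEq α] {ρ : Representation k G V} {π : G →* Perm α}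

/-- The involutions of a family of disjoint four-point blocks. -/
noncomputable def blockU (π : G →* Perm α) {m : ℕ} (e : Fin m × Fin 4 → α) (x : Fin m × Fin 3) :
    G :=
  ![Uq π (e (x.1, 0)) (e (x.1, 1)) (e (x.1, 2)) (e (x.1, 3)),
    Uq π (e (x.1, 0)) (e (x.1, 2)) (e (x.1, 3)) (e (x.1, 1)),
    Uq π (e (x.1, 0)) (e (x.1, 3)) (e (x.1, 1)) (e (x.1, 2))] x.2

/-- The character attached to a labelling. -/
def bChar {m : ℕ} (ψ : Fin m → Fin 4) : Fin m × Fin 3 → ZMod 2 :=
  fun x => if ψ x.1 = 0 ∨ ψ x.1 = x.2.succ then 0 else 1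

theorem bChar_injective {m : ℕ} : Function.Injective (bChar (m := m)) := by
  intro ψ ψ' h
  funext i
  have key : ∀ a b : Fin 4, (∀ j : Fin 3, (if a = 0 ∨ a = j.succ then (0 : ZMod 2) else 1) =
      if b = 0 ∨ b = j.succ then 0 else 1) → a = b := by decide
  exact key _ _ fun j => congrFun h (i, j)

theorem block_D4 {m : ℕ} {e : Fin m × Fin 4 → α} (he : Function.Injective e) (i : Fin m) :
    D4 (e (i, 0)) (e (i, 1)) (e (i, 2)) (e (i, 3)) :=
  ⟨fun h => by simpa using he h, fun h => by simpa using he h, fun h => by simpa using he h,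
    fun h => by simpa using he h, fun h => by simpa using he h, fun h => by simpa using he h⟩

theorem eigen_one_eq_negSp (g : G) :
    Module.End.eigenspace (ρ g) ((-1 : k) ^ (1 : ZMod 2).val) = negSp ρ g := by
  ext v
  rw [Module.End.mem_eigenspace_iff, mem_negSp, ZMod.val_one, pow_one, neg_one_smul]

namespace Setup

variable (hs : Setup ρ π) (hl : Linear π)
include hs hl

theorem blockU_tor [IsAlgClosed k] (h2 : (2 : k) ≠ 0) {m : ℕ} {e : Fin m × Fin 4 → α}
    (he : Function.Injective e) : Tor ρ 2 (blockU π e) (-1 : k) := by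
  have hD := block_D4 he
  have hsq : ∀ x, blockU π e x ^ 2 = 1 := by
    intro ⟨i, j⟩
    rw [pow_two]
    fin_cases j
    · exact hs.Uq_sq hl (hD i)
    · exact hs.Uq_sq hl (hD i).rot
    · exact hs.Uq_sq hl (hD i).rot.rot
  refine ⟨fun ⟨i, j⟩ ⟨i', j'⟩ => ?_, hsq, by exact_mod_cast h2, ?_⟩
  · by_cases hii : i = i'
    · subst hii
      have c01 := hs.Uq_commute_same hl (hD i)
      have c12 := hs.Uq_commute_same hl (hD i).rot
      have c20 := hs.Uq_commute_same hl (hD i).rot.rot
      fin_cases j <;> fin_cases j' <;> first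
        | exact Commute.refl _ | exact c01 | exact c01.symm | exact c12 | exact c12.symm
        | exact c20 | exact c20.symm
    · have hne : ∀ a b, e (i, a) ≠ e (i', b) := fun a b h => hii (congrArg Prod.fst (he h))
      have hA : ∀ (a b c d a' b' c' d' : Fin 4), D4 (e (i, a)) (e (i, b)) (e (i, c)) (e (i, d)) →
          D4 (e (i', a')) (e (i', b')) (e (i', c')) (e (i', d')) →
          Commute (Uq π (e (i, a)) (e (i, b)) (e (i, c)) (e (i, d)))
            (Uq π (e (i', a')) (e (i', b')) (e (i', c')) (e (i', d'))) :=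
        fun a b c d a' b' c' d' h h' => hs.Uq_commute_disjoint hl h h'
          ⟨hne _ _, hne _ _, hne _ _, hne _ _⟩ ⟨hne _ _, hne _ _, hne _ _, hne _ _⟩
          ⟨hne _ _, hne _ _, hne _ _, hne _ _⟩ ⟨hne _ _, hne _ _, hne _ _, hne _ _⟩
      fin_cases j <;> fin_cases j' <;>
        first
          | exact hA _ _ _ _ _ _ _ _ (hD i) (hD i')
          | exact hA _ _ _ _ _ _ _ _ (hD i) (hD i').rot
          | exact hA _ _ _ _ _ _ _ _ (hD i) (hD i').rot.rot
          | exact hA _ _ _ _ _ _ _ _ (hD i).rot (hD i')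
          | exact hA _ _ _ _ _ _ _ _ (hD i).rot (hD i').rot
          | exact hA _ _ _ _ _ _ _ _ (hD i).rot (hD i').rot.rot
          | exact hA _ _ _ _ _ _ _ _ (hD i).rot.rot (hD i')
          | exact hA _ _ _ _ _ _ _ _ (hD i).rot.rot (hD i').rot
          | exact hA _ _ _ _ _ _ _ _ (hD i).rot.rot (hD i').rot.rot
  · refine IsPrimitiveRoot.mk_of_lt (-1 : k) (by norm_num) (by norm_num) fun l hl1 hl2 h => ?_
    obtain rfl : l = 1 := by omega
    rw [pow_one] at h
    refine h2 ?_
    calc (2 : k) = 1 + 1 := by norm_num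
      _ = 1 + -1 := by rw [h]
      _ = 0 := by ring

theorem blockU_prod {m : ℕ} {e : Fin m × Fin 4 → α} (he : Function.Injective e) (i : Fin m) :
    blockU π e (i, 0) * blockU π e (i, 1) * blockU π e (i, 2) = 1 :=
  hs.Uq_prod hl (block_D4 he i)

theorem exists_bChar [FiniteDimensional k V] [IsAlgClosed k] (h2 : (2 : k) ≠ 0) {m : ℕ}
    {e : Fin m × Fin 4 → α} (he : Function.Injective e) {χ : Fin m × Fin 3 → ZMod 2}
    (hχ : mult ρ (blockU π e) (-1 : k) χ ≠ 0) : ∃ ψ, bChar ψ = χ := by
  obtain ⟨v, hv, hv0⟩ := (Submodule.ne_bot_iff _).1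
    (fun h => hχ (by rw [mult, h, finrank_bot]) : wt ρ (blockU π e) (-1 : k) χ ≠ ⊥)
  have hsum : ∀ i, χ (i, 0) + χ (i, 1) + χ (i, 2) = 0 := by
    intro i
    have h1 := mem_wt.1 hv
    have h3 : ρ (blockU π e (i, 0) * blockU π e (i, 1) * blockU π e (i, 2)) v =
        ((-1 : k) ^ ((χ (i, 0)).val + (χ (i, 1)).val + (χ (i, 2)).val)) • v := by
      rw [rho_mul, rho_mul, h1, map_smul, map_smul, h1, map_smul, h1, smul_smul, smul_smul,
        pow_add, pow_add]
      congr 1
      ring
    rw [hs.blockU_prod hl he i, map_one, Module.End.one_apply] at h3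
    have h4 : (-1 : k) ^ ((χ (i, 0)).val + (χ (i, 1)).val + (χ (i, 2)).val) = 1 := by
      have h5 : (((-1 : k) ^ ((χ (i, 0)).val + (χ (i, 1)).val + (χ (i, 2)).val)) - 1) • v = 0 := by
        rw [sub_smul, one_smul, ← h3, sub_self]
      exact sub_eq_zero.1 ((smul_eq_zero.1 h5).resolve_right hv0)
    have h6 := ((hs.blockU_tor hl h2 he).prim.pow_eq_one_iff_dvd _).1 h4
    have h7 : (((χ (i, 0)).val + (χ (i, 1)).val + (χ (i, 2)).val : ℕ) : ZMod 2) = 0 :=
      (ZMod.natCast_eq_zero_iff _ 2).2 h6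
    simpa using h7
  have key : ∀ c0 c1 c2 : ZMod 2, c0 + c1 + c2 = 0 → ∃ s : Fin 4, ∀ j : Fin 3,
      (if s = 0 ∨ s = j.succ then (0 : ZMod 2) else 1) = ![c0, c1, c2] j := by decide
  choose ψ hψ using fun i => key _ _ _ (hsum i)
  refine ⟨ψ, funext fun ⟨i, j⟩ => (hψ i j).trans ?_⟩
  fin_cases j <;> rfl

theorem blockU_swap [FiniteDimensional k V] [IsAlgClosed k] (h2 : (2 : k) ≠ 0) {m : ℕ}
    {e : Fin m × Fin 4 → α} (he : Function.Injective e) (i j : Fin m) (ψ : Fin m → Fin 4) :
    mult ρ (blockU π e) (-1 : k) (bChar ψ) ≤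
      mult ρ (blockU π e) (-1 : k) (bChar fun x => ψ (swap i j x)) := by
  by_cases hij : i = j
  · subst hij; simp
  obtain ⟨σ, hσ⟩ : ∃ σ : Perm α, σ = swap (e (i, 0)) (e (j, 0)) * swap (e (i, 1)) (e (j, 1)) *
    swap (e (i, 2)) (e (j, 2)) * swap (e (i, 3)) (e (j, 3)) := ⟨_, rfl⟩
  have hne : ∀ x y : Fin m × Fin 4, x ≠ y → e x ≠ e y := fun x y h => he.ne h
  have hmem : σ ∈ alternatingGroup α := by
    rw [Perm.mem_alternatingGroup, hσ, map_mul, map_mul, map_mul,
      Perm.sign_swap (hne _ _ (by simp [hij])), Perm.sign_swap (hne _ _ (by simp [hij])),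
      Perm.sign_swap (hne _ _ (by simp [hij])), Perm.sign_swap (hne _ _ (by simp [hij]))]
    rfl
  have hsw : ∀ (x y z : Fin m × Fin 4), z ≠ x → z ≠ y → swap (e x) (e y) (e z) = e z :=
    fun x y z h1 h2 => swap_apply_of_ne_of_ne (hne _ _ h1) (hne _ _ h2)
  have hji : j ≠ i := Ne.symm hij
  have hpt : ∀ l t, σ (e (l, t)) = e (swap i j l, t) := by
    intro l t
    by_cases hli : l = i
    · subst hli
      rw [swap_apply_left]
      fin_cases t <;> simp [hσ, hsw, hij, hji]
    by_cases hlj : l = j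
    · subst hlj
      rw [swap_apply_right]
      fin_cases t <;> simp [hσ, hsw, hij, hji]
    rw [swap_apply_of_ne_of_ne hli hlj]
    simp [hσ, hsw, hli, hlj]
  have hπg := hs.map_lft hmem
  have hg : ∀ x : Fin m × Fin 3, (lft π σ)⁻¹⁻¹ * blockU π e x * (lft π σ)⁻¹ =
      blockU π e (swap i j x.1, x.2) ^ (1 : ZMod 2).val := by
    intro ⟨l, t⟩
    rw [ZMod.val_one, pow_one, inv_inv]
    have hD := block_D4 he l
    fin_cases t
    · exact (hs.conj_Uq hD _).trans (by rw [hπg, hpt, hpt, hpt, hpt]; rfl)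
    · exact (hs.conj_Uq hD.rot _).trans (by rw [hπg, hpt, hpt, hpt, hpt]; rfl)
    · exact (hs.conj_Uq hD.rot.rot _).trans (by rw [hπg, hpt, hpt, hpt, hpt]; rfl)
  have h := mult_le (ρ := ρ) (hs.blockU_tor hl h2 he).prim (lft π σ)⁻¹
    (fun x : Fin m × Fin 3 => (swap i j x.1, x.2)) (fun _ => 1) hg (bChar ψ)
  refine h.trans_eq ?_
  congr 1
  funext x
  simp [bChar]

theorem blockU_cyc [FiniteDimensional k V] [IsAlgClosed k] (h2 : (2 : k) ≠ 0) {m : ℕ}
    {e : Fin m × Fin 4 → α} (he : Function.Injective e) (i : Fin m) (ψ : Fin m → Fin 4) :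
    mult ρ (blockU π e) (-1 : k) (bChar ψ) ≤
      mult ρ (blockU π e) (-1 : k) (bChar (Function.update ψ i (cyc4 (ψ i)))) := by
  set g := T π (e (i, 1)) (e (i, 2)) (e (i, 3)) with hg
  have hD := block_D4 he i
  have hπg : π g = cyc (e (i, 1)) (e (i, 2)) (e (i, 3)) := hs.map_T hD.tail
  have h0 : π g (e (i, 0)) = e (i, 0) := by
    rw [hπg, cyc_apply_other hD.1 hD.2.1 hD.2.2.1]
  have h1 : π g (e (i, 1)) = e (i, 2) := by rw [hπg, cyc_apply_fst hD.2.2.2.2.1 hD.2.2.2.2.2]
  have h2' : π g (e (i, 2)) = e (i, 3) := by rw [hπg, cyc_apply_snd hD.2.2.2.1 hD.2.2.2.2.1]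
  have h3 : π g (e (i, 3)) = e (i, 1) := by
    rw [hπg, cyc_apply_thd hD.2.2.2.1 hD.2.2.2.2.1 hD.2.2.2.2.2]
  have hoth : ∀ l, l ≠ i → ∀ t, π g (e (l, t)) = e (l, t) := fun l hl' t => by
    rw [hπg, cyc_apply_other (he.ne (by simp [hl'])) (he.ne (by simp [hl']))
      (he.ne (by simp [hl']))]
  let τ : Fin m × Fin 3 → Fin m × Fin 3 := fun x => (x.1, if x.1 = i then x.2 + 1 else x.2)
  have hconj : ∀ x, g⁻¹⁻¹ * blockU π e x * g⁻¹ = blockU π e (τ x) ^ (1 : ZMod 2).val := by
    intro ⟨l, t⟩
    rw [ZMod.val_one, pow_one, inv_inv]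
    have hDl := block_D4 he l
    by_cases hli : l = i
    · subst hli
      simp only [τ, if_pos rfl]
      fin_cases t
      · exact (hs.conj_Uq hDl g).trans (by rw [h0, h1, h2', h3]; rfl)
      · exact (hs.conj_Uq hDl.rot g).trans (by rw [h0, h1, h2', h3]; rfl)
      · exact (hs.conj_Uq hDl.rot.rot g).trans (by rw [h0, h1, h2', h3]; rfl)
    · simp only [τ, if_neg hli]
      fin_cases t
      · exact (hs.conj_Uq hDl g).trans (by rw [hoth l hli, hoth l hli, hoth l hli, hoth l hli]; rfl)
      · exact (hs.conj_Uq hDl.rot g).trans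
          (by rw [hoth l hli, hoth l hli, hoth l hli, hoth l hli]; rfl)
      · exact (hs.conj_Uq hDl.rot.rot g).trans
          (by rw [hoth l hli, hoth l hli, hoth l hli, hoth l hli]; rfl)
  have h := mult_le (ρ := ρ) (hs.blockU_tor hl h2 he).prim g⁻¹ τ (fun _ => 1) hconj (bChar ψ)
  refine h.trans_eq ?_
  congr 1
  funext ⟨l, t⟩
  have key : ∀ (a : Fin 4) (t : Fin 3), (if a = 0 ∨ a = (t + 1).succ then (0 : ZMod 2) else 1) =
      if cyc4 a = 0 ∨ cyc4 a = t.succ then 0 else 1 := by decide
  simp only [τ, bChar, one_mul]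
  by_cases hli : l = i
  · subst hli
    rw [if_pos rfl, Function.update_self]
    exact key _ _
  · rw [if_neg hli, Function.update_of_ne hli]

set_option maxHeartbeats 1000000 in
/-- In a small representation each canonical involution negates a plane, fixed by the
involutions of the other blocks. -/
theorem quad_shape [FiniteDimensional k V] [IsAlgClosed k] (h2 : (2 : k) ≠ 0) (h3 : (3 : k) = 0)
    {m : ℕ} (hm : m = Fintype.card α / 4) (hsmall : finrank k V + 2 ≤ Fintype.card α)
    {e : Fin m × Fin 4 → α} (he : Function.Injective e) :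
    ∀ x, finrank k (negSp ρ (blockU π e x)) = 2 ∧
      ∀ y : Fin m × Fin 3, y.1 ≠ x.1 → ∀ v ∈ negSp ρ (blockU π e x),
        ρ (blockU π e y) v = v := by
  classical
  have hm2 : 2 ≤ m := by have := hs.nine; omega
  have hn : finrank k V ≤ 4 * m + 1 := by omega
  have hT := hs.blockU_tor hl h2 he
  set d := fun χ => mult ρ (blockU π e) (-1 : k) χ with hd
  set D := fun ψ => d (bChar ψ) with hDdef
  have hsw : ∀ i j ψ, D ψ ≤ D (fun x => ψ (swap i j x)) := hs.blockU_swap hl h2 he
  have hcy : ∀ i ψ, D ψ ≤ D (Function.update ψ i (cyc4 (ψ i))) := hs.blockU_cyc hl h2 he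
  have htot : finrank k V = ∑ ψ, D ψ := by
    rw [hT.dim_eq, ← Finset.sum_image (f := d) fun x _ y _ h => bChar_injective h]
    refine (Finset.sum_subset (Finset.subset_univ _) fun χ _ hχ => ?_).symm
    by_contra hne
    obtain ⟨ψ, rfl⟩ := hs.exists_bChar hl h2 he hne
    exact hχ (Finset.mem_image.2 ⟨ψ, Finset.mem_univ _, rfl⟩)
  have hsumS : ∀ S : Finset (Fin m → Fin 4), ∑ ψ ∈ S, D ψ ≤ finrank k V := fun S => by
    rw [htot]; exact Finset.sum_le_sum_of_subset (Finset.subset_univ S)
  have hlayer : ∀ ψ s, (bSupp ψ).card = s → ∑ x ∈ bSet m s, D x = m.choose s * 3 ^ s * D ψ := by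
    intro ψ s hψ
    rw [Finset.sum_eq_card_nsmul (b := D ψ), card_bSet, smul_eq_mul]
    intro x hx
    exact D_card_eq hsw hcy x ψ (by rw [(Finset.mem_filter.1 hx).2, hψ])
  have hbound : ∀ ψ, m.choose (bSupp ψ).card * 3 ^ (bSupp ψ).card * D ψ ≤ finrank k V :=
    fun ψ => by rw [← hlayer ψ _ rfl]; exact hsumS _
  have hmid : ∀ ψ, 0 < D ψ → (bSupp ψ).card ≤ 1 ∨
      ((bSupp ψ).card = 2 ∧ m = 2 ∧ finrank k V = 9 ∧ D ψ = 1) := by
    intro ψ hψ
    by_contra hc
    push Not at hc
    obtain ⟨hs2, hnot⟩ := hc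
    have hle : (bSupp ψ).card ≤ m := (Finset.card_le_univ _).trans (Fintype.card_fin m).le
    have hb := hbound ψ
    rcases Nat.lt_or_ge (bSupp ψ).card m with hlt | hge
    · have h5 := le_choose (m := m) (s := (bSupp ψ).card) (by omega) hlt
      have h6 : 3 ^ 2 ≤ 3 ^ (bSupp ψ).card := Nat.pow_le_pow_right (by norm_num) hs2
      have h7 : m * 3 ^ 2 ≤ finrank k V :=
        ((Nat.mul_le_mul h5 h6).trans (Nat.le_mul_of_pos_right _ hψ)).trans hb
      omega
    · have heq : (bSupp ψ).card = m := le_antisymm hle hge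
      rw [heq, Nat.choose_self, one_mul] at hb
      rcases Nat.lt_or_ge m 3 with hm3 | hm3
      · obtain rfl : m = 2 := by omega
        have h8 : 9 * D ψ ≤ finrank k V := hb
        exact hnot heq rfl (by omega) (by omega)
      · have h9 : ∀ m, 3 ≤ m → 4 * m + 2 ≤ 3 ^ m := by
          intro m hm
          induction m, hm using Nat.le_induction with
          | base => norm_num
          | succ m hm ih => rw [pow_succ]; omega
        have h10 := h9 m hm3
        have h11 : 3 ^ m ≤ finrank k V := (Nat.le_mul_of_pos_right _ hψ).trans hb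
        omega
  -- no weight is nontrivial on two blocks
  have hsup : ∀ ψ, 0 < D ψ → (bSupp ψ).card ≤ 1 := by
    intro ψ₀ hψ₀
    rcases hmid ψ₀ hψ₀ with h | ⟨hc₀, rfl, hn9, hD₀⟩
    · exact h
    exfalso
    have hone : ∀ ψ, D ψ ≤ 1 := by
      intro ψ
      by_contra hψ
      have hc : (bSupp ψ).card ≠ 2 := fun hc => by
        have := D_card_eq hsw hcy ψ ψ₀ (by rw [hc, hc₀])
        omega
      have hsum := hsumS (bSet 2 (bSupp ψ).card ∪ bSet 2 2)
      rw [Finset.sum_union (by
        rw [Finset.disjoint_left]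
        intro x h1 h2
        simp only [bSet, Finset.mem_filter] at h1 h2
        omega), hlayer ψ _ rfl, hlayer ψ₀ 2 hc₀, hD₀, hn9] at hsum
      have h12 : 0 < (2 : ℕ).choose (bSupp ψ).card :=
        Nat.choose_pos ((Finset.card_le_univ _).trans (Fintype.card_fin 2).le)
      have h13 : 0 < 3 ^ (bSupp ψ).card := Nat.pow_pos (by norm_num)
      have h14 : 0 < Nat.choose 2 (bSupp ψ).card * 3 ^ (bSupp ψ).card * D ψ := Nat.mul_pos (Nat.mul_pos h12 h13) (by omega)
      norm_num [Nat.choose] at hsum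
      omega
    obtain ⟨T3, hT3, hdis⟩ := exists_outside (S := Finset.univ.image e) (m := 3) (by
      rw [Finset.card_image_of_injective _ he, Finset.card_univ, Fintype.card_prod,
        Fintype.card_fin, Fintype.card_fin]
      omega)
    obtain ⟨a, b, c, hab, hac, hbc, rfl⟩ := Finset.card_eq_three.1 hT3
    have hout : ∀ z, a ≠ e z ∧ b ≠ e z ∧ c ≠ e z := fun z => by
      have h1 := Finset.disjoint_right.1 hdis (Finset.mem_image.2 ⟨z, Finset.mem_univ z, rfl⟩)
      simp only [Finset.mem_insert, Finset.mem_singleton, not_or] at h1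
      exact ⟨Ne.symm h1.1, Ne.symm h1.2.1, Ne.symm h1.2.2⟩
    set t := T π a b c with ht
    have hD3 : D3 a b c := ⟨hab, hac, hbc⟩
    have htU : ∀ x, Commute (blockU π e x) t := by
      intro ⟨i, j⟩
      have key : ∀ p q u v : Fin 4, D4 (e (i, p)) (e (i, q)) (e (i, u)) (e (i, v)) →
          Commute (Uq π (e (i, p)) (e (i, q)) (e (i, u)) (e (i, v))) t := fun p q u v h => by
        refine hs.commute_disjoint (S := {a, b, c}) ?_ ?_ ?_
        · rw [Finset.card_compl]
          have := hs.nine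
          have := (Finset.card_le_three (a := a) (b := b) (c := c))
          omega
        · intro z hz
          simp only [Finset.mem_insert, Finset.mem_singleton, not_or] at hz
          rw [hs.map_T hD3, cyc_apply_other hz.1 hz.2.1 hz.2.2]
        · intro z hz
          simp only [Finset.mem_insert, Finset.mem_singleton] at hz
          rw [hs.map_Uq h]
          rcases hz with rfl | rfl | rfl
          · exact dt_apply_other (hout _).1 (hout _).1 (hout _).1 (hout _).1
          · exact dt_apply_other (hout _).2.1 (hout _).2.1 (hout _).2.1 (hout _).2.1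
          · exact dt_apply_other (hout _).2.2 (hout _).2.2 (hout _).2.2 (hout _).2.2
      fin_cases j
      · exact key _ _ _ _ (block_D4 he i)
      · exact key _ _ _ _ (block_D4 he i).rot
      · exact key _ _ _ _ (block_D4 he i).rot.rot
    refine hs.T_ne_one hD3 (hs.inj ?_)
    rw [map_one, ← sub_eq_zero]
    refine hT.eq_zero_of_wt _ fun χ v hv => ?_
    have hle1 : mult ρ (blockU π e) (-1 : k) χ ≤ 1 := by
      by_contra hgt
      obtain ⟨ψ, rfl⟩ := hs.exists_bChar hl h2 he (χ := χ) (by omega)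
      exact hgt (hone ψ)
    rcases eq_or_ne v 0 with rfl | hv0
    · simp
    have hw : ρ t v ∈ wt ρ (blockU π e) (-1 : k) χ := by
      rw [mem_wt]
      intro x
      rw [← rho_mul, (htU x).eq, rho_mul, mem_wt.1 hv x, map_smul]
    have hpos : 0 < mult ρ (blockU π e) (-1 : k) χ := by
      haveI : Nontrivial (wt ρ (blockU π e) (-1 : k) χ) :=
        ⟨⟨v, hv⟩, 0, fun h => hv0 (congrArg Subtype.val h)⟩
      exact Module.finrank_pos
    obtain ⟨μ, hμ⟩ := exists_smul_eq_of_finrank_eq_one
      (show finrank k (wt ρ (blockU π e) (-1 : k) χ) = 1 by rw [mult] at hle1 hpos; omega)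
      (x := ⟨v, hv⟩) (fun h => hv0 (congrArg Subtype.val h)) ⟨_, hw⟩
    have hμ' : ρ t v = μ • v := (congrArg Subtype.val hμ).symm
    have h15 := pow_apply_eigen hμ' 3
    rw [hs.T_pow_three hD3, map_one, Module.End.one_apply] at h15
    have h16 : (μ ^ 3 - 1) • v = 0 := by rw [sub_smul, one_smul, ← h15, sub_self]
    have h17 := (smul_eq_zero.1 h16).resolve_right hv0
    have h18 : (μ - 1) ^ 3 = 0 := by linear_combination h17 + (μ - μ ^ 2) * h3
    have h19 : μ = 1 := sub_eq_zero.1 ((pow_eq_zero_iff (by norm_num)).1 h18)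
    rw [LinearMap.sub_apply, Module.End.one_apply, hμ', h19, one_smul, sub_self]
  -- each involution is nontrivial on exactly two weights
  intro ⟨i, j⟩
  have hDi : ∀ ψ, ψ i ≠ 0 → 0 < D ψ → ∀ l, l ≠ i → ψ l = 0 := fun ψ hi hψ l hl' => by
    by_contra hne
    exact hl' (Finset.card_le_one.1 (hsup ψ hψ) l (mem_bSupp.2 hne) i (mem_bSupp.2 hi))
  have hsupp1 : ∀ c : Fin 4, c ≠ 0 → bSupp (Pi.single i c) = {i} := by
    intro c hc
    ext l
    rw [mem_bSupp, Finset.mem_singleton]
    by_cases hl' : l = i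
    · subst hl'; simp [hc]
    · simp [hl']
  have hEq : ∀ c : Fin 4, c ≠ 0 → D (Pi.single i c) = D (Pi.single i 1) := fun c hc =>
    D_card_eq hsw hcy _ _ (by rw [hsupp1 c hc, hsupp1 1 (by decide)])
  have hle : D (Pi.single i 1) ≤ 1 := by
    have h := hbound (Pi.single i 1)
    rw [hsupp1 1 (by decide), Finset.card_singleton, Nat.choose_one_right, pow_one] at h
    by_contra hgt
    have h20 : m * 3 * 2 ≤ m * 3 * D (Pi.single i 1) := Nat.mul_le_mul_left _ (by omega)
    omega
  have hpos : 0 < D (Pi.single i 1) := by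
    by_contra h0
    have hDU : blockU π e (i, 0) = 1 := hT.eq_one_of_mult_zero hs.inj (i, 0) fun χ hχ => by
      by_contra hne
      obtain ⟨ψ, rfl⟩ := hs.exists_bChar hl h2 he hne
      have hi : ψ i ≠ 0 := fun h => hχ (by simp [bChar, h])
      have h21 := hDi ψ hi (Nat.pos_of_ne_zero hne)
      have h22 : ψ = Pi.single i (ψ i) := funext fun l => by
        by_cases hl' : l = i
        · subst hl'; simp
        · simp [hl', h21 l hl']
      have h23 := hEq _ hi
      rw [← h22] at h23
      exact hne (show D ψ = 0 by omega)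
    have h1 := congrArg π hDU
    rw [map_one] at h1
    have h24 : π (blockU π e (i, 0)) (e (i, 0)) = e (i, 1) := by
      rw [show blockU π e (i, 0) = Uq π (e (i, 0)) (e (i, 1)) (e (i, 2)) (e (i, 3)) from rfl,
        hs.map_Uq (block_D4 he i), dt_apply_fst (block_D4 he i)]
    rw [h1, Perm.one_apply] at h24
    exact absurd (he h24) (by simp)
  constructor
  · rw [← eigen_one_eq_negSp, hT.dim_eigen]
    obtain ⟨c₁, c₂, hc₁, hc₂, hc12, hcs⟩ : ∃ c₁ c₂ : Fin 4, c₁ ≠ 0 ∧ c₂ ≠ 0 ∧ c₁ ≠ c₂ ∧
        ∀ a : Fin 4, (if a = 0 ∨ a = j.succ then (0 : ZMod 2) else 1) = 1 ↔ a = c₁ ∨ a = c₂ := by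
      revert j; decide
    have h30 : ∑ χ ∈ Finset.univ.filter (fun χ : Fin m × Fin 3 → ZMod 2 => χ (i, j) = 1), d χ =
        D (Pi.single i c₁) + D (Pi.single i c₂) := by
      have hne12 : (Pi.single i c₁ : Fin m → Fin 4) ≠ Pi.single i c₂ := fun h => hc12 (by
        simpa using congrFun h i)
      rw [← Finset.sum_pair hne12, ← Finset.sum_image (f := d) fun x _ y _ h => bChar_injective h]
      refine (Finset.sum_subset ?_ ?_).symm
      · intro χ hχ
        obtain ⟨ψ, hψ, rfl⟩ := Finset.mem_image.1 hχ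
        simp only [Finset.mem_insert, Finset.mem_singleton] at hψ
        refine Finset.mem_filter.2 ⟨Finset.mem_univ _, (hcs (ψ i)).2 ?_⟩
        rcases hψ with rfl | rfl <;> simp
      · intro χ hχ hnot
        by_contra hne
        obtain ⟨ψ, rfl⟩ := hs.exists_bChar hl h2 he hne
        have hc := (hcs (ψ i)).1 (Finset.mem_filter.1 hχ).2
        have hi : ψ i ≠ 0 := by rcases hc with h | h <;> rw [h] <;> assumption
        have h21 := hDi ψ hi (Nat.pos_of_ne_zero hne)
        have h22 : ψ = Pi.single i (ψ i) := funext fun l => by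
          by_cases hl' : l = i
          · subst hl'; simp
          · simp [hl', h21 l hl']
        refine hnot (Finset.mem_image.2 ⟨ψ, ?_, rfl⟩)
        rw [h22]
        rcases hc with h | h <;> simp [h]
    rw [h30, hEq c₁ hc₁, hEq c₂ hc₂]
    omega
  · intro ⟨i', j'⟩ hi' v hv
    have hzero : (ρ (blockU π e (i', j')) - 1) * (ρ (blockU π e (i, j)) - 1) = 0 := by
      refine hT.eq_zero_of_wt _ fun χ u hu => ?_
      rcases eq_or_ne (mult ρ (blockU π e) (-1 : k) χ) 0 with h0 | hne
      · have h5 : wt ρ (blockU π e) (-1 : k) χ = ⊥ := Submodule.finrank_eq_zero.1 h0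
        rw [h5, Submodule.mem_bot] at hu
        simp [hu]
      obtain ⟨ψ, rfl⟩ := hs.exists_bChar hl h2 he hne
      rw [Module.End.mul_apply, LinearMap.sub_apply (f := ρ (blockU π e (i, j))), mem_wt.1 hu,
        Module.End.one_apply]
      by_cases hi : ψ i = 0
      · simp [bChar, hi]
      · have h21 := hDi ψ hi (Nat.pos_of_ne_zero hne) i' hi'
        rw [map_sub, map_smul, LinearMap.sub_apply, mem_wt.1 hu,
          show bChar ψ (i', j') = 0 by simp [bChar, h21]]
        simp
    have h25 := DFunLike.congr_fun hzero v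
    rw [Module.End.mul_apply, LinearMap.sub_apply (f := ρ (blockU π e (i, j))), mem_negSp.1 hv,
      Module.End.one_apply, LinearMap.zero_apply, LinearMap.sub_apply, Module.End.one_apply,
      map_sub, map_neg] at h25
    have h26 : (2 : k) • (ρ (blockU π e (i', j')) v - v) = 0 := by
      rw [two_smul, ← neg_eq_zero, ← h25]; abel
    exact sub_eq_zero.1 ((smul_eq_zero.1 h26).resolve_left h2)

end Setup

end CfsgLib.AltSection
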