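import Cfsg.Agent.Lib.AltSection.Spin

/-!
Two commuting five-cycles rule out spin representations of degree eight on ten points.
-/

set_option autoImplicit false

namespace CfsgLib.AltSection

open Equiv Module
open scoped commutatorElement

variable {k : Type*} [Field k] {V : Type*} [AddCommGroup V] [Module k V] {G : Type*} [Group G]
  {α : Type*} [Fintype α] [DecidableEq α] {ρ : Representation k G V} {π : G →* Perm α}

theorem five_three_values : ∀ l : ZMod 5, l ≠ 0 →
    ({l, -l, 2 * l ^ 3} : Finset (ZMod 5)).card = 3 := by decide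

theorem five_pow : ∀ c : ZMod 5, c ≠ 0 → ∃ n < 5, c = (3 : ZMod 5) ^ n := by decide

theorem five_four_mul : ∀ z : ZMod 5, 4 * z = -z := by decide

theorem five_unit : ∀ z : ZMod 5, z ≠ 0 → z ^ 3 * z = 1 := by decide

theorem five_cases : ∀ a : ZMod 5, a ≠ 0 → a = 1 ∨ a = 2 ∨ a = 3 ∨ a = 4 := by decide

theorem five_turn : ∀ l : ZMod 5, l ≠ 0 →
    (3 * l) ^ 3 * (3 * l) = 1 ∧ (3 * l) ^ 3 * 1 = 2 * l ^ 3 := by decide

theorem five_ne : (1 : ZMod 5) ≠ 0 ∧ (2 : ZMod 5) ≠ 0 ∧ (3 : ZMod 5) ≠ 0 ∧ (4 : ZMod 5) ≠ 0 := by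
  decide

namespace Setup

variable (hs : Setup ρ π)
include hs

/-- A spin representation on ten or more points has degree at least nine. -/
theorem spin_ten [FiniteDimensional k V] [IsAlgClosed k] [Nontrivial V] (hlin : ¬ Linear π)
    (h5 : (5 : k) ≠ 0) (hcard : 10 ≤ Fintype.card α) : 9 ≤ finrank k V := by
  classical
  by_contra hsmall
  haveI : Fact (Nat.Prime 5) := ⟨by norm_num⟩
  obtain ⟨ω, hω⟩ : ∃ ω : k, IsPrimitiveRoot ω 5 := exists_primitive (by exact_mod_cast h5)
  -- the two blocks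
  obtain ⟨E⟩ := Function.Embedding.nonempty_of_card_le (α := Fin 5 ⊕ Fin 5) (β := α)
    (by rw [Fintype.card_sum, Fintype.card_fin]; omega)
  let e : Fin 2 → Fin 5 ↪ α := fun j =>
    if j = 0 then Function.Embedding.inl.trans E else Function.Embedding.inr.trans E
  have hdis : ∀ i i', e 0 i ≠ e 1 i' := fun i i' h => by simp [e] at h
  have hdis' : ∀ j, ∀ i i', e j i ≠ e (1 - j) i' := by
    intro j
    fin_cases j
    · exact hdis
    · exact fun i i' h => hdis i' i h.symm
  set H : Perm α := onBlock (e 0) dbl5 * onBlock (e 1) dbl5 with hH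
  have hHmem : H ∈ alternatingGroup α := by
    rw [Perm.mem_alternatingGroup, hH, map_mul, sign_onBlock, sign_onBlock, sign_dbl5]; rfl
  set h := lft π H with hh
  have hπh : π h = H := hs.map_lft hHmem
  let x : Fin 2 → G := fun j => lft π (onBlock (e j) (finRotate 5))
  have hπx : ∀ j, π (x j) = onBlock (e j) (finRotate 5) := fun j => hs.map_lft (by
    rw [Perm.mem_alternatingGroup, sign_onBlock, sign_rot5])
  have hcd : ∀ σ τ, Commute (onBlock (e 0) σ) (onBlock (e 1) τ) := onBlock_disjoint _ _ hdis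
  have hconj : ∀ j, π h * π (x j) * (π h)⁻¹ = π (x j) ^ 2 := by
    intro j
    rw [hπh, hπx, ← map_pow, ← dbl5_conj, hH, map_mul (onBlock (e j)), map_mul (onBlock (e j)),
      map_inv (onBlock (e j)), mul_inv_rev]
    fin_cases j
    · show _ = onBlock (e 0) dbl5 * onBlock (e 0) (finRotate 5) * (onBlock (e 0) dbl5)⁻¹
      calc onBlock (e 0) dbl5 * onBlock (e 1) dbl5 * onBlock (e 0) (finRotate 5) *
            ((onBlock (e 1) dbl5)⁻¹ * (onBlock (e 0) dbl5)⁻¹)
          = onBlock (e 0) dbl5 * (onBlock (e 1) dbl5 * onBlock (e 0) (finRotate 5) *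
            (onBlock (e 1) dbl5)⁻¹) * (onBlock (e 0) dbl5)⁻¹ := by group
        _ = _ := by rw [← (hcd (finRotate 5) dbl5).eq, mul_inv_cancel_right]
    · show _ = onBlock (e 1) dbl5 * onBlock (e 1) (finRotate 5) * (onBlock (e 1) dbl5)⁻¹
      calc onBlock (e 0) dbl5 * onBlock (e 1) dbl5 * onBlock (e 1) (finRotate 5) *
            ((onBlock (e 1) dbl5)⁻¹ * (onBlock (e 0) dbl5)⁻¹)
          = onBlock (e 0) dbl5 * (onBlock (e 1) dbl5 * onBlock (e 1) (finRotate 5) *
            (onBlock (e 1) dbl5)⁻¹) * (onBlock (e 0) dbl5)⁻¹ := by group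
        _ = _ := by
          rw [← map_inv (onBlock (e 1)), ← map_mul (onBlock (e 1)), ← map_mul (onBlock (e 1)),
            (hcd dbl5 _).eq, mul_inv_cancel_right]
  have hq : ∀ j, π (x j) ^ 5 = 1 := fun j => by rw [hπx, ← map_pow, rot5_pow, map_one]
  let T : Fin 2 → G := fun j => ⁅h, x j⁆
  have hTπ : ∀ j, π (T j) = onBlock (e j) (finRotate 5) := fun j => by
    rw [(hs.comm_pow (hconj j) (hq j)).1, hπx, pow_two, mul_inv_cancel_right]
  have hout : ∀ j z, z ∉ Set.range (e j) → π (T j) z = z := fun j z hz => by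
    rw [hTπ]; exact onBlock_other _ _ hz
  have hcomm : Commute (T 0) (T 1) := by
    refine hs.commute_sets (S := Finset.univ.map (e 0)) (by simp) ?_ ?_
    · intro z hz
      obtain ⟨i, -, rfl⟩ := Finset.mem_map.1 hz
      exact hout 1 _ fun ⟨i', hi'⟩ => hdis i i' hi'.symm
    · intro z hz
      exact hout 0 z fun ⟨i, hi⟩ => hz (Finset.mem_map.2 ⟨i, Finset.mem_univ i, hi⟩)
  have hT : Tor ρ 5 T ω := by
    refine ⟨fun i j => ?_, fun j => (hs.comm_pow (hconj j) (hq j)).2.1, by exact_mod_cast h5, hω⟩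
    fin_cases i <;> fin_cases j
    · exact Commute.refl _
    · exact hcomm
    · exact hcomm.symm
    · exact Commute.refl _
  set d := fun χ : Fin 2 → ZMod 5 => mult ρ T ω χ with hd
  -- scaling
  have hscale : ∀ χ, d χ ≤ d (fun i => 3 * χ i) := by
    intro χ
    refine mult_le (ρ := ρ) hω h id (fun _ => 3) (fun i => ?_) χ
    have h1 := (hs.comm_pow (hconj i) (hq i)).2.2
    have h2 := (hs.comm_pow (hconj i) (hq i)).2.1
    show h⁻¹ * ⁅h, x i⁆ * h = ⁅h, x i⁆ ^ 3
    have h3 : h * ⁅h, x i⁆ ^ 3 * h⁻¹ = ⁅h, x i⁆ := by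
      rw [← conj_pow, h1, ← pow_mul, pow_eq_pow_mod _ h2]; norm_num
    conv_lhs => rw [← h3]
    group
  have hscale' : ∀ (c : ZMod 5) χ, c ≠ 0 → d χ ≤ d (fun i => c * χ i) := by
    intro c χ hc
    have hpow : ∀ (n : ℕ) χ, d χ ≤ d (fun i => (3 : ZMod 5) ^ n * χ i) := by
      intro n
      induction n with
      | zero => intro χ; simp
      | succ n ih =>
        intro χ
        refine (ih χ).trans ((hscale _).trans_eq ?_)
        congr 1; funext i; rw [pow_succ', mul_assoc]
    obtain ⟨n, -, hn⟩ : ∃ n < 5, c = (3 : ZMod 5) ^ n := by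
      exact five_pow c hc
    rw [hn]
    exact hpow n χ
  -- inverting the second cycle
  have hflip : ∀ χ, d χ ≤ d ![χ 0, -χ 1] := by
    intro χ
    set u := lft π (onBlock (e 1) (dbl5 ^ 2)) with hu
    have hπu : π u = onBlock (e 1) (dbl5 ^ 2) := hs.map_lft (by
      rw [Perm.mem_alternatingGroup, sign_onBlock, map_pow, sign_dbl5]; rfl)
    have hud : Commute (π u) (π h) := by
      rw [hπu, hπh, hH]
      refine (hcd _ _).symm.mul_right ?_
      exact ((Commute.refl dbl5).pow_left 2).map _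
    have h0 : u * T 0 * u⁻¹ = T 0 ^ 1 :=
      hs.conj_comm_pow (hconj 0) (hq 0) hud (by
        rw [pow_one, hπx, hπu, ← (hcd (finRotate 5) (dbl5 ^ 2)).eq, mul_inv_cancel_right])
    have h1 : u * T 1 * u⁻¹ = T 1 ^ 4 :=
      hs.conj_comm_pow (hconj 1) (hq 1) hud (by
        rw [hπx, hπu, ← map_mul, ← map_inv, ← map_mul, ← map_pow, dbl5_sq_conj])
    have e0 : u⁻¹ * T 0 * u = T 0 ^ 1 := by
      rw [pow_one] at h0 ⊢
      conv_lhs => rw [← h0]
      group
    have e1 : u⁻¹ * T 1 * u = T 1 ^ 4 := by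
      have h2 := hT.pow 1
      have h3 : u * T 1 ^ 4 * u⁻¹ = T 1 := by
        rw [← conj_pow, h1, ← pow_mul, pow_eq_pow_mod _ h2]; norm_num
      conv_lhs => rw [← h3]
      group
    have hle := mult_le (ρ := ρ) hω u id ![1, 4] (fun i => by
      fin_cases i
      · exact e0
      · exact e1) χ
    refine hle.trans_eq ?_
    show mult ρ T ω _ = mult ρ T ω _
    congr 1
    funext i
    fin_cases i
    · simp
    · simp [five_four_mul]
  -- exchanging the blocks, doubling one
  have hswap : ∀ χ, d χ ≤ d ![3 * χ 1, χ 0] := by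
    intro χ
    obtain ⟨SW, hSW⟩ : ∃ SW : Perm α, SW = swap (e 0 0) (e 1 0) * swap (e 0 1) (e 1 1) *
      swap (e 0 2) (e 1 2) * swap (e 0 3) (e 1 3) * swap (e 0 4) (e 1 4) := ⟨_, rfl⟩
    have hsw0 : ∀ i, SW (e 0 i) = e 1 i := by
      intro i
      have hne : ∀ a b, e 0 a ≠ e 1 b := hdis
      fin_cases i <;>
        simp [hSW, swap_apply_of_ne_of_ne, hne, fun a b => (hne a b).symm, (e 0).injective.eq_iff,
          (e 1).injective.eq_iff]
    have hsw1 : ∀ i, SW (e 1 i) = e 0 i := by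
      intro i
      have hne : ∀ a b, e 0 a ≠ e 1 b := hdis
      fin_cases i <;>
        simp [hSW, swap_apply_of_ne_of_ne, hne, fun a b => (hne a b).symm, (e 0).injective.eq_iff,
          (e 1).injective.eq_iff]
    have hswo : ∀ z, z ∉ Set.range (e 0) → z ∉ Set.range (e 1) → SW z = z := by
      intro z h0 h1
      have a0 : ∀ i, z ≠ e 0 i := fun i h => h0 ⟨i, h.symm⟩
      have a1 : ∀ i, z ≠ e 1 i := fun i h => h1 ⟨i, h.symm⟩
      simp [hSW, swap_apply_of_ne_of_ne, a0, a1]
    have hconjSW : ∀ σ, SW * onBlock (e 0) σ * SW⁻¹ = onBlock (e 1) σ ∧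
        SW * onBlock (e 1) σ * SW⁻¹ = onBlock (e 0) σ := by
      intro σ
      constructor <;> rw [mul_inv_eq_iff_eq_mul] <;> ext z <;> rw [Perm.mul_apply, Perm.mul_apply]
      all_goals
        by_cases h0 : z ∈ Set.range (e 0)
        · obtain ⟨i, rfl⟩ := h0
          first
            | rw [onBlock_apply, hsw0, hsw0, onBlock_apply]
            | rw [onBlock_other (e 1) σ (fun ⟨i', hi'⟩ => hdis i i' hi'.symm), hsw0,
                onBlock_other (e 0) σ (fun ⟨i', hi'⟩ => hdis i' i hi')]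
        by_cases h1 : z ∈ Set.range (e 1)
        · obtain ⟨i, rfl⟩ := h1
          first
            | rw [onBlock_apply, hsw1, hsw1, onBlock_apply]
            | rw [onBlock_other (e 0) σ (fun ⟨i', hi'⟩ => hdis i' i hi'), hsw1,
                onBlock_other (e 1) σ (fun ⟨i', hi'⟩ => hdis i i' hi'.symm)]
        rw [hswo z h0 h1]
        first
          | rw [onBlock_other (e 0) σ h0, onBlock_other (e 1) σ h1, hswo z h0 h1]
          | rw [onBlock_other (e 1) σ h1, onBlock_other (e 0) σ h0, hswo z h0 h1]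
    set P : Perm α := onBlock (e 0) dbl5 * SW with hP
    have hsignSW : Perm.sign SW = -1 := by
      have hne : ∀ a b, e 0 a ≠ e 1 b := hdis
      simp only [hSW, map_mul, Perm.sign_swap (hne _ _)]
      rfl
    have hPmem : P ∈ alternatingGroup α := by
      rw [Perm.mem_alternatingGroup, hP, map_mul, sign_onBlock, sign_dbl5, hsignSW]; rfl
    set u := lft π P with hu
    have hπu : π u = P := hs.map_lft hPmem
    have hud : Commute (π u) (π h) := by
      rw [hπu, hπh, hP, hH]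
      have c1 : Commute (onBlock (e 0) dbl5) (onBlock (e 0) dbl5 * onBlock (e 1) dbl5) :=
        (Commute.refl _).mul_right (hcd _ _)
      have c2 : Commute SW (onBlock (e 0) dbl5 * onBlock (e 1) dbl5) := by
        rw [Commute, SemiconjBy, ← mul_inv_eq_iff_eq_mul]
        calc SW * (onBlock (e 0) dbl5 * onBlock (e 1) dbl5) * SW⁻¹
            = (SW * onBlock (e 0) dbl5 * SW⁻¹) * (SW * onBlock (e 1) dbl5 * SW⁻¹) := by group
          _ = onBlock (e 0) dbl5 * onBlock (e 1) dbl5 := by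
            rw [(hconjSW _).1, (hconjSW _).2, ← (hcd _ _).eq]
      exact c1.mul_left c2
    have key : ∀ σ, π u * onBlock (e 0) σ * (π u)⁻¹ = onBlock (e 1) σ ∧
        π u * onBlock (e 1) σ * (π u)⁻¹ = onBlock (e 0) (dbl5 * σ * dbl5⁻¹) := by
      intro σ
      rw [hπu, hP]
      constructor
      · calc onBlock (e 0) dbl5 * SW * onBlock (e 0) σ * (onBlock (e 0) dbl5 * SW)⁻¹
            = onBlock (e 0) dbl5 * (SW * onBlock (e 0) σ * SW⁻¹) * (onBlock (e 0) dbl5)⁻¹ := by
              group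
          _ = onBlock (e 1) σ := by rw [(hconjSW σ).1, (hcd _ _).eq, mul_inv_cancel_right]
      · calc onBlock (e 0) dbl5 * SW * onBlock (e 1) σ * (onBlock (e 0) dbl5 * SW)⁻¹
            = onBlock (e 0) dbl5 * (SW * onBlock (e 1) σ * SW⁻¹) * (onBlock (e 0) dbl5)⁻¹ := by
              group
          _ = _ := by rw [(hconjSW σ).2, map_mul, map_mul, map_inv]
    have h0 : u * T 0 * u⁻¹ = T 1 ^ 1 :=
      hs.conj_comm_pow (hconj 1) (hq 1) hud (by rw [pow_one, hπx, hπx, (key _).1])
    have h1 : u * T 1 * u⁻¹ = T 0 ^ 2 :=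
      hs.conj_comm_pow (hconj 0) (hq 0) hud (by
        rw [hπx, hπx, (key _).2, dbl5_conj, map_pow])
    have e1 : u⁻¹ * T 1 * u = T 0 ^ 1 := by
      rw [pow_one] at h0 ⊢
      conv_lhs => rw [← h0]
      group
    have e0 : u⁻¹ * T 0 * u = T 1 ^ 3 := by
      have h3 : u * T 1 ^ 3 * u⁻¹ = T 0 := by
        rw [← conj_pow, h1, ← pow_mul, pow_eq_pow_mod _ (hT.pow 0)]; norm_num
      conv_lhs => rw [← h3]
      group
    have hle := mult_le (ρ := ρ) hω u ![1, 0] ![3, 1] (fun i => by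
      fin_cases i
      · exact e0
      · exact e1) χ
    refine hle.trans_eq ?_
    show mult ρ T ω _ = mult ρ T ω _
    congr 1
    funext i
    fin_cases i <;> simp
  -- eigenspaces of the first cycle are planes
  obtain ⟨T4, hT4, hdis4⟩ := exists_outside (S := Finset.univ.map (e 0)) (m := 4)
    (by rw [Finset.card_map, Finset.card_univ, Fintype.card_fin]; omega)
  obtain ⟨p, q, r, s, hpq, hpr, hps, hqr, hqs, hrs, rfl⟩ := Finset.card_eq_four.1 hT4
  have hfix : ∀ i, e 0 i ≠ p ∧ e 0 i ≠ q ∧ e 0 i ≠ r ∧ e 0 i ≠ s := fun i => by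
    have h1 := Finset.disjoint_right.1 hdis4 (Finset.mem_map.2 ⟨i, Finset.mem_univ i, rfl⟩)
    simp only [Finset.mem_insert, Finset.mem_singleton, not_or] at h1
    exact h1
  have hrow : ∀ a, Even (∑ χ ∈ Finset.univ.filter (fun χ : Fin 2 → ZMod 5 => χ 0 = a), d χ) := by
    intro a
    rw [← hT.dim_eigen 0 a]
    exact hs.spin_even hlin (show D4 p q r s from ⟨hpq, hpr, hps, hqr, hqs, hrs⟩) _
      (hs.cycle_eigen_inv le_rfl (e 0) (hout 0) (fun i => by
        rw [hs.map_lft_dt, dt_apply_other (hfix i).1 (hfix i).2.1 (hfix i).2.2.1 (hfix i).2.2.2]) _)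
      (hs.cycle_eigen_inv le_rfl (e 0) (hout 0) (fun i => by
        rw [hs.map_lft_dt, dt_apply_other (hfix i).1 (hfix i).2.2.1 (hfix i).2.1 (hfix i).2.2.2]) _)
  -- there is a weight nontrivial on the first cycle
  obtain ⟨χ₀, hχ₀, hχ₀d⟩ : ∃ χ : Fin 2 → ZMod 5, χ 0 ≠ 0 ∧ d χ ≠ 0 := by
    by_contra hc
    push Not at hc
    have h1 := hT.eq_one_of_mult_zero hs.inj 0 hc
    have h2 := hTπ 0
    rw [h1, map_one] at h2
    have h3 := DFunLike.congr_fun h2 (e 0 0)
    rw [onBlock_apply, Perm.one_apply] at h3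
    exact absurd ((e 0).injective h3) (by decide)
  -- normalise to first coordinate one
  set l := (χ₀ 0) ^ 3 * χ₀ 1 with hl
  have hunit := five_unit
  have hA : 0 < d ![1, l] := by
    have h1 := hscale' ((χ₀ 0) ^ 3) χ₀ (pow_ne_zero _ hχ₀)
    have h2 : (fun i => (χ₀ 0) ^ 3 * χ₀ i) = ![1, l] := by
      funext i; fin_cases i
      · exact hunit _ hχ₀
      · rfl
    rw [h2] at h1
    omega
  -- every row has total two
  have hrow2 : ∀ a : ZMod 5, a ≠ 0 →
      (∑ χ ∈ Finset.univ.filter (fun χ : Fin 2 → ZMod 5 => χ 0 = a), d χ) = 2 ∧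
      (∑ χ ∈ Finset.univ.filter (fun χ : Fin 2 → ZMod 5 => χ 0 = 0), d χ) = 0 := by
    set S := fun a => ∑ χ ∈ Finset.univ.filter (fun χ : Fin 2 → ZMod 5 => χ 0 = a), d χ with hS
    have hpos : ∀ a : ZMod 5, a ≠ 0 → 2 ≤ S a := by
      intro a ha
      have h1 : d ![1, l] ≤ d (fun i => a * ![1, l] i) := hscale' a _ ha
      have h2 : d (fun i => a * ![1, l] i) ≤ S a :=
        Finset.single_le_sum (f := d) (fun χ _ => Nat.zero_le _)
          (Finset.mem_filter.2 ⟨Finset.mem_univ _, by simp⟩)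
      obtain ⟨t, ht⟩ := hrow a
      simp only [hS] at h2 ⊢
      omega
    have htot : ∑ a : ZMod 5, S a = finrank k V := by
      rw [hT.dim_eq, hS]
      exact Finset.sum_fiberwise _ _ _
    have h5' : ∑ a : ZMod 5, S a = S 0 + S 1 + S 2 + S 3 + S 4 := by
      rw [Finset.sum_eq_multiset_sum]
      exact (Fin.sum_univ_five (f := S) : _)
    have p1 := hpos 1 five_ne.1
    have p2 := hpos 2 five_ne.2.1
    have p3 := hpos 3 five_ne.2.2.1
    have p4 := hpos 4 five_ne.2.2.2
    intro a ha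
    have hcases : a = 1 ∨ a = 2 ∨ a = 3 ∨ a = 4 := by
      exact five_cases a ha
    show S a = 2 ∧ S 0 = 0
    refine ⟨?_, by omega⟩
    rcases hcases with rfl | rfl | rfl | rfl <;> omega
  have hl0 : l ≠ 0 := by
    intro h0
    rw [h0] at hA
    have h1 := hswap ![1, 0]
    simp only [Matrix.cons_val_zero, Matrix.cons_val_one, mul_zero] at h1
    have h2 : d ![0, 1] ≤ ∑ χ ∈ Finset.univ.filter (fun χ : Fin 2 → ZMod 5 => χ 0 = 0), d χ :=
      Finset.single_le_sum (f := d) (fun χ _ => Nat.zero_le _)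
        (Finset.mem_filter.2 ⟨Finset.mem_univ _, rfl⟩)
    have := (hrow2 1 five_ne.1).2
    omega
  -- three weights in one row
  have hB : 0 < d ![1, -l] := by
    have h1 := hflip ![1, l]
    simp only [Matrix.cons_val_zero, Matrix.cons_val_one] at h1
    omega
  have hC : 0 < d ![1, 2 * l ^ 3] := by
    have h1 := hswap ![1, l]
    simp only [Matrix.cons_val_zero, Matrix.cons_val_one] at h1
    have hz : (3 * l) ^ 3 * (3 * l) = 1 ∧ (3 * l) ^ 3 * 1 = 2 * l ^ 3 := by
      exact five_turn l hl0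
    have h3l : (3 * l) ^ 3 ≠ 0 := fun h => by simp [h] at hz
    have h2 := hscale' ((3 * l) ^ 3) ![3 * l, 1] h3l
    have h3 : (fun i => (3 * l) ^ 3 * ![3 * l, 1] i) = ![1, 2 * l ^ 3] := by
      funext i; fin_cases i
      · exact hz.1
      · exact hz.2
    rw [h3] at h2
    omega
  have hthree := five_three_values l hl0
  set R := ({l, -l, 2 * l ^ 3} : Finset (ZMod 5)).map
    ⟨fun b => ![(1 : ZMod 5), b], fun b b' h => by simpa using congrFun h 1⟩ with hR
  have hsum : R.card ≤ ∑ χ ∈ R, d χ := by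
    rw [Finset.card_eq_sum_ones]
    refine Finset.sum_le_sum fun χ hχ => ?_
    obtain ⟨b, hb, rfl⟩ := Finset.mem_map.1 hχ
    simp only [Finset.mem_insert, Finset.mem_singleton] at hb
    rcases hb with rfl | rfl | rfl <;> assumption
  have hsub : ∑ χ ∈ R, d χ ≤ ∑ χ ∈ Finset.univ.filter (fun χ : Fin 2 → ZMod 5 => χ 0 = 1), d χ := by
    refine Finset.sum_le_sum_of_subset fun χ hχ => ?_
    obtain ⟨b, -, rfl⟩ := Finset.mem_map.1 hχ
    exact Finset.mem_filter.2 ⟨Finset.mem_univ _, rfl⟩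
  have hcardR : R.card = 3 := by rw [hR, Finset.card_map, hthree]
  rw [hcardR] at hsum
  have := (hrow2 1 five_ne.1).1
  omega

end Setup

end CfsgLib.AltSection
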