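import Cfsg.Agent.Lib.AltSection.Lines3
import Cfsg.Agent.Lib.AltSection.QuadWeights
import Cfsg.Agent.Lib.AltSection.SpinTen

/-!
The eight-dimensional case on ten and eleven points.
-/

set_option autoImplicit false

namespace CfsgLib.AltSection

open Equiv Module
open scoped commutatorElement

variable {k : Type*} [Field k] {V : Type*} [AddCommGroup V] [Module k V] {G : Type*} [Group G]
  {α : Type*} [Fintype α] [DecidableEq α] {ρ : Representation k G V} {π : G →* Perm α}

theorem five_orbit : ∀ a : ZMod 5, a ≠ 0 →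
    ({a, 3 * a, 3 * (3 * a), 3 * (3 * (3 * a))} : Finset (ZMod 5)).card = 4 := by decide

theorem five_three_ne : (3 : ZMod 5) ≠ 0 := by decide

theorem three_other : ∀ x y : ZMod 3, x ≠ 0 → y ≠ 0 → x ≠ y → 2 * x = y := by decide

theorem rot5_pow_apply : ∀ i : Fin 5, (finRotate 5 ^ i.val) 0 = i := by decide

theorem Cov.commute_five (hπ : Cov π) (e : Fin 5 ↪ α) {x u : G}
    (hx : π x = onBlock e (finRotate 5)) (hu : Commute (π u) (π x)) : Commute u x := by
  classical
  set X := onBlock e (finRotate 5) with hX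
  rw [hx] at hu
  have hcom : ∀ z, π u (X z) = X (π u z) := fun z => DFunLike.congr_fun hu.eq z
  have hmem : π u (e 0) ∈ Set.range e := by
    by_contra hn
    have h1 := hcom (e 0)
    rw [hX, onBlock_other e _ hn, onBlock_apply] at h1
    exact absurd (e.injective ((π u).injective h1)) (by decide)
  obtain ⟨i, hi⟩ := hmem
  set v := (x ^ i.val)⁻¹ * u with hv
  have hπv : π v = (X ^ i.val)⁻¹ * π u := by rw [hv, map_mul, map_inv, map_pow, hx]
  have hvX : Commute (π v) X := by
    rw [hπv]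
    exact ((Commute.refl X).pow_left i.val).inv_left.mul_left hu
  have hv0 : π v (e 0) = e 0 := by
    rw [hπv, Perm.mul_apply, ← hi, Perm.inv_eq_iff_eq, hX, ← map_pow, onBlock_apply,
      rot5_pow_apply]
  have hvall : ∀ j, π v (e j) = e j := by
    intro j
    have hj : e j = (X ^ j.val) (e 0) := by rw [hX, ← map_pow, onBlock_apply, rot5_pow_apply]
    have hc : Commute (π v) (X ^ j.val) := hvX.pow_right _
    rw [hj, ← Perm.mul_apply, hc.eq, Perm.mul_apply, hv0]
  have h1 : Commute x v := by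
    refine hπ.commute_sets (S := Finset.univ.map e) (by simp) ?_ ?_
    · intro z hz
      obtain ⟨j, -, rfl⟩ := Finset.mem_map.1 hz
      exact hvall j
    · intro z hz
      rw [hx, hX, onBlock_other e _ fun ⟨j, hj⟩ => hz (Finset.mem_map.2 ⟨j, Finset.mem_univ j, hj⟩)]
  have h2 := (((Commute.refl x).pow_right i.val).mul_right h1).symm
  rwa [hv, mul_inv_cancel_left] at h2

/-- The commutator lifting a five-cycle does not depend on the element doubling it. -/
theorem Cov.five_canon (hπ : Cov π) (e : Fin 5 ↪ α) {x h h' : G}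
    (hx : π x = onBlock e (finRotate 5)) (h1 : π h * π x * (π h)⁻¹ = π x ^ 2)
    (h2 : π h' * π x * (π h')⁻¹ = π x ^ 2) : ⁅h, x⁆ = ⁅h', x⁆ := by
  have hc : Commute (π (h'⁻¹ * h)) (π x) := by
    rw [Commute, SemiconjBy, map_mul, map_inv]
    calc (π h')⁻¹ * π h * π x = (π h')⁻¹ * (π h * π x * (π h)⁻¹) * π h := by group
      _ = (π h')⁻¹ * (π h' * π x * (π h')⁻¹) * π h := by rw [h1, h2]
      _ = π x * ((π h')⁻¹ * π h) := by group
  have h3 := hπ.commute_five e hx hc
  have h4 : h * x * h⁻¹ = h' * x * h'⁻¹ := by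
    calc h * x * h⁻¹ = h' * ((h'⁻¹ * h) * x * (h'⁻¹ * h)⁻¹) * h'⁻¹ := by group
      _ = h' * x * h'⁻¹ := by rw [h3.eq]; group
  rw [commutatorElement_def, commutatorElement_def, h4]

namespace Setup

variable [FiniteDimensional k V] [IsAlgClosed k] (hs : Setup ρ π)
include hs

/-- Eight-dimensional fixed-point-free representations give planes on six points. -/
theorem eight_planes (h3 : (3 : k) ≠ 0) (hn : finrank k V = 8)
    (hfix : ∀ a b c, D3 a b c → fixedSp ρ (T π a b c) = ⊥) {ω : k} (hω : IsPrimitiveRoot ω 3)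
    {e : Fin 3 × Fin 3 → α} (he : Function.Injective e) :
    (∀ χ : Fin 2 → ZMod 3, (∀ i, χ i ≠ 0) →
      finrank k (wt ρ (fun i : Fin 2 => blockT π e i.succ) ω χ) = 2) ∧
    (∀ v ∈ fixedSp ρ (blockT π e 0), v = 0) ∧
    (∀ χ : Fin 2 → ZMod 3, (∃ i, χ i = 0) →
      wt ρ (fun i : Fin 2 => blockT π e i.succ) ω χ = ⊥) := by
  classical
  have hT := hs.blockT_tor hω h3 he
  set d := fun χ => mult ρ (blockT π e) ω χ with hd
  have hR : ∀ i j : Fin 3, i ≠ j → ∀ χ, d χ ≤ d (sswap i j χ) :=
    fun i j hij χ => hs.blockT_sswap hω he hij χ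
  have hzero : ∀ (i : Fin 3) (v : V), ρ (blockT π e i) v = v → v = 0 := fun i v hv => by
    have h1 : v ∈ fixedSp ρ (blockT π e i) := mem_fixedSp.2 hv
    rwa [blockT, hfix _ _ _ (block_D3 he i), Submodule.mem_bot] at h1
  have hnz : ∀ χ i, χ i = 0 → d χ = 0 := fun χ i hi => by
    show finrank k (wt ρ (blockT π e) ω χ) = 0
    suffices h0 : wt ρ (blockT π e) ω χ = ⊥ by rw [h0, finrank_bot]
    refine (Submodule.eq_bot_iff _).2 fun v hv => hzero i v ?_
    rw [mem_wt.1 hv i, hi, ZMod.val_zero, pow_zero, one_smul]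
  have hfull : ∀ χ, (∀ i, χ i ≠ 0) → χ ∈ suppSet 3 3 := fun χ h => by
    simp [suppSet, chSupp, h]
  have hone : ∀ χ, (∀ i, χ i ≠ 0) → d χ = 1 := by
    intro χ hχ
    have h1 : ∑ x, d x = ∑ x ∈ suppSet 3 3, d x := by
      refine (Finset.sum_subset (Finset.subset_univ _) fun x _ hx => ?_).symm
      obtain ⟨i, hi⟩ : ∃ i, x i = 0 := by
        by_contra hc
        push Not at hc
        exact hx (hfull x hc)
      exact hnz x i hi
    have h2 : ∑ x ∈ suppSet 3 3, d x = 8 * d χ := by
      rw [Finset.sum_eq_card_nsmul (b := d χ), card_suppSet]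
      · norm_num
      · intro x hx
        refine d_card_eq le_rfl hR x χ ?_
        have := (Finset.mem_filter.1 hx).2
        rw [this, (Finset.mem_filter.1 (hfull χ hχ)).2]
    have h4 := hT.dim_eq
    rw [hn] at h4
    have : 8 = 8 * d χ := h4.trans (h1.trans h2)
    omega
  refine ⟨fun χ hχ => ?_, fun v hv => hzero 0 v (mem_fixedSp.1 hv), fun χ ⟨i, hi⟩ => ?_⟩
  · set U := wt ρ (fun i : Fin 2 => blockT π e i.succ) ω χ with hU
    have hinv : ∀ i, ∀ v ∈ U, ρ (blockT π e i) v ∈ U := by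
      intro i v hv
      rw [hU, mem_wt] at hv ⊢
      intro j
      rw [← rho_mul, (hT.comm j.succ i).eq, rho_mul, hv j, map_smul]
    rw [hT.dim_eq_sub U hinv]
    have hterm : ∀ ψ : Fin 3 → ZMod 3, finrank k (U ⊓ wt ρ (blockT π e) ω ψ : Submodule k V) =
        if (ψ 1 = χ 0 ∧ ψ 2 = χ 1) then d ψ else 0 := by
      intro ψ
      split_ifs with h
      · suffices h0 : U ⊓ wt ρ (blockT π e) ω ψ = wt ρ (blockT π e) ω ψ by
          rw [h0]; rfl
        refine inf_eq_right.2 fun v hv => ?_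
        rw [hU, mem_wt]
        intro j
        fin_cases j
        · show ρ (blockT π e 1) v = _
          rw [mem_wt.1 hv 1, h.1]; rfl
        · show ρ (blockT π e 2) v = _
          rw [mem_wt.1 hv 2, h.2]; rfl
      · suffices h0 : U ⊓ wt ρ (blockT π e) ω ψ = ⊥ by rw [h0, finrank_bot]
        refine (Submodule.eq_bot_iff _).2 fun v hv => ?_
        by_contra hv0
        have key : ∀ (j : Fin 2), ψ j.succ = χ j := by
          intro j
          have h1 := mem_wt.1 hv.1 j
          rw [mem_wt.1 hv.2 j.succ] at h1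
          have h2 := smul_left_injective k hv0 h1
          exact ZMod.val_injective 3 (hω.pow_inj (ZMod.val_lt _) (ZMod.val_lt _) h2)
        exact h ⟨key 0, key 1⟩
    rw [Finset.sum_congr rfl fun ψ _ => hterm ψ, ← Finset.sum_filter]
    have hset : (Finset.univ.filter fun ψ : Fin 3 → ZMod 3 => ψ 1 = χ 0 ∧ ψ 2 = χ 1) =
        (Finset.univ : Finset (ZMod 3)).map ⟨fun c => ![c, χ 0, χ 1],
          fun c c' h => by simpa using congrFun h 0⟩ := by
      ext ψ
      simp only [Finset.mem_filter, Finset.mem_univ, true_and, Finset.mem_map,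
        Function.Embedding.coeFn_mk]
      constructor
      · rintro ⟨h1, h2⟩
        exact ⟨ψ 0, funext fun i => by fin_cases i <;> first | rfl | exact h1.symm | exact h2.symm⟩
      · rintro ⟨c, rfl⟩; exact ⟨rfl, rfl⟩
    rw [hset, Finset.sum_map]
    have h3sum : ∀ f : ZMod 3 → ℕ, ∑ c, f c = f 0 + f 1 + f 2 := fun f => Fin.sum_univ_three f
    rw [h3sum]
    show d ![0, χ 0, χ 1] + d ![1, χ 0, χ 1] + d ![2, χ 0, χ 1] = 2
    rw [hnz _ 0 rfl, hone ![1, χ 0, χ 1] (fun i => by
        fin_cases i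
        · exact one_ne_zero
        · exact hχ 0
        · exact hχ 1), hone ![2, χ 0, χ 1] (fun i => by
        fin_cases i
        · show (2 : ZMod 3) ≠ 0
          decide +revert
        · exact hχ 0
        · exact hχ 1)]
  · refine (Submodule.eq_bot_iff _).2 fun v hv => hzero i.succ v ?_
    rw [mem_wt.1 hv i, hi, ZMod.val_zero, pow_zero, one_smul]

/-- With commuting four-group lifts and `2` invertible there is no such representation. -/
theorem eight_linear (hl : Linear π) (h2 : (2 : k) ≠ 0) (h3 : (3 : k) ≠ 0)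
    (hn : finrank k V = 8) (hfix : ∀ a b c, D3 a b c → fixedSp ρ (T π a b c) = ⊥)
    (hcard : 10 ≤ Fintype.card α) : False := by
  classical
  obtain ⟨ω, hω⟩ : ∃ ω : k, IsPrimitiveRoot ω 3 := exists_primitive (by exact_mod_cast h3)
  obtain ⟨E⟩ := Function.Embedding.nonempty_of_card_le (α := Fin 3 × Fin 3) (β := α)
    (by rw [Fintype.card_prod, Fintype.card_fin]; omega)
  obtain ⟨p, hp⟩ := exists_one_outside (S := Finset.univ.map E)
    (by rw [Finset.card_map, Finset.card_univ, Fintype.card_prod, Fintype.card_fin]; omega)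
  simp only [Finset.mem_map, Finset.mem_univ, true_and, not_exists] at hp
  let Q : Fin 1 × Fin 4 → α := fun x => ![p, E (0, 0), E (0, 1), E (0, 2)] x.2
  have hQ : Function.Injective Q := by
    have h4 := injective_four (show D4 p (E (0, 0)) (E (0, 1)) (E (0, 2)) from
      ⟨Ne.symm (hp _), Ne.symm (hp _), Ne.symm (hp _), E.injective.ne (by decide),
        E.injective.ne (by decide), E.injective.ne (by decide)⟩)
    intro x y h
    exact Prod.ext (Subsingleton.elim _ _) (h4 h)
  obtain ⟨hplane, -, hbot⟩ := hs.eight_planes h3 hn hfix hω E.injective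
  set T2 := fun i : Fin 2 => blockT π E i.succ with hT2
  set A := blockU π Q (0, 0) with hA
  have hT := hs.blockU_tor hl h2 hQ
  set t := blockT π E 0 with ht
  have hQout : ∀ (j : Fin 2) t' s, Q (0, t') ≠ E (j.succ, s) := by
    intro j t' s
    fin_cases t'
    · exact Ne.symm (hp _)
    all_goals exact E.injective.ne (by simp [eq_comm, Fin.succ_ne_zero])
  -- everything supported on the four points preserves the planes
  have hpres : ∀ (g : G), (∀ z, (∀ t', z ≠ Q (0, t')) → π g z = z) → ∀ χ : Fin 2 → ZMod 3,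
      ∀ v ∈ wt ρ T2 ω χ, ρ g v ∈ wt ρ T2 ω χ := by
    intro g hg χ v hv
    rw [mem_wt] at hv ⊢
    intro j
    have hD3 := block_D3 E.injective j.succ
    have hc : Commute g (T2 j) := by
      refine hs.commute_disjoint
        (S := {E (j.succ, 0), E (j.succ, 1), E (j.succ, 2)}) ?_ ?_ ?_
      · rw [Finset.card_compl]
        have := (Finset.card_le_three (a := E (j.succ, 0)) (b := E (j.succ, 1))
          (c := E (j.succ, 2)))
        omega
      · intro z hz
        simp only [Finset.mem_insert, Finset.mem_singleton, not_or] at hz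
        show π (blockT π E j.succ) z = z
        rw [blockT, hs.map_T hD3, cyc_apply_other hz.1 hz.2.1 hz.2.2]
      · intro z hz
        simp only [Finset.mem_insert, Finset.mem_singleton] at hz
        refine hg z fun t' h => ?_
        rcases hz with rfl | rfl | rfl <;> exact hQout j t' _ h.symm
    rw [← rho_mul, ← hc.eq, rho_mul, hv j, map_smul]
  have hsuppU : ∀ x z, (∀ t', z ≠ Q (0, t')) → π (blockU π Q x) z = z := by
    intro ⟨i, j⟩ z hz
    obtain rfl : i = 0 := Subsingleton.elim _ _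
    have hD := block_D4 hQ 0
    fin_cases j
    · show π (Uq π _ _ _ _) z = z
      rw [hs.map_Uq hD, dt_apply_other (hz _) (hz _) (hz _) (hz _)]
    · show π (Uq π _ _ _ _) z = z
      rw [hs.map_Uq hD.rot, dt_apply_other (hz _) (hz _) (hz _) (hz _)]
    · show π (Uq π _ _ _ _) z = z
      rw [hs.map_Uq hD.rot.rot, dt_apply_other (hz _) (hz _) (hz _) (hz _)]
  have hsuppt : ∀ z, (∀ t', z ≠ Q (0, t')) → π t z = z := fun z hz => by
    have h : π t = cyc (Q (0, 1)) (Q (0, 2)) (Q (0, 3)) := hs.map_T (block_D3 E.injective 0)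
    rw [h, cyc_apply_other (hz 1) (hz 2) (hz 3)]
  -- the four-group is trivial on each plane
  have htriv : ∀ χ : Fin 2 → ZMod 3, ∀ v ∈ wt ρ T2 ω χ, ρ A v = v := by
    intro χ
    by_cases hχ : ∃ i, χ i = 0
    · intro v hv
      rw [hbot χ hχ, Submodule.mem_bot] at hv
      rw [hv, map_zero]
    push Not at hχ
    set U := wt ρ T2 ω χ with hU
    have hdimU : finrank k U = 2 := hplane χ hχ
    set w := fun ψ : Fin 1 → Fin 4 =>
      finrank k (U ⊓ wt ρ (blockU π Q) (-1 : k) (bChar ψ) : Submodule k V) with hw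
    have hsum := hT.dim_eq_sub U fun x => hpres _ (hsuppU x) χ
    -- the three-cycle permutes the nontrivial weights
    have hcyc : ∀ ψ, w ψ ≤ w (Function.update ψ 0 (cyc4 (ψ 0))) := by
      intro ψ
      let τ : Fin 1 × Fin 3 → Fin 1 × Fin 3 := fun x => (x.1, x.2 + 1)
      have hD := block_D4 hQ 0
      have hπt : π t = cyc (Q (0, 1)) (Q (0, 2)) (Q (0, 3)) := hs.map_T (block_D3 E.injective 0)
      have t0 : π t (Q (0, 0)) = Q (0, 0) := by rw [hπt, cyc_apply_other hD.1 hD.2.1 hD.2.2.1]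
      have t1 : π t (Q (0, 1)) = Q (0, 2) := by
        rw [hπt, cyc_apply_fst hD.2.2.2.2.1 hD.2.2.2.2.2]
      have t2 : π t (Q (0, 2)) = Q (0, 3) := by rw [hπt, cyc_apply_snd hD.2.2.2.1 hD.2.2.2.2.1]
      have t3 : π t (Q (0, 3)) = Q (0, 1) := by
        rw [hπt, cyc_apply_thd hD.2.2.2.1 hD.2.2.2.2.1 hD.2.2.2.2.2]
      have hconj : ∀ x, t⁻¹⁻¹ * blockU π Q x * t⁻¹ = blockU π Q (τ x) ^ (1 : ZMod 2).val := by
        intro ⟨i, j⟩
        obtain rfl : i = 0 := Subsingleton.elim _ _
        rw [ZMod.val_one, pow_one, inv_inv]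
        fin_cases j
        · exact (hs.conj_Uq hD t).trans (by rw [t0, t1, t2, t3]; rfl)
        · exact (hs.conj_Uq hD.rot t).trans (by rw [t0, t1, t2, t3]; rfl)
        · exact (hs.conj_Uq hD.rot.rot t).trans (by rw [t0, t1, t2, t3]; rfl)
      have hle := map_wt_le (ρ := ρ) hT.prim t⁻¹ τ (fun _ => 1) hconj (bChar ψ)
      have heq : (fun x => 1 * bChar ψ (τ x)) = bChar (Function.update ψ 0 (cyc4 (ψ 0))) := by
        funext ⟨i, j⟩
        obtain rfl : i = 0 := Subsingleton.elim _ _
        have key : ∀ (a : Fin 4) (j : Fin 3),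
            (if a = 0 ∨ a = (j + 1).succ then (0 : ZMod 2) else 1) =
            if cyc4 a = 0 ∨ cyc4 a = j.succ then 0 else 1 := by decide
        simp only [τ, bChar, one_mul, Function.update_self]
        exact key _ _
      rw [heq] at hle
      have htinv : ∀ v ∈ U, ρ t⁻¹ v ∈ U := hpres _ (fun z hz => by
        rw [map_inv, Perm.inv_eq_iff_eq]; exact (hsuppt z hz).symm) χ
      show _ ≤ finrank k (U ⊓ wt ρ (blockU π Q) (-1 : k) _ : Submodule k V)
      refine le_of_eq_of_le (finrank_map_rho ρ t⁻¹ _).symm (Submodule.finrank_mono ?_)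
      rintro _ ⟨v, hv, rfl⟩
      exact ⟨htinv v hv.1, hle ⟨v, hv.2, rfl⟩⟩
    have hD3' : ∀ c : Fin 4, c ≠ 0 → w (fun _ => c) = w (fun _ => 1) := by
      intro c hc
      have h1 := D_cyc (D := w) (fun i ψ => by
        obtain rfl : i = 0 := Subsingleton.elim _ _
        exact hcyc ψ) 0
      have e1 : ∀ a, Function.update (fun _ : Fin 1 => a) 0 (cyc4 a) = fun _ => cyc4 a := fun a =>
        funext fun i => by rw [Subsingleton.elim i 0, Function.update_self]
      have a1 := h1 (fun _ => 1)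
      have a3 := h1 (fun _ => 3)
      rw [e1, show cyc4 1 = 3 from rfl] at a1
      rw [e1, show cyc4 3 = 2 from rfl] at a3
      have : ∀ c : Fin 4, c ≠ 0 → c = 1 ∨ c = 2 ∨ c = 3 := by decide
      rcases this c hc with rfl | rfl | rfl
      · rfl
      · exact a3.trans a1
      · exact a1
    have hthree : ∑ ψ ∈ ({fun _ => 1, fun _ => 2, fun _ => 3} : Finset (Fin 1 → Fin 4)), w ψ ≤
        finrank k U := by
      rw [hsum, ← Finset.sum_image
        (f := fun χ' => finrank k (U ⊓ wt ρ (blockU π Q) (-1 : k) χ' : Submodule k V))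
        fun a _ b _ h => bChar_injective h]
      exact Finset.sum_le_sum_of_subset (Finset.subset_univ _)
    have h12 : (fun _ : Fin 1 => (1 : Fin 4)) ∉
        ({fun _ => 2, fun _ => 3} : Finset (Fin 1 → Fin 4)) := by
      simp [funext_iff]
    have h23 : (fun _ : Fin 1 => (2 : Fin 4)) ∉ ({fun _ => 3} : Finset (Fin 1 → Fin 4)) := by
      simp [funext_iff]
    rw [Finset.sum_insert h12, Finset.sum_insert h23, Finset.sum_singleton, hdimU,
      hD3' 2 (by decide), hD3' 3 (by decide)] at hthree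
    have hw1 : w (fun _ => 1) = 0 := by omega
    -- hence every weight occurring in the plane is trivial
    have hall : ∀ χ' : Fin 1 × Fin 3 → ZMod 2, finrank k (U ⊓ wt ρ (blockU π Q) (-1 : k) χ' : Submodule k V) ≠ 0 →
        χ' = 0 := by
      intro χ' hne
      have hne' : mult ρ (blockU π Q) (-1 : k) χ' ≠ 0 := fun h0 => hne (by
        have h1 : wt ρ (blockU π Q) (-1 : k) χ' = ⊥ := Submodule.finrank_eq_zero.1 h0
        rw [h1, inf_bot_eq, finrank_bot])
      obtain ⟨ψ, rfl⟩ := hs.exists_bChar hl h2 hQ hne'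
      have hψ : ψ = fun _ => ψ 0 := funext fun i => by rw [Subsingleton.elim i 0]
      by_cases h0 : ψ 0 = 0
      · funext x
        simp [bChar, Subsingleton.elim x.1 0, h0]
      · exfalso
        apply hne
        show w ψ = 0
        rw [hψ, hD3' _ h0, hw1]
    have hU0 : U ⊓ wt ρ (blockU π Q) (-1 : k) (0 : Fin 1 × Fin 3 → ZMod 2) = U := by
      refine Submodule.eq_of_le_of_finrank_le inf_le_left ?_
      rw [hsum, Finset.sum_eq_single (0 : Fin 1 × Fin 3 → ZMod 2)]
      · intro χ' _ hne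
        by_contra h0
        exact hne (hall χ' h0)
      · intro h; simp at h
    intro v hv
    have h1 := mem_wt.1 (hU0.ge hv).2 (0, 0)
    simpa using h1
  -- so it is trivial
  have hA1 : A = 1 := by
    refine hs.inj ?_
    rw [map_one, ← sub_eq_zero]
    have hT2' : Tor ρ 3 T2 ω :=
      ⟨fun i j => (hs.blockT_tor hω h3 E.injective).comm i.succ j.succ,
        fun i => (hs.blockT_tor hω h3 E.injective).pow i.succ, by exact_mod_cast h3, hω⟩
    refine hT2'.eq_zero_of_wt _ fun χ v hv => ?_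
    rw [LinearMap.sub_apply, Module.End.one_apply, htriv χ v hv, sub_self]
  have hD := block_D4 hQ 0
  have h5 : π A (Q (0, 0)) = Q (0, 1) := by
    show π (Uq π _ _ _ _) _ = _
    rw [hs.map_Uq hD, dt_apply_fst hD]
  rw [hA1, map_one, Perm.one_apply] at h5
  exact hD.1 h5

/-- On eleven points with `5` invertible there is no such representation. -/
theorem eight_five (h3 : (3 : k) ≠ 0) (h5 : (5 : k) ≠ 0) (hn : finrank k V = 8)
    (hfix : ∀ a b c, D3 a b c → fixedSp ρ (T π a b c) = ⊥) (hcard : 11 ≤ Fintype.card α) :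
    False := by
  classical
  haveI : Fact (Nat.Prime 5) := ⟨by norm_num⟩
  obtain ⟨ω, hω⟩ : ∃ ω : k, IsPrimitiveRoot ω 3 := exists_primitive (by exact_mod_cast h3)
  obtain ⟨ζ, hζ⟩ : ∃ ζ : k, IsPrimitiveRoot ζ 5 := exists_primitive (by exact_mod_cast h5)
  obtain ⟨E⟩ := Function.Embedding.nonempty_of_card_le (α := (Fin 3 × Fin 3) ⊕ Fin 2) (β := α)
    (by rw [Fintype.card_sum, Fintype.card_prod, Fintype.card_fin, Fintype.card_fin]; omega)
  let e : Fin 3 × Fin 3 → α := fun x => E (Sum.inl x)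
  have he : Function.Injective e := E.injective.comp Sum.inl_injective
  let f : Fin 5 ↪ α := (⟨![Sum.inl ((0 : Fin 3), (0 : Fin 3)), Sum.inl (0, 1), Sum.inl (0, 2),
    Sum.inr (0 : Fin 2), Sum.inr 1], by decide⟩ : Fin 5 ↪ (Fin 3 × Fin 3) ⊕ Fin 2).trans E
  have hfe : ∀ i (j : Fin 2) t, f i ≠ e (j.succ, t) := by
    intro i j t h
    have h1 := E.injective h
    fin_cases i <;> simp [Fin.succ_ne_zero, eq_comm] at h1
  obtain ⟨hplane, -, hbot⟩ := hs.eight_planes h3 hn hfix hω he
  set T2 := fun i : Fin 2 => blockT π e i.succ with hT2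
  have hD := fun j : Fin 2 => block_D3 he j.succ
  -- three doubling elements
  have hne : ∀ x y : Fin 3 × Fin 3, x ≠ y → e x ≠ e y := fun x y h => he.ne h
  have hsw : ∀ (x y z : Fin 3 × Fin 3), z ≠ x → z ≠ y → swap (e x) (e y) (e z) = e z :=
    fun x y z h1 h2 => swap_apply_of_ne_of_ne (hne _ _ h1) (hne _ _ h2)
  have hfix5 : ∀ σ : Perm (Fin 5), ∀ (j : Fin 2) t, onBlock f σ (e (j.succ, t)) = e (j.succ, t) :=
    fun σ j t => onBlock_other f σ fun ⟨i, hi⟩ => hfe i j t hi
  obtain ⟨S1, hS1⟩ : ∃ S1 : Perm α, S1 = swap (e (1, 0)) (e (2, 0)) * swap (e (1, 1)) (e (2, 1)) *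
    swap (e (1, 2)) (e (2, 2)) := ⟨_, rfl⟩
  obtain ⟨S2, hS2⟩ : ∃ S2 : Perm α, S2 = swap (e (1, 1)) (e (1, 2)) := ⟨_, rfl⟩
  have hS1sign : Perm.sign S1 = -1 := by
    rw [hS1, map_mul, map_mul, Perm.sign_swap (hne _ _ (by decide)),
      Perm.sign_swap (hne _ _ (by decide)), Perm.sign_swap (hne _ _ (by decide))]
    rfl
  have hS2sign : Perm.sign S2 = -1 := by rw [hS2, Perm.sign_swap (hne _ _ (by decide))]
  have hS1f : ∀ i, S1 (f i) = f i := fun i => by
    have a0 := fun t => hfe i 0 t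
    have a1 := fun t => hfe i 1 t
    simp only [show ((0 : Fin 2).succ : Fin 3) = 1 from rfl,
      show ((1 : Fin 2).succ : Fin 3) = 2 from rfl] at a0 a1
    simp [hS1, swap_apply_of_ne_of_ne, a0, a1]
  have hS2f : ∀ i, S2 (f i) = f i := fun i => by
    have a0 := fun t => hfe i 0 t
    simp only [show ((0 : Fin 2).succ : Fin 3) = 1 from rfl] at a0
    simp [hS2, swap_apply_of_ne_of_ne, a0]
  set x := lft π (onBlock f (finRotate 5)) with hx
  have hπx : π x = onBlock f (finRotate 5) := hs.map_lft (by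
    rw [Perm.mem_alternatingGroup, sign_onBlock, sign_rot5])
  have hdouble : ∀ S : Perm α, Perm.sign S = -1 → (∀ i, S (f i) = f i) →
      ∃ g : G, π g = onBlock f dbl5 * S ∧ π g * π x * (π g)⁻¹ = π x ^ 2 := by
    intro S hsign hSf
    have hmem : onBlock f dbl5 * S ∈ alternatingGroup α := by
      rw [Perm.mem_alternatingGroup, map_mul, sign_onBlock, sign_dbl5, hsign]; rfl
    refine ⟨lft π (onBlock f dbl5 * S), hs.map_lft hmem, ?_⟩
    have hc : Commute S (onBlock f (finRotate 5)) := commute_of_support fun z => by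
      by_cases hz : z ∈ Set.range f
      · obtain ⟨i, rfl⟩ := hz; exact Or.inl (hSf i)
      · exact Or.inr (onBlock_other f _ hz)
    rw [hs.map_lft hmem, hπx, ← map_pow, ← dbl5_conj, map_mul (onBlock f), map_mul (onBlock f),
      map_inv (onBlock f), mul_inv_rev, mul_assoc (onBlock f dbl5), hc.eq]
    group
  obtain ⟨g1, hg1, hg1x⟩ := hdouble S1 hS1sign hS1f
  obtain ⟨g2, hg2, hg2x⟩ := hdouble S2 hS2sign hS2f
  set y := ⁅g1, x⁆ with hy
  have hq : π x ^ 5 = 1 := by rw [hπx, ← map_pow, rot5_pow, map_one]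
  obtain ⟨hπy, hy5, hy1⟩ := hs.comm_pow hg1x hq
  have hy2 : g2 * y * g2⁻¹ = y ^ 2 := by
    rw [hy, hs.five_canon f hπx hg1x hg2x]
    exact (hs.comm_pow hg2x hq).2.2
  have hπy' : π y = onBlock f (finRotate 5) := by
    rw [hπy, hπx, pow_two, mul_inv_cancel_right]
  -- the five-cycle preserves the planes
  have hT2c : ∀ j, Commute y (T2 j) := by
    intro j
    refine hs.commute_sets (S := Finset.univ.map f) (by simp) ?_ ?_
    · intro z hz
      obtain ⟨i, -, rfl⟩ := Finset.mem_map.1 hz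
      show π (blockT π e j.succ) (f i) = f i
      rw [blockT, hs.map_T (hD j), cyc_apply_other (hfe i j 0) (hfe i j 1) (hfe i j 2)]
    · intro z hz
      rw [hπy']
      exact onBlock_other f _ fun ⟨i, hi⟩ => hz (Finset.mem_map.2 ⟨i, Finset.mem_univ i, hi⟩)
  let Y : Fin 1 → G := fun _ => y
  have hY : Tor ρ 5 Y ζ := ⟨fun _ _ => Commute.refl y, fun _ => hy5, by exact_mod_cast h5, hζ⟩
  let W := fun (χ : Fin 2 → ZMod 3) (a : ZMod 5) =>
    finrank k (wt ρ T2 ω χ ⊓ wt ρ Y ζ (fun _ => a) : Submodule k V)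
  have hsum : ∀ χ, finrank k (wt ρ T2 ω χ) = ∑ a, W χ a := by
    intro χ
    rw [hY.dim_eq_sub (wt ρ T2 ω χ) fun _ v hv => by
      rw [mem_wt] at hv ⊢
      intro j
      rw [← rho_mul, ← (hT2c j).eq, rho_mul, hv j, map_smul]]
    refine Fintype.sum_equiv (Equiv.funUnique (Fin 1) (ZMod 5)) _ _ fun ψ => ?_
    show _ = W χ (ψ 0)
    simp only [W]
    rw [show (fun _ => ψ 0) = ψ from funext fun i => by rw [Subsingleton.elim i 0]]
  have hmap : ∀ (g : G) (σ : Fin 2 → Fin 2) (mm : Fin 2 → ZMod 3),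
      (∀ j, g⁻¹ * T2 j * g = T2 (σ j) ^ (mm j).val) → g * y * g⁻¹ = y ^ 2 →
      ∀ χ a, W χ a ≤ W (fun j => mm j * χ (σ j)) (3 * a) := by
    intro g σ mm hg hgy χ a
    have hgy' : g⁻¹ * y * g = y ^ 3 := by
      have h1 : g * y ^ 3 * g⁻¹ = y := by
        rw [← conj_pow, hgy, ← pow_mul, pow_eq_pow_mod _ hy5]; exact pow_one y
      conv_lhs => rw [← h1]
      group
    refine le_of_eq_of_le (finrank_map_rho ρ g _).symm (Submodule.finrank_mono ?_)
    rintro _ ⟨v, hv, rfl⟩
    exact ⟨map_wt_le hω g σ mm hg χ ⟨v, hv.1, rfl⟩,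
      map_wt_le hζ g id (fun _ => 3) (fun _ => hgy') (fun _ => a) ⟨v, hv.2, rfl⟩⟩
  have hb : ∀ (j : Fin 2) t, e (j.succ, t) = e ((![1, 2] : Fin 2 → Fin 3) j, t) := fun j t => by
    fin_cases j <;> rfl
  have hconj1 : ∀ j : Fin 2, g1⁻¹ * T2 j * g1 = T2 (1 - j) ^ (1 : ZMod 3).val := by
    intro j
    rw [ZMod.val_one, pow_one]
    have key : ∀ j : Fin 2, g1 * T2 (1 - j) * g1⁻¹ = T2 j := by
      intro j
      have hpt : ∀ t, π g1 (e ((1 - j).succ, t)) = e (j.succ, t) := by
        intro t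
        rw [hg1, Perm.mul_apply]
        have h1 : S1 (e ((1 - j).succ, t)) = e (j.succ, t) := by
          fin_cases j <;> fin_cases t <;> simp [hS1, hsw, show ((1 : Fin 2).succ : Fin 3) = 2 from rfl]
        rw [h1, hfix5]
      show g1 * blockT π e (1 - j).succ * g1⁻¹ = blockT π e j.succ
      rw [blockT, hs.conj_T (hD (1 - j)), hpt, hpt, hpt]
      rfl
    conv_lhs => rw [← key j]
    group
  have hconj2 : ∀ j : Fin 2, g2⁻¹ * T2 j * g2 = T2 j ^ ((![2, 1] : Fin 2 → ZMod 3) j).val := by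
    intro j
    have key : g2 * T2 j ^ ((![2, 1] : Fin 2 → ZMod 3) j).val * g2⁻¹ = T2 j := by
      rw [← conj_pow]
      have hpt : ∀ t, π g2 (e (j.succ, t)) = S2 (e (j.succ, t)) := by
        intro t
        rw [hg2, Perm.mul_apply]
        by_cases hin : S2 (e (j.succ, t)) ∈ Set.range f
        · obtain ⟨i, hi⟩ := hin
          exact absurd (S2.injective ((hS2f i).trans hi)) (hfe i j t)
        · rw [onBlock_other f _ hin]
      have hc : g2 * T2 j * g2⁻¹ =
          T π (S2 (e (j.succ, 0))) (S2 (e (j.succ, 1))) (S2 (e (j.succ, 2))) := by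
        show g2 * blockT π e j.succ * g2⁻¹ = _
        rw [blockT, hs.conj_T (hD j), hpt, hpt, hpt]
      rw [hc]
      fin_cases j
      · have a0 : S2 (e (1, 0)) = e (1, 0) := by simp [hS2, hsw]
        have a1 : S2 (e (1, 1)) = e (1, 2) := by simp [hS2]
        have a2 : S2 (e (1, 2)) = e (1, 1) := by simp [hS2]
        show T π (S2 (e (1, 0))) (S2 (e (1, 1))) (S2 (e (1, 2))) ^ (2 : ZMod 3).val = _
        rw [a0, a1, a2, hs.T_swap23 (block_D3 he 1), ← pow_mul,
          pow_eq_pow_mod _ (hs.T_pow_three (block_D3 he 1))]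
        exact pow_one _
      · have a0 : ∀ t, S2 (e (2, t)) = e (2, t) := fun t => by simp [hS2, hsw]
        show T π (S2 (e (2, 0))) (S2 (e (2, 1))) (S2 (e (2, 2))) ^ (1 : ZMod 3).val = _
        rw [a0, a0, a0, ZMod.val_one, pow_one]
        rfl
    conv_lhs => rw [← key]
    group
  have hm1 := hmap g1 (fun j => 1 - j) (fun _ => 1) hconj1 hy1
  have hm2 := hmap g2 id ![2, 1] hconj2 hy2
  -- the five-cycle is trivial on equal planes
  have hW1 : ∀ c : ZMod 3, c ≠ 0 → ∀ a : ZMod 5, a ≠ 0 → W (fun _ => c) a = 0 := by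
    intro c hc a ha
    have hstep : ∀ b, W (fun _ => c) b ≤ W (fun _ => c) (3 * b) := fun b => by
      have h1 := hm1 (fun _ => c) b
      simp only [one_mul] at h1
      exact h1
    have hp := hsum (fun _ => c)
    rw [hplane _ (fun _ => hc)] at hp
    have h4 : ∀ a : ZMod 5, a ≠ 0 → ({a, 3 * a, 3 * (3 * a), 3 * (3 * (3 * a))} :
        Finset (ZMod 5)).card = 4 := five_orbit
    have hle : ∑ b ∈ ({a, 3 * a, 3 * (3 * a), 3 * (3 * (3 * a))} : Finset (ZMod 5)),
        W (fun _ => c) a ≤ 2 := by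
      refine le_of_le_of_eq ?_ hp.symm
      refine le_trans (Finset.sum_le_sum fun b hb => ?_)
        (Finset.sum_le_sum_of_subset (Finset.subset_univ _))
      simp only [Finset.mem_insert, Finset.mem_singleton] at hb
      rcases hb with rfl | rfl | rfl | rfl
      · exact le_rfl
      · exact hstep a
      · exact (hstep a).trans (hstep _)
      · exact ((hstep a).trans (hstep _)).trans (hstep _)
    rw [Finset.sum_const, h4 a ha, smul_eq_mul] at hle
    omega
  have hWall : ∀ χ : Fin 2 → ZMod 3, ∀ a : ZMod 5, a ≠ 0 → W χ a = 0 := by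
    intro χ a ha
    by_cases hχ : ∃ i, χ i = 0
    · have h1 : wt ρ T2 ω χ = ⊥ := hbot χ hχ
      show finrank k (wt ρ T2 ω χ ⊓ wt ρ Y ζ (fun _ => a) : Submodule k V) = 0
      rw [h1, bot_inf_eq, finrank_bot]
    push Not at hχ
    by_cases heq : χ 0 = χ 1
    · have h1 : χ = fun _ => χ 0 := funext fun i => by fin_cases i <;> [rfl; exact heq.symm]
      rw [h1]
      exact hW1 _ (hχ 0) a ha
    · have h1 := hm2 χ a
      have h2 : (fun j => (![2, 1] : Fin 2 → ZMod 3) j * χ (id j)) = fun _ => χ 1 := by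
        funext j
        fin_cases j
        · exact three_other _ _ (hχ 0) (hχ 1) heq
        · exact one_mul _
      rw [h2, hW1 _ (hχ 1) _ (mul_ne_zero five_three_ne ha)] at h1
      omega
  have hy1' : y = 1 := by
    refine hs.inj ?_
    rw [map_one, ← sub_eq_zero]
    have hT2' : Tor ρ 3 T2 ω :=
      ⟨fun i j => (hs.blockT_tor hω h3 he).comm i.succ j.succ,
        fun i => (hs.blockT_tor hω h3 he).pow i.succ, by exact_mod_cast h3, hω⟩
    refine hT2'.eq_zero_of_wt _ fun χ v hv => ?_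
    have hU : wt ρ T2 ω χ ⊓ wt ρ Y ζ (fun _ => (0 : ZMod 5)) = wt ρ T2 ω χ := by
      refine Submodule.eq_of_le_of_finrank_le inf_le_left (le_of_eq ?_)
      rw [hsum χ, Finset.sum_eq_single (0 : ZMod 5)]
      · intro b _ hb; exact hWall χ b hb
      · intro h; simp at h
    have h1 := mem_wt.1 (hU.ge hv).2 0
    rw [ZMod.val_zero, pow_zero, one_smul] at h1
    rw [LinearMap.sub_apply, Module.End.one_apply, h1, sub_self]
  rw [hy1', map_one] at hπy'
  have h6 := DFunLike.congr_fun hπy' (f 0)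
  rw [onBlock_apply, Perm.one_apply] at h6
  exact absurd (f.injective h6) (by decide +revert)

/-- Eight dimensions occur only on ten points in characteristics two and five. -/
theorem eight_bound (p : ℕ) [Fact p.Prime] [CharP k p] (h3 : (3 : k) ≠ 0)
    (hall : ∀ a b c, D3 a b c → finrank k (moved ρ (T π a b c)) = 8)
    (hdis : ∀ a b c d e f, Function.Injective ![a, b, c, d, e, f] →
      fixedSp ρ (T π a b c) = fixedSp ρ (T π d e f))
    (hcard : Fintype.card α ≤ 11)
    (hsmall : finrank k V + 2 + (if p ∣ Fintype.card α then 1 else 0) ≤ Fintype.card α) :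
    False := by
  classical
  have hstep : ∀ a b c d, D4 a b c d → fixedSp ρ (T π a b c) = fixedSp ρ (T π a b d) := by
    intro a b c d h
    obtain ⟨x, y, z, hxyz, hx, hy, hz⟩ := hs.exists_three_outside ({a, b, c, d} : Finset α)
      (Finset.card_le_four.trans (by norm_num))
    simp only [Finset.mem_insert, Finset.mem_singleton, not_or] at hx hy hz
    obtain ⟨hab, hac, had, hbc, hbd, hcd⟩ := h
    obtain ⟨hxy, hxz, hyz⟩ := hxyz
    obtain ⟨xa, xb, xc, xd⟩ := hx
    obtain ⟨ya, yb, yc, yd⟩ := hy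
    obtain ⟨za, zb, zc, zd⟩ := hz
    have h1 : Function.Injective ![a, b, c, x, y, z] := by
      intro i j hij
      fin_cases i <;> fin_cases j <;> simp_all
    have h2 : Function.Injective ![a, b, d, x, y, z] := by
      intro i j hij
      fin_cases i <;> fin_cases j <;> simp_all
    exact (hdis _ _ _ _ _ _ h1).trans (hdis _ _ _ _ _ _ h2).symm
  have hconst := hs.const_of_step (fun a b c => fixedSp ρ (T π a b c))
    (fun a b c h => by simp only [hs.T_rot h]) hstep
  have hfix : ∀ a b c, D3 a b c → fixedSp ρ (T π a b c) = ⊥ := by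
    intro a b c h
    refine (hs.no_const (fun a b c => fixedSp ρ (T π a b c))
      (fun _ _ _ h g => hs.map_fixed_T h g) hconst h).resolve_right fun h1 => ?_
    have h2 := finrank_moved_add (ρ := ρ) (T π a b c)
    rw [hall a b c h, h1, finrank_top] at h2
    omega
  obtain ⟨a, b, c, h, -⟩ := hs.exists_three_outside (∅ : Finset α) (by simp)
  have hn : finrank k V = 8 := by
    have h2 := finrank_moved_add (ρ := ρ) (T π a b c)
    rw [hall a b c h, hfix a b c h, finrank_bot] at h2
    omega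
  haveI : Nontrivial V := Module.nontrivial_of_finrank_pos (R := k) (by omega)
  have hprime : ∀ q : ℕ, q.Prime → (q : k) = 0 → p = q := fun q hq h0 =>
    (Nat.prime_dvd_prime_iff_eq Fact.out hq).1 ((CharP.cast_eq_zero_iff k p q).1 h0)
  by_cases h11 : Fintype.card α = 11
  · by_cases h5 : (5 : k) = 0
    · have hp5 : p = 5 := hprime 5 (by norm_num) (by exact_mod_cast h5)
      have hne : ∀ q : ℕ, q.Prime → q ≠ 5 → (q : k) ≠ 0 := fun q hq hq5 h0 =>
        hq5 ((hprime q hq h0).symm.trans hp5)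
      have h7 : (7 : k) ≠ 0 := by exact_mod_cast hne 7 (by norm_num) (by norm_num)
      have h2 : (2 : k) ≠ 0 := by exact_mod_cast hne 2 Nat.prime_two (by norm_num)
      by_cases hl : Linear π
      · exact hs.eight_linear hl h2 h3 hn hfix (by omega)
      · have := hs.spin_seven hl h7 (by omega)
        omega
    · exact hs.eight_five h3 h5 hn hfix (by omega)
  · have h10 : Fintype.card α = 10 := by omega
    have hp10 : ¬ p ∣ 10 := fun hd => by
      rw [h10, if_pos hd] at hsmall
      omega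
    have hne : ∀ q : ℕ, q.Prime → q ∣ 10 → (q : k) ≠ 0 := fun q hq hd h0 => by
      rw [hprime q hq h0] at hp10
      exact hp10 hd
    have h2 : (2 : k) ≠ 0 := by exact_mod_cast hne 2 Nat.prime_two (by norm_num)
    have h5 : (5 : k) ≠ 0 := by exact_mod_cast hne 5 (by norm_num) (by norm_num)
    by_cases hl : Linear π
    · exact hs.eight_linear hl h2 h3 hn hfix (by omega)
    · have := hs.spin_ten hl h5 (by omega)
      omega

end Setup

end CfsgLib.AltSection
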