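import Cfsg.Agent.Lib.AltSection.Setup

/-!
Moving tuples of points by even permutations, and moved spaces.
-/

set_option autoImplicit false

namespace CfsgLib.AltSection

open Equiv Module
open scoped commutatorElement

variable {α : Type*} [Fintype α] [DecidableEq α]

/-- Tuples leaving two points free can be mapped onto each other by even permutations. -/
theorem exists_even_map {β : Type*} [Fintype β] (e e' : β → α) (he : Function.Injective e)
    (he' : Function.Injective e') (h : Fintype.card β + 2 ≤ Fintype.card α) :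
    ∃ σ ∈ alternatingGroup α, ∀ x, σ (e x) = e' x := by
  classical
  let φ : {x // x ∈ Set.range e} ≃ {x // x ∈ Set.range e'} :=
    (Equiv.ofInjective e he).symm.trans (Equiv.ofInjective e' he')
  let σ : Perm α := φ.extendSubtype
  have hσ : ∀ x, σ (e x) = e' x := fun x => by
    rw [show σ (e x) = φ.extendSubtype (e x) from rfl,
      Equiv.extendSubtype_apply_of_mem φ (e x) ⟨x, rfl⟩]
    have h1 : (Equiv.ofInjective e he).symm ⟨e x, ⟨x, rfl⟩⟩ = x :=
      Equiv.ofInjective_symm_apply he x
    show ((Equiv.ofInjective e' he') ((Equiv.ofInjective e he).symm ⟨e x, _⟩) : α) = e' x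
    rw [h1]; rfl
  rcases Int.units_eq_one_or (Perm.sign σ) with hs | hs
  · exact ⟨σ, Perm.mem_alternatingGroup.2 hs, hσ⟩
  · obtain ⟨d, d', hdd, hd, hd'⟩ := exists_two_outside (S := Finset.univ.image e') (by
      rw [Finset.card_image_of_injective _ he', Finset.card_univ]; exact h)
    refine ⟨swap d d' * σ, Perm.mem_alternatingGroup.2 ?_, fun x => ?_⟩
    · rw [map_mul, Perm.sign_swap hdd, hs]; rfl
    · rw [Perm.mul_apply, hσ]
      exact swap_apply_of_ne_of_ne (fun h1 => hd (by simp [← h1]))
        fun h1 => hd' (by simp [← h1])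

theorem injective_three {a b c : α} (h : D3 a b c) : Function.Injective ![a, b, c] := by
  obtain ⟨hab, hac, hbc⟩ := h
  intro i j hij
  fin_cases i <;> fin_cases j <;> simp_all

theorem injective_four {a b c d : α} (h : D4 a b c d) : Function.Injective ![a, b, c, d] := by
  obtain ⟨hab, hac, had, hbc, hbd, hcd⟩ := h
  intro i j hij
  fin_cases i <;> fin_cases j <;> simp_all

namespace Cov

variable {G : Type*} [Group G] {π : G →* Perm α} (hπ : Cov π)
include hπ

theorem exists_map_three {a b c a' b' c' : α} (h : D3 a b c) (h' : D3 a' b' c') :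
    ∃ g : G, π g a = a' ∧ π g b = b' ∧ π g c = c' := by
  obtain ⟨σ, hσ, hmap⟩ := exists_even_map _ _ (injective_three h) (injective_three h')
    (by rw [Fintype.card_fin]; have := hπ.nine; omega)
  refine ⟨lft π σ, ?_⟩
  rw [hπ.map_lft hσ]
  exact ⟨by simpa using hmap 0, by simpa using hmap 1, by simpa using hmap 2⟩

theorem exists_map_four {a b c d a' b' c' d' : α} (h : D4 a b c d) (h' : D4 a' b' c' d') :
    ∃ g : G, π g a = a' ∧ π g b = b' ∧ π g c = c' ∧ π g d = d' := by
  obtain ⟨σ, hσ, hmap⟩ := exists_even_map _ _ (injective_four h) (injective_four h')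
    (by rw [Fintype.card_fin]; have := hπ.nine; omega)
  refine ⟨lft π σ, ?_⟩
  rw [hπ.map_lft hσ]
  exact ⟨by simpa using hmap 0, by simpa using hmap 1, by simpa using hmap 2,
    by simpa using hmap 3⟩

end Cov

section spaces

variable {k : Type*} [Field k] {V : Type*} [AddCommGroup V] [Module k V] {G : Type*} [Group G]
  (ρ : Representation k G V)

/-- The subspace moved by an element. -/
def moved (g : G) : Submodule k V := LinearMap.range (ρ g - 1)

/-- The subspace fixed by an element. -/
def fixedSp (g : G) : Submodule k V := LinearMap.ker (ρ g - 1)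

variable {ρ}

theorem mem_fixedSp {g : G} {v : V} : v ∈ fixedSp ρ g ↔ ρ g v = v := by
  simp [fixedSp, sub_eq_zero]

theorem finrank_moved_add [FiniteDimensional k V] (g : G) :
    finrank k (moved ρ g) + finrank k (fixedSp ρ g) = finrank k V :=
  LinearMap.finrank_range_add_finrank_ker _

theorem map_moved (g h : G) : (moved ρ g).map (ρ h) = moved ρ (h * g * h⁻¹) := by
  ext v
  constructor
  · rintro ⟨_, ⟨w, rfl⟩, rfl⟩
    refine ⟨ρ h w, ?_⟩
    rw [LinearMap.sub_apply, LinearMap.sub_apply, Module.End.one_apply, Module.End.one_apply,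
      map_sub, rho_mul, rho_mul, rho_inv_apply']
  · rintro ⟨w, rfl⟩
    refine ⟨ρ g (ρ h⁻¹ w) - ρ h⁻¹ w, ⟨ρ h⁻¹ w, by simp⟩, ?_⟩
    rw [map_sub, rho_inv_apply, LinearMap.sub_apply, Module.End.one_apply, ← rho_mul, ← rho_mul]

theorem map_fixedSp (g h : G) : (fixedSp ρ g).map (ρ h) = fixedSp ρ (h * g * h⁻¹) := by
  ext v
  constructor
  · rintro ⟨w, hw, rfl⟩
    rw [mem_fixedSp, ← rho_mul, inv_mul_cancel_right, rho_mul, mem_fixedSp.1 hw]
  · intro hv
    rw [mem_fixedSp] at hv
    refine ⟨ρ h⁻¹ v, mem_fixedSp.2 ?_, rho_inv_apply ρ h v⟩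
    apply rho_injective ρ h
    rw [rho_inv_apply, ← rho_mul, ← rho_mul, hv]

theorem moved_inv (g : G) : moved ρ g⁻¹ = moved ρ g := by
  ext v
  constructor
  · rintro ⟨w, rfl⟩
    exact ⟨-(ρ g⁻¹ w), by simp [rho_inv_apply]; abel⟩
  · rintro ⟨w, rfl⟩
    exact ⟨-(ρ g w), by simp [rho_inv_apply']; abel⟩

theorem fixedSp_inv (g : G) : fixedSp ρ g⁻¹ = fixedSp ρ g := by
  ext v
  rw [mem_fixedSp, mem_fixedSp]
  constructor
  · intro h; conv_lhs => rw [← h, rho_inv_apply]
  · intro h; conv_lhs => rw [← h, rho_inv_apply']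

end spaces

end CfsgLib.AltSection
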