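import Cfsg.Agent.Lib.AltSection.Setup
import Cfsg.Agent.S0714

/-!
A system of lines indexed by pairs of points gives the deleted permutation module.
-/

set_option autoImplicit false

namespace CfsgLib.AltSection

open Equiv Module
open scoped commutatorElement

variable {k : Type*} [Field k] {V : Type*} [AddCommGroup V] [Module k V] {G : Type*} [Group G]
  {α : Type*} [Fintype α] [DecidableEq α]

/-- Lines attached to pairs of points, behaving as in the deleted permutation module. -/
structure LineData (ρ : Representation k G V) (π : G →* Equiv.Perm α)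
    (L : α → α → Submodule k V) : Prop where
  line : ∀ a b, a ≠ b → finrank k (L a b) = 1
  symm : ∀ a b, a ≠ b → L a b = L b a
  equiv : ∀ g a b, a ≠ b → (L a b).map (ρ g) = L (π g a) (π g b)
  tri : ∀ a b c, D3 a b c → L a c ≤ L a b ⊔ L b c
  ne : ∀ a b c, D3 a b c → L a b ≠ L a c

variable {ρ : Representation k G V} {π : G →* Equiv.Perm α} {L : α → α → Submodule k V}

namespace LineData

variable (hL : LineData ρ π L)
include hL

theorem inf_eq_bot [FiniteDimensional k V] {a b c : α} (h : D3 a b c) : L a b ⊓ L a c = ⊥ := by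
  by_contra hne
  have h1 : 0 < finrank k (L a b ⊓ L a c : Submodule k V) := by
    haveI := Submodule.nontrivial_iff_ne_bot.2 hne
    exact Module.finrank_pos
  have e1 := Submodule.eq_of_le_of_finrank_le (inf_le_left : L a b ⊓ L a c ≤ L a b)
    (by rw [hL.line a b h.1]; exact h1)
  have e2 := Submodule.eq_of_le_of_finrank_le (inf_le_right : L a b ⊓ L a c ≤ L a c)
    (by rw [hL.line a c h.2.1]; exact h1)
  exact hL.ne a b c h (e1.symm.trans e2)

theorem finrank_sup [FiniteDimensional k V] {a b c : α} (h : D3 a b c) :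
    finrank k (L a b ⊔ L a c : Submodule k V) = 2 := by
  have := Submodule.finrank_sup_add_finrank_inf_eq (L a b) (L a c)
  rw [hL.inf_eq_bot h, finrank_bot, hL.line a b h.1, hL.line a c h.2.1] at this
  omega

theorem tri' {o i j : α} (h : D3 o i j) : L i j ≤ L o i ⊔ L o j := by
  have := hL.tri i o j h.swap12
  rwa [hL.symm i o h.1.symm] at this

/-- Three lines through a point are independent. -/
theorem not_le_sup [FiniteDimensional k V] [IsAlgClosed k] (hs : Setup ρ π) {o b c d : α}
    (hobc : D3 o b c) (hd : d ≠ o ∧ d ≠ b ∧ d ≠ c) : ¬ L o d ≤ L o b ⊔ L o c := by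
  intro hle
  set P := L o b ⊔ L o c with hP
  obtain ⟨hob, hoc, hbc⟩ := hobc
  have hstab : ∀ g, π g o = o → π g b = b → π g c = c → P.map (ρ g) = P := fun g h1 h2 h3 => by
    rw [hP, Submodule.map_sup, hL.equiv g o b hob, hL.equiv g o c hoc, h1, h2, h3]
  have hall : ∀ e, e ≠ o → L o e ≤ P := by
    intro e heo
    by_cases heb : e = b
    · subst heb; exact le_sup_left
    by_cases hec : e = c
    · subst hec; exact le_sup_right
    by_cases hed : e = d
    · subst hed; exact hle
    obtain ⟨f, hf⟩ := exists_one_outside (S := ({o, b, c, d, e} : Finset α)) (by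
      have := hs.nine
      have := (Finset.card_le_five (a := o) (b := b) (c := c) (d := d) (e := e))
      omega)
    simp only [Finset.mem_insert, Finset.mem_singleton, not_or] at hf
    obtain ⟨hfo, hfb, hfc, hfd, hfe⟩ := hf
    obtain ⟨hdo, hdb, hdc⟩ := hd
    set g := lft π (cyc d e f) with hg
    have hgv : π g = cyc d e f := hs.map_lft_cyc d e f
    have h1 := hstab g (by rw [hgv, cyc_apply_other hdo.symm (Ne.symm heo) (Ne.symm hfo)])
      (by rw [hgv, cyc_apply_other hdb.symm (Ne.symm heb) (Ne.symm hfb)])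
      (by rw [hgv, cyc_apply_other hdc.symm (Ne.symm hec) (Ne.symm hfc)])
    have h2 : (L o d).map (ρ g) ≤ P.map (ρ g) := Submodule.map_mono hle
    rw [h1, hL.equiv g o d hdo.symm, hgv, cyc_apply_other hdo.symm (Ne.symm heo) (Ne.symm hfo),
      cyc_apply_fst (Ne.symm hfd) (Ne.symm hfe)] at h2
    exact h2
  have hall2 : ∀ e f, e ≠ f → L e f ≤ P := by
    intro e f hef
    by_cases he : e = o
    · subst he; exact hall f (Ne.symm hef)
    by_cases hf : f = o
    · subst hf; rw [hL.symm e f hef]; exact hall e he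
    exact (hL.tri' ⟨Ne.symm he, Ne.symm hf, hef⟩).trans (sup_le (hall e he) (hall f hf))
  -- the sum of all lines is everything
  set S : Submodule k V := ⨆ p : {p : α × α // p.1 ≠ p.2}, L p.1.1 p.1.2 with hS
  have hSinv : ∀ g, ∀ v ∈ S, ρ g v ∈ S := by
    intro g v hv
    have h1 : ρ g v ∈ S.map (ρ g) := Submodule.mem_map_of_mem hv
    rw [hS, Submodule.map_iSup] at h1
    refine (iSup_le fun p => ?_ : (⨆ p : {p : α × α // p.1 ≠ p.2},
      (L p.1.1 p.1.2).map (ρ g)) ≤ S) h1
    rw [hL.equiv g _ _ p.2]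
    exact le_iSup (fun p : {p : α × α // p.1 ≠ p.2} => L p.1.1 p.1.2)
      ⟨(π g p.1.1, π g p.1.2), (π g).injective.ne p.2⟩
  have hStop : S = ⊤ := by
    refine (hs.irred S hSinv).resolve_left fun h => ?_
    have h1 : L o b ≤ ⊥ :=
      h ▸ le_iSup (fun p : {p : α × α // p.1 ≠ p.2} => L p.1.1 p.1.2) ⟨(o, b), hob⟩
    have := hL.line o b hob
    rw [le_bot_iff.1 h1, finrank_bot] at this
    omega
  have hPtop : P = ⊤ := top_unique (hStop ▸ iSup_le fun p => hall2 _ _ p.2)
  -- elements fixing both lines commute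
  obtain ⟨T, hT, hTd⟩ := exists_outside (S := ({o, b, c} : Finset α)) (m := 4) (by
    have := hs.nine
    have := (Finset.card_le_three (a := o) (b := b) (c := c))
    omega)
  obtain ⟨x, y, z, w, hxy, hxz, hxw, hyz, hyw, hzw, rfl⟩ := Finset.card_eq_four.1 hT
  simp only [Finset.disjoint_insert_left, Finset.disjoint_singleton_left, Finset.mem_insert,
    Finset.mem_singleton, not_or] at hTd
  obtain ⟨⟨hxo, hxb, hxc⟩, ⟨hyo, hyb, hyc⟩, ⟨hzo, hzb, hzc⟩, ⟨hwo, hwb, hwc⟩⟩ := hTd
  have hscalar : ∀ g, π g o = o → π g b = b → ∀ v ∈ L o b, ∃ μ : k, ρ g v = μ • v := by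
    intro g h1 h2 v hv
    rcases eq_or_ne v 0 with rfl | hv0
    · exact ⟨0, by simp⟩
    have h3 : ρ g v ∈ L o b := by
      have := Submodule.mem_map_of_mem (f := ρ g) hv
      rwa [hL.equiv g o b hob, h1, h2] at this
    obtain ⟨μ, hμ⟩ := exists_smul_eq_of_finrank_eq_one (hL.line o b hob)
      (x := (⟨v, hv⟩ : L o b)) (fun h => hv0 (congrArg Subtype.val h)) ⟨_, h3⟩
    exact ⟨μ, (congrArg Subtype.val hμ).symm⟩
  have hscalar' : ∀ g, π g o = o → π g c = c → ∀ v ∈ L o c, ∃ μ : k, ρ g v = μ • v := by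
    intro g h1 h2 v hv
    rcases eq_or_ne v 0 with rfl | hv0
    · exact ⟨0, by simp⟩
    have h3 : ρ g v ∈ L o c := by
      have := Submodule.mem_map_of_mem (f := ρ g) hv
      rwa [hL.equiv g o c hoc, h1, h2] at this
    obtain ⟨μ, hμ⟩ := exists_smul_eq_of_finrank_eq_one (hL.line o c hoc)
      (x := (⟨v, hv⟩ : L o c)) (fun h => hv0 (congrArg Subtype.val h)) ⟨_, h3⟩
    exact ⟨μ, (congrArg Subtype.val hμ).symm⟩
  set g := lft π (cyc x y z) with hg
  set g' := lft π (cyc x y w) with hg'
  have hgv : π g = cyc x y z := hs.map_lft_cyc x y z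
  have hgv' : π g' = cyc x y w := hs.map_lft_cyc x y w
  have hfix : ∀ t, t = o ∨ t = b ∨ t = c → π g t = t ∧ π g' t = t := by
    rintro t (rfl | rfl | rfl)
    · exact ⟨by rw [hgv, cyc_apply_other (Ne.symm hxo) (Ne.symm hyo) (Ne.symm hzo)],
        by rw [hgv', cyc_apply_other (Ne.symm hxo) (Ne.symm hyo) (Ne.symm hwo)]⟩
    · exact ⟨by rw [hgv, cyc_apply_other (Ne.symm hxb) (Ne.symm hyb) (Ne.symm hzb)],
        by rw [hgv', cyc_apply_other (Ne.symm hxb) (Ne.symm hyb) (Ne.symm hwb)]⟩
    · exact ⟨by rw [hgv, cyc_apply_other (Ne.symm hxc) (Ne.symm hyc) (Ne.symm hzc)],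
        by rw [hgv', cyc_apply_other (Ne.symm hxc) (Ne.symm hyc) (Ne.symm hwc)]⟩
  have ho := hfix o (Or.inl rfl)
  have hb := hfix b (Or.inr (Or.inl rfl))
  have hc := hfix c (Or.inr (Or.inr rfl))
  have hcomm : Commute g g' := by
    refine hs.inj (LinearMap.ext fun v => ?_)
    rw [rho_mul, rho_mul]
    obtain ⟨v1, hv1, v2, hv2, rfl⟩ := Submodule.mem_sup.1 (hPtop.ge (Submodule.mem_top (x := v)))
    obtain ⟨a1, ha1⟩ := hscalar g ho.1 hb.1 v1 hv1
    obtain ⟨a2, ha2⟩ := hscalar' g ho.1 hc.1 v2 hv2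
    obtain ⟨c1, hc1⟩ := hscalar g' ho.2 hb.2 v1 hv1
    obtain ⟨c2, hc2⟩ := hscalar' g' ho.2 hc.2 v2 hv2
    simp only [map_add, ha1, ha2, hc1, hc2, map_smul, smul_smul, mul_comm]
  have h1 := DFunLike.congr_fun (hcomm.map π).eq x
  rw [hgv, hgv', Perm.mul_apply, Perm.mul_apply, cyc_apply_fst hxw hyw, cyc_apply_fst hxz hyz,
    cyc_apply_snd hxy hxz, cyc_apply_snd hxy hxw] at h1
  exact hzw h1

/-- The degree bound from a system of lines. -/
theorem bound [FiniteDimensional k V] [IsAlgClosed k] (p : ℕ) [CharP k p] (hs : Setup ρ π) :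
    Fintype.card α - 1 - (if p ∣ Fintype.card α then 1 else 0) ≤ finrank k V := by
  classical
  obtain ⟨o, b, c, hob, hoc, hbc⟩ :=
    Fintype.two_lt_card_iff.1 (show 2 < Fintype.card α by have := hs.nine; omega)
  obtain ⟨⟨u2, hu2⟩, hu20, -⟩ := finrank_eq_one_iff'.1 (hL.line o b hob)
  have hu20' : u2 ≠ 0 := fun h => hu20 (Subtype.ext h)
  have hex : ∀ j, j ≠ o → j ≠ b → ∃ u ∈ L o j, u - u2 ∈ L b j ∧ u ≠ 0 := by
    intro j hjo hjb
    have h : D3 o b j := ⟨hob, Ne.symm hjo, Ne.symm hjb⟩
    obtain ⟨⟨v, hv⟩, hv0, -⟩ := finrank_eq_one_iff'.1 (hL.line b j (Ne.symm hjb))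
    obtain ⟨v1, hv1, v2, hv2, hvv⟩ := Submodule.mem_sup.1 (hL.tri' h hv)
    obtain ⟨a, ha⟩ := exists_smul_eq_of_finrank_eq_one (hL.line o b hob)
      (x := (⟨u2, hu2⟩ : L o b)) hu20 ⟨v1, hv1⟩
    have ha' : a • u2 = v1 := congrArg Subtype.val ha
    have hne : a ≠ 0 := by
      rintro rfl
      rw [zero_smul] at ha'
      rw [← ha', zero_add] at hvv
      subst hvv
      have h1 : v2 ∈ L j b ⊓ L j o := ⟨hL.symm b j (Ne.symm hjb) ▸ hv,
        hL.symm o j (Ne.symm hjo) ▸ hv2⟩
      rw [hL.inf_eq_bot (a := j) ⟨hjb, hjo, hob.symm⟩] at h1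
      exact hv0 (Subtype.ext h1)
    refine ⟨-(a⁻¹ • v2), neg_mem (Submodule.smul_mem _ _ hv2), ?_, ?_⟩
    · have : -(a⁻¹ • v2) - u2 = -(a⁻¹ • v) := by
        rw [← hvv, ← ha', smul_add, smul_smul, inv_mul_cancel₀ hne, one_smul]; abel
      rw [this]
      exact neg_mem (Submodule.smul_mem _ _ hv)
    · intro h0
      rw [neg_eq_zero, smul_eq_zero, inv_eq_zero] at h0
      have hv20 := h0.resolve_left hne
      rw [hv20, add_zero] at hvv
      subst hvv
      have h1 : v1 ∈ L b o ⊓ L b j := ⟨hL.symm o b hob ▸ hv1, hv⟩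
      rw [hL.inf_eq_bot (a := b) ⟨hob.symm, Ne.symm hjb, Ne.symm hjo⟩] at h1
      exact hv0 (Subtype.ext h1)
  choose w hw1 hw2 hw3 using hex
  let u : α → V := fun j => if h1 : j = o then 0 else if h2 : j = b then u2 else w j h1 h2
  have huo : u o = 0 := dif_pos rfl
  have hub : u b = u2 := by simp [u, Ne.symm hob]
  have huoj : ∀ j, j ≠ o → u j ∈ L o j ∧ u j ≠ 0 := by
    intro j hj
    by_cases hjb : j = b
    · subst hjb; rw [hub]; exact ⟨hu2, hu20'⟩
    · simp only [u, dif_neg hj, dif_neg hjb]; exact ⟨hw1 j hj hjb, hw3 j hj hjb⟩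
  have hubj : ∀ j, j ≠ o → j ≠ b → u j - u b ∈ L b j := by
    intro j hj hjb
    rw [hub]
    simp only [u, dif_neg hj, dif_neg hjb]
    exact hw2 j hj hjb
  have huij : ∀ i j, i ≠ j → u i - u j ∈ L i j ∧ u i - u j ≠ 0 := by
    intro i j hij
    by_cases hio : i = o
    · subst hio
      rw [huo, zero_sub]
      exact ⟨neg_mem (huoj j (Ne.symm hij)).1, neg_ne_zero.2 (huoj j (Ne.symm hij)).2⟩
    by_cases hjo : j = o
    · subst hjo
      rw [huo, sub_zero, hL.symm i j hij]
      exact huoj i hio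
    have hne : u i - u j ≠ 0 := by
      intro h0
      have h1 : u i ∈ L o i ⊓ L o j := ⟨(huoj i hio).1, sub_eq_zero.1 h0 ▸ (huoj j hjo).1⟩
      rw [hL.inf_eq_bot (a := o) ⟨Ne.symm hio, Ne.symm hjo, hij⟩] at h1
      exact (huoj i hio).2 h1
    refine ⟨?_, hne⟩
    by_cases hib : i = b
    · subst hib
      have h1 := neg_mem (hubj j hjo (Ne.symm hij))
      rwa [neg_sub] at h1
    by_cases hjb : j = b
    · subst hjb
      rw [hL.symm i j hij]
      exact hubj i hio hib
    set P1 := L o i ⊔ L o j with hP1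
    set P2 := L b i ⊔ L b j with hP2
    have hD : D3 o i j := ⟨Ne.symm hio, Ne.symm hjo, hij⟩
    have hD' : D3 b i j := ⟨Ne.symm hib, Ne.symm hjb, hij⟩
    have hmem : u i - u j ∈ P1 ⊓ P2 := by
      refine ⟨sub_mem (Submodule.mem_sup_left (huoj i hio).1)
        (Submodule.mem_sup_right (huoj j hjo).1), ?_⟩
      rw [show u i - u j = (u i - u b) - (u j - u b) by abel]
      exact sub_mem (Submodule.mem_sup_left (hubj i hio hib))
        (Submodule.mem_sup_right (hubj j hjo hjb))
    have hlt : finrank k (P1 ⊓ P2 : Submodule k V) < 2 := by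
      by_contra hge
      have e1 := Submodule.eq_of_le_of_finrank_le (inf_le_left : P1 ⊓ P2 ≤ P1)
        (by rw [hL.finrank_sup hD]; omega)
      have h1 : P1 ≤ P2 := e1.ge.trans inf_le_right
      have e2 : P1 = P2 := Submodule.eq_of_le_of_finrank_le h1
        (by rw [hL.finrank_sup hD, hL.finrank_sup hD'])
      refine hL.not_le_sup hs hD ⟨Ne.symm hob, Ne.symm hib, Ne.symm hjb⟩ ?_
      refine ((hL.tri o i b ⟨Ne.symm hio, hob, hib⟩).trans (sup_le le_sup_left ?_))
      rw [hL.symm i b hib]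
      exact le_sup_left.trans e2.ge
    have hle : L i j ≤ P1 ⊓ P2 := le_inf (hL.tri' hD) (hL.tri' hD')
    have heq : L i j = P1 ⊓ P2 := Submodule.eq_of_le_of_finrank_le hle
      (by rw [hL.line i j hij]; omega)
    rw [heq]; exact hmem
  have hlam : ∀ g i j, ∃ μ : k,
      i ≠ j → ρ g (u i - u j) = μ • (u (π g i) - u (π g j)) := by
    intro g i j
    by_cases hij : i = j
    · exact ⟨0, fun h => absurd hij h⟩
    have h1 : ρ g (u i - u j) ∈ L (π g i) (π g j) := by
      rw [← hL.equiv g i j hij]; exact Submodule.mem_map_of_mem (huij i j hij).1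
    have hne' := (π g).injective.ne hij
    obtain ⟨μ, hμ⟩ := exists_smul_eq_of_finrank_eq_one (hL.line _ _ hne')
      (x := ⟨_, (huij _ _ hne').1⟩) (fun h => (huij _ _ hne').2 (congrArg Subtype.val h)) ⟨_, h1⟩
    exact ⟨μ, fun _ => (congrArg Subtype.val hμ).symm⟩
  choose μ hμ using hlam
  have hstep : ∀ g i j l, D3 i j l → μ g i j = μ g i l ∧ μ g j l = μ g i l := by
    intro g i j l h
    obtain ⟨hij, hil, hjl⟩ := h
    have hsum : ρ g (u i - u j) + ρ g (u j - u l) = ρ g (u i - u l) := by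
      rw [← map_add]; congr 1; abel
    rw [hμ g i j hij, hμ g j l hjl, hμ g i l hil] at hsum
    set a := π g i with ha
    set a' := π g j with ha'
    set a'' := π g l with ha''
    have hD : D3 a' a a'' := (D3.swap12 ⟨hij, hil, hjl⟩).map (π g).injective
    have hz : (μ g i j - μ g i l) • (u a - u a') = (μ g i l - μ g j l) • (u a' - u a'') := by
      rw [sub_smul, sub_smul, sub_eq_sub_iff_add_eq_add, hsum, ← smul_add]
      congr 1; abel
    have h1 : (μ g i j - μ g i l) • (u a - u a') ∈ L a' a ⊓ L a' a'' := by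
      refine ⟨Submodule.smul_mem _ _ ?_, ?_⟩
      · rw [hL.symm a' a hD.1]; exact (huij a a' hD.1.symm).1
      · rw [hz]; exact Submodule.smul_mem _ _ (huij a' a'' hD.2.1).1
    rw [hL.inf_eq_bot hD, Submodule.mem_bot] at h1
    have h2 := h1
    rw [hz] at h2
    exact ⟨sub_eq_zero.1 ((smul_eq_zero.1 h1).resolve_right (huij a a' hD.1.symm).2),
      (sub_eq_zero.1 ((smul_eq_zero.1 h2).resolve_right (huij a' a'' hD.2.1).2)).symm⟩
  let lam : G → k := fun g => μ g o b
  have hmain : ∀ g i j, i ≠ j → ρ g (u i - u j) = lam g • (u (π g i) - u (π g j)) := by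
    intro g
    have hoj : ∀ j, j ≠ o → ρ g (u o - u j) = lam g • (u (π g o) - u (π g j)) := by
      intro j hj
      by_cases hjb : j = b
      · subst hjb; exact hμ g o j hob
      rw [hμ g o j (Ne.symm hj), ← (hstep g o b j ⟨hob, Ne.symm hj, Ne.symm hjb⟩).1]
    intro i j _
    have key : ∀ i, ρ g (u o - u i) = lam g • (u (π g o) - u (π g i)) := fun i => by
      by_cases hi : i = o
      · subst hi; simp
      · exact hoj i hi
    rw [show u i - u j = (u o - u j) - (u o - u i) by abel, map_sub, key, key, ← smul_sub]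
    congr 1; abel
  have hmul : ∀ g h, lam (g * h) = lam g * lam h := by
    intro g h
    have h1 := hmain (g * h) o b hob
    rw [rho_mul, hmain h o b hob, map_smul, hmain g _ _ ((π h).injective.ne hob), smul_smul,
      map_mul π, Perm.mul_apply, Perm.mul_apply] at h1
    have hne : u (π g (π h o)) - u (π g (π h b)) ≠ 0 :=
      (huij _ _ ((π g).injective.ne ((π h).injective.ne hob))).2
    exact (smul_left_injective k hne h1).symm.trans (mul_comm _ _)
  have hlam1 : lam 1 = 1 := by
    have h1 := hmain 1 o b hob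
    rw [map_one, map_one, Perm.one_apply, Perm.one_apply, Module.End.one_apply] at h1
    have h2 : (1 : k) • (u o - u b) = lam 1 • (u o - u b) := by rw [one_smul]; exact h1
    exact (smul_left_injective k (huij o b hob).2 h2).symm
  have hone : ∀ g, lam g = 1 := by
    let χ : G →* k := { toFun := lam, map_one' := hlam1, map_mul' := hmul }
    have hk : χ.toHomUnits.ker = ⊤ := by
      refine top_unique (hs.perfect ▸ ?_)
      exact Abelianization.commutator_subset_ker _
    intro g
    have h1 := congrArg Units.val (MonoidHom.mem_ker.1 (hk.ge (Subgroup.mem_top g)))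
    simpa [χ] using h1
  -- the map from the permutation module
  let φ : (α → k) →ₗ[k] V := Fintype.linearCombination k u
  have hφ : ∀ f, φ f = ∑ x, f x • u x := fun f => Fintype.linearCombination_apply k u f
  set S0 := (Cfsg.permSumZero k (alternatingGroup α) α).toSubmodule with hS0
  have heq : ∀ g, ∀ f ∈ S0, ρ g (φ f) = φ (fun x => f ((π g)⁻¹ x)) := by
    intro g f hf
    have hsum : ∑ x, f x = 0 := CfsgLib.Perm.mem_permSumZero.1 hf
    have h1 : φ f = ∑ x, f x • (u x - u o) := by simp [hφ, huo]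
    rw [h1, map_sum, hφ, ← Equiv.sum_comp (π g) (fun y => f ((π g)⁻¹ y) • u y)]
    have h2 : ∀ x, ρ g (f x • (u x - u o)) = f x • u (π g x) - f x • u (π g o) := by
      intro x
      by_cases hx : x = o
      · subst hx; simp
      · rw [map_smul, hmain g x o hx, hone, one_smul, smul_sub]
    rw [Finset.sum_congr rfl fun x _ => h2 x, Finset.sum_sub_distrib, ← Finset.sum_smul, hsum,
      zero_smul, sub_zero]
    simp
  let W : Subrepresentation (Cfsg.permRep k (alternatingGroup α) α) :=
    { toSubmodule := LinearMap.ker φ ⊓ S0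
      apply_mem_toSubmodule := fun σ f hf => by
        refine ⟨?_, (Cfsg.permSumZero k (alternatingGroup α) α).apply_mem_toSubmodule σ hf.2⟩
        rw [SetLike.mem_coe, LinearMap.mem_ker]
        have h1 := heq (lft π (σ : Perm α)) f hf.2
        rw [hs.map_lft σ.2, LinearMap.mem_ker.1 hf.1, map_zero] at h1
        exact h1.symm }
  have hsingle : Pi.single b (1 : k) - Pi.single o 1 ∈ S0 ∧
      φ (Pi.single b (1 : k) - Pi.single o 1) = u2 := by
    refine ⟨CfsgLib.Perm.mem_permSumZero.2 (by simp), ?_⟩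
    simp [φ, Fintype.linearCombination_apply_single, map_sub, huo, hub]
  have hdimS : Fintype.card α - 1 ≤ finrank k S0 := by
    let sumL : (α → k) →ₗ[k] k := Fintype.linearCombination k (fun _ => (1 : k))
    have hker : LinearMap.ker sumL ≤ S0 := fun f hf => CfsgLib.Perm.mem_permSumZero.2 (by
      simpa [sumL, Fintype.linearCombination_apply] using hf)
    have h1 := LinearMap.finrank_range_add_finrank_ker sumL
    rw [Module.finrank_fintype_fun_eq_card] at h1
    have h2 : finrank k (LinearMap.range sumL) ≤ 1 :=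
      (Submodule.finrank_le _).trans (Module.finrank_self k).le
    have := Submodule.finrank_mono hker
    omega
  have hrn : finrank k S0 ≤ finrank k V + finrank k W.toSubmodule := by
    have h1 := LinearMap.finrank_range_add_finrank_ker (φ.domRestrict S0)
    have h2 : finrank k (LinearMap.ker (φ.domRestrict S0)) = finrank k W.toSubmodule := by
      rw [← Submodule.finrank_map_subtype_eq S0]
      suffices hh : Submodule.map S0.subtype (LinearMap.ker (φ.domRestrict S0)) = W.toSubmodule by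
        rw [hh]
      ext f
      constructor
      · rintro ⟨⟨f', hf'⟩, hk, rfl⟩; exact ⟨hk, hf'⟩
      · rintro ⟨hk, hf'⟩; exact ⟨⟨f, hf'⟩, hk, rfl⟩
    have := Submodule.finrank_le (LinearMap.range (φ.domRestrict S0))
    omega
  rcases Cfsg.Agent.S0714.result (by have := hs.nine; omega) W with h | h | h | h
  · rw [h, finrank_bot] at hrn; omega
  · have h1 : finrank k W.toSubmodule ≤ 1 := by
      rw [h]
      exact (finrank_span_le_card _).trans (by simp)
    have h3 : (fun _ : α => (1 : k)) ∈ S0 := by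
      have h2 := CfsgLib.Perm.one_mem_permConstants (K := k) (G := alternatingGroup α) (Ω := α)
      rw [← h] at h2
      exact h2.2
    have h4 := CfsgLib.Perm.mem_permSumZero.1 h3
    rw [Finset.sum_const, Finset.card_univ, nsmul_eq_mul, mul_one,
      CharP.cast_eq_zero_iff k p] at h4
    rw [if_pos h4]
    omega
  · exfalso
    have h1 : Pi.single b (1 : k) - Pi.single o 1 ∈ W.toSubmodule := h ▸ hsingle.1
    exact hu20' (hsingle.2.symm.trans (LinearMap.mem_ker.1 h1.1))
  · exfalso
    have h1 : Pi.single b (1 : k) - Pi.single o 1 ∈ W.toSubmodule := h ▸ Submodule.mem_top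
    exact hu20' (hsingle.2.symm.trans (LinearMap.mem_ker.1 h1.1))

end LineData

end CfsgLib.AltSection
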