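import Cfsg.Agent.Lib.AltSection.Cycle3
import Cfsg.Agent.Lib.AltSection.PermMod

/-!
Three-cycles moving a plane each give a system of lines.
-/

set_option autoImplicit false

namespace CfsgLib.AltSection

open Equiv Module
open scoped commutatorElement

variable {k : Type*} [Field k] {V : Type*} [AddCommGroup V] [Module k V] {G : Type*} [Group G]
  {α : Type*} [Fintype α] [DecidableEq α] {ρ : Representation k G V} {π : G →* Perm α}

theorem cyc_mul_cyc_sq {a b c d : α} (h : D4 a b c d) :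
    (cyc a b c * cyc a b d) ^ 2 = 1 := by
  obtain ⟨hab, hac, had, hbc, hbd, hcd⟩ := h
  ext x
  simp only [pow_two, Perm.mul_apply, Perm.one_apply]
  by_cases hxa : x = a
  · subst hxa
    rw [cyc_apply_fst had hbd, cyc_apply_snd hab hac,
      cyc_apply_other hac.symm hbc.symm hcd, cyc_apply_thd hab hac hbc]
  by_cases hxb : x = b
  · subst hxb
    rw [cyc_apply_snd hab had, cyc_apply_other had.symm hbd.symm hcd.symm,
      cyc_apply_thd hab had hbd, cyc_apply_fst hac hbc]
  by_cases hxc : x = c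
  · subst hxc
    rw [cyc_apply_other hxa hxb hcd, cyc_apply_thd hab hac hbc, cyc_apply_fst had hbd,
      cyc_apply_snd hab hac]
  by_cases hxd : x = d
  · subst hxd
    rw [cyc_apply_thd hab had hbd, cyc_apply_fst hac hbc, cyc_apply_snd hab had,
      cyc_apply_other hxa hxb hxc]
  simp [cyc_apply_other, hxa, hxb, hxc, hxd]

namespace Setup

variable [FiniteDimensional k V] (hs : Setup ρ π)
include hs

theorem map_moved_T {a b c : α} (h : D3 a b c) (g : G) :
    (moved ρ (T π a b c)).map (ρ g) = moved ρ (T π (π g a) (π g b) (π g c)) := by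
  rw [map_moved, hs.conj_T h]

theorem map_fixed_T {a b c : α} (h : D3 a b c) (g : G) :
    (fixedSp ρ (T π a b c)).map (ρ g) = fixedSp ρ (T π (π g a) (π g b) (π g c)) := by
  rw [map_fixedSp, hs.conj_T h]

theorem moved_T_rot {a b c : α} (h : D3 a b c) :
    moved ρ (T π b c a) = moved ρ (T π a b c) := by rw [hs.T_rot h]

theorem moved_T_swap {a b c : α} (h : D3 a b c) :
    moved ρ (T π b a c) = moved ρ (T π a b c) := by rw [hs.T_swap h, moved_inv]

theorem fixed_T_swap {a b c : α} (h : D3 a b c) :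
    fixedSp ρ (T π b a c) = fixedSp ρ (T π a b c) := by rw [hs.T_swap h, fixedSp_inv]

theorem moved_inf_fixed (h3 : (3 : k) ≠ 0) {a b c : α} (h : D3 a b c) :
    moved ρ (T π a b c) ⊓ fixedSp ρ (T π a b c) = ⊥ := by
  refine (Submodule.eq_bot_iff _).2 ?_
  rintro v ⟨⟨w, hw⟩, hv⟩
  have hv' := mem_fixedSp.1 hv
  set f := ρ (T π a b c) with hf
  have hw' : v = f w - w := by rw [← hw]; rfl
  have h3' : f (f (f w)) = w := by
    rw [hf, ← rho_mul, ← rho_mul, (pow_three' (T π a b c)).symm, hs.T_pow_three h, map_one]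
    rfl
  have e : v + f v + f (f v) = 0 := by
    simp only [hw', map_sub, h3']; abel
  rw [hv', hv'] at e
  have e2 : (3 : k) • v = 0 := by
    rw [show (3 : k) = 1 + 1 + 1 by norm_num, add_smul, add_smul, one_smul]; exact e
  exact (smul_eq_zero.1 e2).resolve_left h3

theorem exists_block {a b c d e f : α} (h : Function.Injective ![a, b, c, d, e, f]) :
    ∃ E : Fin (Fintype.card α / 3) × Fin 3 → α, Function.Injective E ∧ ∃ i j, i ≠ j ∧
      E (i, 0) = a ∧ E (i, 1) = b ∧ E (i, 2) = c ∧ E (j, 0) = d ∧ E (j, 1) = e ∧ E (j, 2) = f := by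
  have hm : 2 ≤ Fintype.card α / 3 := by have := hs.nine; omega
  obtain ⟨e₀⟩ := Function.Embedding.nonempty_of_card_le
    (α := Fin (Fintype.card α / 3) × Fin 3) (β := α)
    (by rw [Fintype.card_prod, Fintype.card_fin, Fintype.card_fin]; omega)
  set i : Fin (Fintype.card α / 3) := ⟨0, by omega⟩ with hi
  set j : Fin (Fintype.card α / 3) := ⟨1, by omega⟩ with hj
  have hij : i ≠ j := fun h => by simpa [hi, hj] using congrArg Fin.val h
  have hinj : Function.Injective ![e₀ (i, 0), e₀ (i, 1), e₀ (i, 2), e₀ (j, 0), e₀ (j, 1),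
      e₀ (j, 2)] := by
    intro x y hxy
    fin_cases x <;> fin_cases y <;> simp_all [hij.symm]
  obtain ⟨σ, -, hσ⟩ := exists_even_map _ _ hinj h (by
    rw [Fintype.card_fin]; have := hs.nine; omega)
  exact ⟨fun x => σ (e₀ x), σ.injective.comp e₀.injective, i, j, hij, by simpa using hσ 0,
    by simpa using hσ 1, by simpa using hσ 2, by simpa using hσ 3, by simpa using hσ 4,
    by simpa using hσ 5⟩

theorem exists_three_outside (S : Finset α) (h : S.card ≤ 6) :
    ∃ d e f, D3 d e f ∧ d ∉ S ∧ e ∉ S ∧ f ∉ S := by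
  obtain ⟨T, hT, hd⟩ := exists_outside (S := S) (m := 3) (by have := hs.nine; omega)
  obtain ⟨d, e, f, hde, hdf, hef, rfl⟩ := Finset.card_eq_three.1 hT
  rw [Finset.disjoint_left] at hd
  exact ⟨d, e, f, ⟨hde, hdf, hef⟩, hd (by simp), hd (by simp), hd (by simp)⟩

/-- A function on triples, symmetric and unchanged when one point moves, is constant. -/
theorem const_of_step {β : Type*} (F : α → α → α → β)
    (hrot : ∀ a b c, D3 a b c → F b c a = F a b c)
    (hstep : ∀ a b c d, D4 a b c d → F a b c = F a b d) :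
    ∀ a b c x y z, D3 a b c → D3 x y z → F a b c = F x y z := by
  intro a b c x y z h h'
  obtain ⟨u, v, w, huvw, hu, hv, hw⟩ := hs.exists_three_outside ({a, b, c, x, y, z} : Finset α)
    Finset.card_le_six
  simp only [Finset.mem_insert, Finset.mem_singleton, not_or] at hu hv hw
  have key : ∀ a b c : α, D3 a b c → u ≠ a → u ≠ b → u ≠ c → v ≠ a → v ≠ b → v ≠ c →
      w ≠ a → w ≠ b → w ≠ c → F a b c = F u v w := by
    intro a b c h h1 h2 h3 h4 h5 h6 h7 h8 h9
    have s1 := hstep a b c w ⟨h.1, h.2.1, h7.symm, h.2.2, h8.symm, h9.symm⟩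
    have s2 := hstep w a b v ⟨h7, h8, huvw.2.2.symm, h.1, h4.symm, h5.symm⟩
    have s3 := hstep v w a u ⟨huvw.2.2, h4, huvw.1.symm, h7, huvw.2.1.symm, h1.symm⟩
    rw [s1, hrot w a b ⟨h7, h8, h.1⟩, s2, hrot v w a ⟨huvw.2.2, h4, h7⟩, s3, hrot u v w huvw]
  rw [key a b c h hu.1 hu.2.1 hu.2.2.1 hv.1 hv.2.1 hv.2.2.1 hw.1 hw.2.1 hw.2.2.1,
    key x y z h' hu.2.2.2.1 hu.2.2.2.2.1 hu.2.2.2.2.2 hv.2.2.2.1 hv.2.2.2.2.1 hv.2.2.2.2.2
      hw.2.2.2.1 hw.2.2.2.2.1 hw.2.2.2.2.2]

theorem no_const (F : α → α → α → Submodule k V)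
    (hmap : ∀ a b c, D3 a b c → ∀ g, (F a b c).map (ρ g) = F (π g a) (π g b) (π g c))
    (hconst : ∀ a b c x y z, D3 a b c → D3 x y z → F a b c = F x y z) {a b c : α}
    (h : D3 a b c) : F a b c = ⊥ ∨ F a b c = ⊤ := by
  refine hs.irred _ fun g v hv => ?_
  rw [hconst a b c (π g a) (π g b) (π g c) h (h.map (π g).injective), ← hmap a b c h g]
  exact Submodule.mem_map_of_mem hv

/-- The hypotheses on three-cycles used to build lines. -/
structure Low3 (ρ : Representation k G V) (π : G →* Perm α) : Prop where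
  two : ∀ a b c, D3 a b c → finrank k (moved ρ (T π a b c)) = 2
  fix : ∀ a b c d e f, Function.Injective ![a, b, c, d, e, f] →
    ∀ v ∈ moved ρ (T π a b c), ρ (T π d e f) v = v

variable (h3 : (3 : k) ≠ 0) (hl : Low3 ρ π)
include h3 hl

omit h3 in
theorem low_fix {a b c d e f : α} (h : D3 a b c) (h' : D3 d e f)
    (hd : d ≠ a ∧ d ≠ b ∧ d ≠ c) (he : e ≠ a ∧ e ≠ b ∧ e ≠ c) (hf : f ≠ a ∧ f ≠ b ∧ f ≠ c) :
    ∀ v ∈ moved ρ (T π a b c), ρ (T π d e f) v = v := by
  refine hl.fix a b c d e f ?_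
  obtain ⟨hab, hac, hbc⟩ := h
  obtain ⟨hde, hdf, hef⟩ := h'
  intro x y hxy
  fin_cases x <;> fin_cases y <;> simp_all

theorem low_five_le : 5 ≤ finrank k V := by
  by_contra hlt
  obtain ⟨T9, hT9, -⟩ := exists_outside (S := (∅ : Finset α)) (m := 9) (by
    have := hs.nine; simpa)
  set q := fun i : Fin 9 => ((Finset.equivFinOfCardEq hT9).symm i : α) with hq
  have hqinj : Function.Injective q := Subtype.val_injective.comp (Equiv.injective _)
  have hne : ∀ i j : Fin 9, i ≠ j → q i ≠ q j := fun i j h => hqinj.ne h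
  have hD : ∀ i j l : Fin 9, i ≠ j → i ≠ l → j ≠ l → D3 (q i) (q j) (q l) :=
    fun i j l a b c => ⟨hne _ _ a, hne _ _ b, hne _ _ c⟩
  have h1 := hD 0 1 2 (by decide) (by decide) (by decide)
  have h2 := hD 3 4 5 (by decide) (by decide) (by decide)
  have h3' := hD 6 7 8 (by decide) (by decide) (by decide)
  set W1 := moved ρ (T π (q 0) (q 1) (q 2)) with hW1
  set W2 := moved ρ (T π (q 3) (q 4) (q 5)) with hW2
  have hint : W1 ⊓ W2 = ⊥ := by
    rw [eq_bot_iff, ← hs.moved_inf_fixed h3 h1]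
    refine le_inf inf_le_left fun v hv => mem_fixedSp.2 ?_
    exact hs.low_fix hl h2 h1 ⟨hne _ _ (by decide), hne _ _ (by decide), hne _ _ (by decide)⟩
      ⟨hne _ _ (by decide), hne _ _ (by decide), hne _ _ (by decide)⟩
      ⟨hne _ _ (by decide), hne _ _ (by decide), hne _ _ (by decide)⟩ v hv.2
  have h4 := Submodule.finrank_sup_add_finrank_inf_eq W1 W2
  rw [hint, finrank_bot, hW1, hW2, hl.two _ _ _ h1, hl.two _ _ _ h2, ← hW1, ← hW2] at h4
  have htop : W1 ⊔ W2 = ⊤ := Submodule.eq_top_of_finrank_eq (le_antisymm (Submodule.finrank_le _)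
    (by omega))
  refine hs.T_ne_one h3' (hs.inj ?_)
  rw [map_one]
  refine LinearMap.ext fun v => ?_
  obtain ⟨v1, hv1, v2, hv2, rfl⟩ := Submodule.mem_sup.1 (htop.ge (Submodule.mem_top (x := v)))
  rw [map_add, hs.low_fix hl h1 h3' ⟨hne _ _ (by decide), hne _ _ (by decide), hne _ _ (by decide)⟩
      ⟨hne _ _ (by decide), hne _ _ (by decide), hne _ _ (by decide)⟩
      ⟨hne _ _ (by decide), hne _ _ (by decide), hne _ _ (by decide)⟩ v1 hv1,
    hs.low_fix hl h2 h3' ⟨hne _ _ (by decide), hne _ _ (by decide), hne _ _ (by decide)⟩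
      ⟨hne _ _ (by decide), hne _ _ (by decide), hne _ _ (by decide)⟩
      ⟨hne _ _ (by decide), hne _ _ (by decide), hne _ _ (by decide)⟩ v2 hv2]
  rfl

theorem low_inter {a b c d : α} (h : D4 a b c d) :
    finrank k (moved ρ (T π a b c) ⊓ moved ρ (T π a b d) : Submodule k V) = 1 := by
  obtain ⟨hab, hac, had, hbc, hbd, hcd⟩ := id h
  have hc : D3 a b c := ⟨hab, hac, hbc⟩
  have hd : D3 a b d := ⟨hab, had, hbd⟩
  have hn := hs.low_five_le h3 hl
  have hmap : ∀ a' b' c' d', D4 a' b' c' d' → ∃ g, π g a = a' ∧ π g b = b' ∧ π g c = c' ∧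
      π g d = d' := fun a' b' c' d' h' => hs.exists_map_four h h'
  -- the product of the two lifts is an involution
  have hsq : (T π a b c * T π a b d) ^ 2 = 1 := by
    have hπ : π ((T π a b c * T π a b d) ^ 2) = 1 := by
      rw [map_pow, map_mul, hs.map_T hc, hs.map_T hd, cyc_mul_cyc_sq h]
    obtain ⟨s, hsc⟩ := hs.scal _ hπ
    have hC : ¬ Disjoint (fixedSp ρ (T π a b c)) (fixedSp ρ (T π a b d)) := fun hdis => by
      have h1 := finrank_moved_add (ρ := ρ) (T π a b c)
      have h2 := finrank_moved_add (ρ := ρ) (T π a b d)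
      rw [hl.two _ _ _ hc] at h1
      rw [hl.two _ _ _ hd] at h2
      have := Submodule.finrank_add_finrank_le_of_disjoint hdis
      omega
    obtain ⟨v, hv, hv0⟩ := (Submodule.ne_bot_iff _).1 fun h0 => hC (disjoint_iff.2 h0)
    have h1 : ρ ((T π a b c * T π a b d) ^ 2) v = v := by
      simp only [pow_two, rho_mul, mem_fixedSp.1 hv.2, mem_fixedSp.1 hv.1]
    rw [hsc] at h1
    have h2 : (s - 1) • v = 0 := by
      rw [sub_smul, one_smul, sub_eq_zero]; exact h1
    rw [sub_eq_zero.1 ((smul_eq_zero.1 h2).resolve_right hv0), one_smul] at hsc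
    exact hs.inj (hsc.trans (map_one ρ).symm)
  set W := moved ρ (T π a b c) with hW
  set W' := moved ρ (T π a b d) with hW'
  have hne : W ≠ W' := by
    intro heq
    have hconst := hs.const_of_step (fun a b c => moved ρ (T π a b c))
      (fun _ _ _ h => hs.moved_T_rot h) (fun a' b' c' d' h' => by
        obtain ⟨g, ga, gb, gc, gd⟩ := hmap a' b' c' d' h'
        have h1 := congrArg (Submodule.map (ρ g)) heq
        rwa [hW, hW', hs.map_moved_T hc, hs.map_moved_T hd, ga, gb, gc, gd] at h1)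
    have h2 := hl.two _ _ _ hc
    rcases hs.no_const (fun a b c => moved ρ (T π a b c))
      (fun _ _ _ h g => hs.map_moved_T h g) hconst hc with h1 | h1
    · rw [h1, finrank_bot] at h2; omega
    · rw [h1, finrank_top] at h2; omega
  have hnz : W ⊓ W' ≠ ⊥ := by
    intro h0
    have hle : fixedSp ρ (T π a b d) ≤ fixedSp ρ (T π a b c) := by
      intro v hv
      rw [mem_fixedSp] at hv ⊢
      set f := ρ (T π a b c) with hf
      set f' := ρ (T π a b d) with hf'
      have e1 : f' (f v) = ρ (T π a b c)⁻¹ v := by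
        have h1 : T π a b d * T π a b c * T π a b d = (T π a b c)⁻¹ := by
          have h9 : T π a b c * (T π a b d * T π a b c * T π a b d) = 1 := by
            rw [← hsq, pow_two]; simp only [mul_assoc]
          exact (mul_eq_one_iff_inv_eq.1 h9).symm
        rw [← h1, rho_mul, rho_mul, ← hf', hv]
      have hmem : f' (f v - v) - (f v - v) ∈ W ⊓ W' := by
        refine ⟨?_, ⟨f v - v, rfl⟩⟩
        rw [map_sub, e1, hv]
        refine sub_mem ?_ ⟨v, rfl⟩
        rw [hW, ← moved_inv]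
        exact ⟨v, rfl⟩
      rw [h0, Submodule.mem_bot, map_sub, e1, hv] at hmem
      have e2 : f v = ρ (T π a b c)⁻¹ v := by
        rw [sub_sub_sub_cancel_right, sub_eq_zero] at hmem
        exact hmem.symm
      have e3 : f (f v) = v := by rw [e2, hf, rho_inv_apply]
      have e4 : f (f (f v)) = v := by
        rw [hf, ← rho_mul, ← rho_mul, (pow_three' (T π a b c)).symm, hs.T_pow_three hc, map_one]
        rfl
      rwa [e3] at e4
    have hCeq : fixedSp ρ (T π a b d) = fixedSp ρ (T π a b c) := by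
      refine Submodule.eq_of_le_of_finrank_le hle ?_
      have h1 := finrank_moved_add (ρ := ρ) (T π a b c)
      have h2 := finrank_moved_add (ρ := ρ) (T π a b d)
      rw [hl.two _ _ _ hc] at h1
      rw [hl.two _ _ _ hd] at h2
      omega
    have hconst := hs.const_of_step (fun a b c => fixedSp ρ (T π a b c))
      (fun a b c h => by simp only [hs.T_rot h]) (fun a' b' c' d' h' => by
        obtain ⟨g, ga, gb, gc, gd⟩ := hmap a' b' c' d' h'
        have h1 := congrArg (Submodule.map (ρ g)) hCeq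
        rw [hs.map_fixed_T hc, hs.map_fixed_T hd, ga, gb, gc, gd] at h1
        exact h1.symm)
    have h2 := finrank_moved_add (ρ := ρ) (T π a b c)
    rw [hl.two _ _ _ hc] at h2
    rcases hs.no_const (fun a b c => fixedSp ρ (T π a b c))
      (fun _ _ _ h g => hs.map_fixed_T h g) hconst hc with h1 | h1
    · rw [h1, finrank_bot] at h2; omega
    · rw [h1, finrank_top] at h2; omega
  have hpos : 0 < finrank k (W ⊓ W' : Submodule k V) := by
    haveI := Submodule.nontrivial_iff_ne_bot.2 hnz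
    exact Module.finrank_pos
  by_contra hne1
  have hW2 : finrank k W = 2 := hl.two _ _ _ hc
  have hW2' : finrank k W' = 2 := hl.two _ _ _ hd
  have e1 := Submodule.eq_of_le_of_finrank_le (inf_le_left : W ⊓ W' ≤ W) (by omega)
  have e2 := Submodule.eq_of_le_of_finrank_le (inf_le_right : W ⊓ W' ≤ W') (by omega)
  exact hne (e1.symm.trans e2)

theorem low_common {a b c d e : α} (h : D4 a b c d) (he : e ≠ a ∧ e ≠ b ∧ e ≠ c ∧ e ≠ d) :
    moved ρ (T π a b c) ⊓ moved ρ (T π a b d) ≤ moved ρ (T π a b e) := by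
  obtain ⟨hab, hac, had, hbc, hbd, hcd⟩ := id h
  obtain ⟨hea, heb, hec, hed⟩ := he
  have hce : D4 a b c e := ⟨hab, hac, hea.symm, hbc, heb.symm, hec.symm⟩
  have hde : D4 a b d e := ⟨hab, had, hea.symm, hbd, heb.symm, hed.symm⟩
  set Wc := moved ρ (T π a b c) with hWc
  set Wd := moved ρ (T π a b d) with hWd
  set We := moved ρ (T π a b e) with hWe
  have icd : finrank k (Wc ⊓ Wd : Submodule k V) = 1 := hs.low_inter h3 hl h
  have ice : finrank k (Wc ⊓ We : Submodule k V) = 1 := hs.low_inter h3 hl hce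
  have ide : finrank k (Wd ⊓ We : Submodule k V) = 1 := hs.low_inter h3 hl hde
  by_contra hnot
  set X := Wc ⊔ Wd with hX
  have hdiff : Wc ⊓ We ≠ Wd ⊓ We := by
    intro heq
    have h1 : Wc ⊓ We ≤ Wc ⊓ Wd := le_inf inf_le_left (heq.le.trans inf_le_left)
    have h2 := Submodule.eq_of_le_of_finrank_le h1 (by omega)
    exact hnot (h2.ge.trans inf_le_right)
  have hsum : finrank k ((Wc ⊓ We) ⊔ (Wd ⊓ We) : Submodule k V) = 2 := by
    have h1 := Submodule.finrank_sup_add_finrank_inf_eq (Wc ⊓ We) (Wd ⊓ We)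
    have h2 : (Wc ⊓ We) ⊓ (Wd ⊓ We) = ⊥ := by
      by_contra hne
      have hp : 0 < finrank k ((Wc ⊓ We) ⊓ (Wd ⊓ We) : Submodule k V) := by
        haveI := Submodule.nontrivial_iff_ne_bot.2 hne
        exact Module.finrank_pos
      exact hdiff ((Submodule.eq_of_le_of_finrank_le inf_le_left (by omega)).symm.trans
        (Submodule.eq_of_le_of_finrank_le inf_le_right (by omega)))
    rw [h2, finrank_bot, ice, ide] at h1
    omega
  have hWeX : We ≤ X := by
    have h1 : (Wc ⊓ We) ⊔ (Wd ⊓ We) = We :=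
      Submodule.eq_of_le_of_finrank_le (sup_le inf_le_right inf_le_right)
        (by
          have hW2 : finrank k We = 2 := hl.two _ _ _ ⟨hab, hea.symm, heb.symm⟩
          omega)
    rw [← h1]
    exact sup_le (inf_le_left.trans le_sup_left) (inf_le_left.trans le_sup_right)
  -- every plane through the pair lies in the three-space
  have hall : ∀ f, f ≠ a → f ≠ b → f ≠ c → f ≠ d → moved ρ (T π a b f) ≤ X := by
    intro f hfa hfb hfc hfd
    by_cases hfe : f = e
    · subst hfe; exact hWeX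
    obtain ⟨x, y, z, -, hx, -, -⟩ :=
      hs.exists_three_outside ({a, b, c, d, e, f} : Finset α) Finset.card_le_six
    simp only [Finset.mem_insert, Finset.mem_singleton, not_or] at hx
    obtain ⟨hxa, hxb, hxc, hxd, hxe, hxf⟩ := hx
    set g := lft π (cyc e f x) with hg
    have hgv : π g = cyc e f x := hs.map_lft_cyc e f x
    have gfix : ∀ t, t ≠ e → t ≠ f → t ≠ x → π g t = t := fun t h1 h2 h3 => by
      rw [hgv, cyc_apply_other h1 h2 h3]
    have ga := gfix a hea.symm (Ne.symm hfa) (Ne.symm hxa)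
    have gb := gfix b heb.symm (Ne.symm hfb) (Ne.symm hxb)
    have gc := gfix c hec.symm (Ne.symm hfc) (Ne.symm hxc)
    have gd := gfix d hed.symm (Ne.symm hfd) (Ne.symm hxd)
    have ge : π g e = f := by rw [hgv, cyc_apply_fst (Ne.symm hxe) (Ne.symm hxf)]
    have h1 := Submodule.map_mono (f := ρ g) hWeX
    rw [hX, Submodule.map_sup, hWc, hWd, hWe, hs.map_moved_T ⟨hab, hac, hbc⟩,
      hs.map_moved_T ⟨hab, had, hbd⟩, hs.map_moved_T ⟨hab, hea.symm, heb.symm⟩, ga, gb, gc, gd,
      ge] at h1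
    exact h1
  obtain ⟨f, g, x, hfgx, hf, hg, hx⟩ :=
    hs.exists_three_outside ({a, b, c, d} : Finset α) (Finset.card_le_four.trans (by norm_num))
  simp only [Finset.mem_insert, Finset.mem_singleton, not_or] at hf hg hx
  have hXfix : ∀ v ∈ X, ρ (T π f g x) v = v := by
    intro v hv
    obtain ⟨v1, hv1, v2, hv2, rfl⟩ := Submodule.mem_sup.1 hv
    rw [map_add,
      hs.low_fix hl ⟨hab, hac, hbc⟩ hfgx ⟨hf.1, hf.2.1, hf.2.2.1⟩ ⟨hg.1, hg.2.1, hg.2.2.1⟩
        ⟨hx.1, hx.2.1, hx.2.2.1⟩ v1 hv1,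
      hs.low_fix hl ⟨hab, had, hbd⟩ hfgx ⟨hf.1, hf.2.1, hf.2.2.2⟩ ⟨hg.1, hg.2.1, hg.2.2.2⟩
        ⟨hx.1, hx.2.1, hx.2.2.2⟩ v2 hv2]
  have hWf := hall f hf.1 hf.2.1 hf.2.2.1 hf.2.2.2
  have hfix : (moved ρ (T π a b f)).map (ρ (T π f g x)) = moved ρ (T π a b f) := by
    ext v
    constructor
    · rintro ⟨w, hw, rfl⟩; rw [hXfix w (hWf hw)]; exact hw
    · intro hv; exact ⟨v, hv, hXfix v (hWf hv)⟩
  rw [hs.map_moved_T ⟨hab, Ne.symm hf.1, Ne.symm hf.2.1⟩, hs.map_T hfgx,
    cyc_apply_other (Ne.symm hf.1) (Ne.symm hg.1) (Ne.symm hx.1),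
    cyc_apply_other (Ne.symm hf.2.1) (Ne.symm hg.2.1) (Ne.symm hx.2.1),
    cyc_apply_fst hfgx.2.1 hfgx.2.2] at hfix
  have h1 := hs.low_inter h3 hl (a := a) (b := b) (c := g) (d := f)
    ⟨hab, Ne.symm hg.1, Ne.symm hf.1, Ne.symm hg.2.1, Ne.symm hf.2.1, hfgx.1.symm⟩
  rw [hfix, inf_idem, hl.two _ _ _ ⟨hab, Ne.symm hf.1, Ne.symm hf.2.1⟩] at h1
  omega

/-- The line attached to a pair of points. -/
theorem low_lineData :
    LineData ρ π (fun a b => ⨅ c : {c // c ≠ a ∧ c ≠ b}, moved ρ (T π a b c.1)) := by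
  set L := fun a b => ⨅ c : {c // c ≠ a ∧ c ≠ b}, moved ρ (T π a b c.1) with hL
  have hLeq : ∀ a b c d, D4 a b c d →
      L a b = moved ρ (T π a b c) ⊓ moved ρ (T π a b d) := by
    intro a b c d h
    obtain ⟨hab, hac, had, hbc, hbd, hcd⟩ := id h
    refine le_antisymm (le_inf (iInf_le _ (⟨c, hac.symm, hbc.symm⟩ : {c // c ≠ a ∧ c ≠ b}))
      (iInf_le _ (⟨d, had.symm, hbd.symm⟩ : {c // c ≠ a ∧ c ≠ b}))) (le_iInf fun e => ?_)
    obtain ⟨e, hea, heb⟩ := e
    show _ ≤ moved ρ (T π a b e)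
    by_cases hec : e = c
    · subst hec; exact inf_le_left
    by_cases hed : e = d
    · subst hed; exact inf_le_right
    exact hs.low_common h3 hl h ⟨hea, heb, hec, hed⟩
  have hext : ∀ a b : α, a ≠ b → ∃ c d, D4 a b c d := by
    intro a b hab
    obtain ⟨c, d, x, hcdf, hc, hd, -⟩ :=
      hs.exists_three_outside ({a, b} : Finset α) (Finset.card_le_two.trans (by norm_num))
    simp only [Finset.mem_insert, Finset.mem_singleton, not_or] at hc hd
    exact ⟨c, d, hab, Ne.symm hc.1, Ne.symm hd.1, Ne.symm hc.2, Ne.symm hd.2, hcdf.1⟩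
  have hle : ∀ a b c, D3 a b c → L a b ≤ moved ρ (T π a b c) := fun a b c h =>
    iInf_le _ (⟨c, h.2.1.symm, h.2.2.symm⟩ : {c // c ≠ a ∧ c ≠ b})
  have hline : ∀ a b, a ≠ b → finrank k (L a b) = 1 := fun a b h => by
    obtain ⟨c, d, h4⟩ := hext a b h
    rw [hLeq a b c d h4, hs.low_inter h3 hl h4]
  have hsymm : ∀ a b, a ≠ b → L a b = L b a := fun a b h => by
    obtain ⟨c, d, h4⟩ := hext a b h
    obtain ⟨hab, hac, had, hbc, hbd, hcd⟩ := h4
    rw [hLeq a b c d ⟨hab, hac, had, hbc, hbd, hcd⟩,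
      hLeq b a c d ⟨hab.symm, hbc, hbd, hac, had, hcd⟩, hs.moved_T_swap ⟨hab, hac, hbc⟩,
      hs.moved_T_swap ⟨hab, had, hbd⟩]
  have hequiv : ∀ g a b, a ≠ b → (L a b).map (ρ g) = L (π g a) (π g b) := fun g a b h => by
    obtain ⟨c, d, h4⟩ := hext a b h
    rw [hLeq a b c d h4, hLeq _ _ _ _ (h4.map (π g).injective),
      Submodule.map_inf _ (rho_injective ρ g),
      hs.map_moved_T ⟨h4.1, h4.2.1, h4.2.2.2.1⟩, hs.map_moved_T ⟨h4.1, h4.2.2.1, h4.2.2.2.2.1⟩]
  have hne : ∀ a b c, D3 a b c → L a b ≠ L a c := by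
    intro a b c h heq
    have hall : ∀ a' b' c', D3 a' b' c' → L a' b' = L a' c' := fun a' b' c' h' => by
      obtain ⟨g, ga, gb, gc⟩ := hs.exists_map_three h h'
      have h1 := congrArg (Submodule.map (ρ g)) heq
      rwa [hequiv g a b h.1, hequiv g a c h.2.1, ga, gb, gc] at h1
    have hconst : ∀ x y, x ≠ y → L x y = L a b := by
      have h0 : ∀ x y z, x ≠ y → x ≠ z → L x y = L x z := fun x y z hy hz => by
        by_cases hyz : y = z
        · rw [hyz]
        · exact hall x y z ⟨hy, hz, hyz⟩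
      intro x y hxy
      by_cases hax : x = a
      · subst hax; exact h0 x y b hxy h.1
      rw [h0 x y a hxy hax, hsymm x a hax, h0 a x b (Ne.symm hax) h.1]
    have hinv : ∀ g, ∀ v ∈ L a b, ρ g v ∈ L a b := fun g v hv => by
      have h1 := Submodule.mem_map_of_mem (f := ρ g) hv
      rwa [hequiv g a b h.1, hconst _ _ ((π g).injective.ne h.1)] at h1
    have hl1 := hline a b h.1
    have hn := hs.low_five_le h3 hl
    rcases hs.irred _ hinv with h1 | h1
    · rw [h1, finrank_bot] at hl1; omega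
    · rw [h1, finrank_top] at hl1; omega
  refine ⟨hline, hsymm, hequiv, fun a b c h => ?_, hne⟩
  have hW : L a b ⊔ L b c = moved ρ (T π a b c) := by
    refine Submodule.eq_of_le_of_finrank_le (sup_le (hle a b c h) ?_) ?_
    · rw [← hs.moved_T_rot h]; exact hle b c a h.rot
    · rw [hl.two _ _ _ h]
      have h1 := Submodule.finrank_sup_add_finrank_inf_eq (L a b) (L b c)
      rw [hline a b h.1, hline b c h.2.2] at h1
      have h2 : finrank k (L a b ⊓ L b c : Submodule k V) = 0 := by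
        by_contra h0
        have e1 := Submodule.eq_of_le_of_finrank_le (inf_le_left : L a b ⊓ L b c ≤ L a b)
          (by rw [hline a b h.1]; omega)
        have e2 := Submodule.eq_of_le_of_finrank_le (inf_le_right : L a b ⊓ L b c ≤ L b c)
          (by rw [hline b c h.2.2]; omega)
        exact hne b a c h.swap12 ((hsymm b a h.1.symm).trans (e1.symm.trans e2))
      omega
  rw [hW]
  have h2 := hle a c b h.swap23
  rw [hs.T_swap23 h] at h2
  rwa [show T π a b c ^ 2 = (T π a b c)⁻¹ from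
    eq_inv_of_mul_eq_one_left (by rw [← pow_succ, hs.T_pow_three h]), moved_inv] at h2

end Setup

end CfsgLib.AltSection
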