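import Cfsg.Agent.Lib.AltSection.QuadWeights
import Cfsg.Agent.Lib.AltSection.PermMod

/-!
Involutions negating planes give a system of lines.
-/

set_option autoImplicit false

namespace CfsgLib.AltSection

open Equiv Module
open scoped commutatorElement

variable {k : Type*} [Field k] {V : Type*} [AddCommGroup V] [Module k V] {G : Type*} [Group G]
  {α : Type*} [Fintype α] [DecidableEq α] {ρ : Representation k G V} {π : G →* Perm α}

/-- Four points, none of them among four others. -/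
def Apart (a b c d e f g h : α) : Prop :=
  (a ≠ e ∧ a ≠ f ∧ a ≠ g ∧ a ≠ h) ∧ (b ≠ e ∧ b ≠ f ∧ b ≠ g ∧ b ≠ h) ∧
    (c ≠ e ∧ c ≠ f ∧ c ≠ g ∧ c ≠ h) ∧ (d ≠ e ∧ d ≠ f ∧ d ≠ g ∧ d ≠ h)

theorem Apart.symm {a b c d e f g h : α} (H : Apart a b c d e f g h) : Apart e f g h a b c d :=
  ⟨⟨H.1.1.symm, H.2.1.1.symm, H.2.2.1.1.symm, H.2.2.2.1.symm⟩,
    ⟨H.1.2.1.symm, H.2.1.2.1.symm, H.2.2.1.2.1.symm, H.2.2.2.2.1.symm⟩,
    ⟨H.1.2.2.1.symm, H.2.1.2.2.1.symm, H.2.2.1.2.2.1.symm, H.2.2.2.2.2.1.symm⟩,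
    ⟨H.1.2.2.2.symm, H.2.1.2.2.2.symm, H.2.2.1.2.2.2.symm, H.2.2.2.2.2.2.symm⟩⟩

/-- The canonical involutions negate planes and those on disjoint blocks fix each other's. -/
structure Low4 (ρ : Representation k G V) (π : G →* Perm α) : Prop where
  two : ∀ a b c d, D4 a b c d → finrank k (negSp ρ (Uq π a b c d)) = 2
  fix : ∀ a b c d e f g h, D4 a b c d → D4 e f g h → Apart a b c d e f g h →
    ∀ v ∈ negSp ρ (Uq π a b c d), ρ (Uq π e f g h) v = v

theorem le_negSp_add_fixed [FiniteDimensional k V] (h2 : (2 : k) ≠ 0) {g : G}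
    (hg : g * g = 1) : finrank k V ≤ finrank k (negSp ρ g) + finrank k (fixedSp ρ g) := by
  have hgg : ∀ v, ρ g (ρ g v) = v := fun v => by rw [← rho_mul, hg, map_one]; rfl
  have htop : negSp ρ g ⊔ fixedSp ρ g = ⊤ := by
    refine top_unique fun v _ => ?_
    have e1 : (v - ρ g v) ∈ negSp ρ g := mem_negSp.2 (by rw [map_sub, hgg, neg_sub])
    have e2 : (v + ρ g v) ∈ fixedSp ρ g := mem_fixedSp.2 (by rw [map_add, hgg, add_comm])
    have e3 : v = (2 : k)⁻¹ • ((v - ρ g v) + (v + ρ g v)) := by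
      rw [show (v - ρ g v) + (v + ρ g v) = (2 : k) • v by rw [two_smul]; abel, smul_smul,
        inv_mul_cancel₀ h2, one_smul]
    rw [e3]
    exact Submodule.smul_mem _ _ (add_mem (Submodule.mem_sup_left e1) (Submodule.mem_sup_right e2))
  have h := Submodule.finrank_add_le_finrank_add_finrank (negSp ρ g) (fixedSp ρ g)
  rw [htop, finrank_top] at h
  exact h

theorem quad_chain : D4 (0 : Fin 9) 1 2 3 ∧ D4 (4 : Fin 9) 1 2 3 ∧ D4 (4 : Fin 9) 5 2 3 ∧
      D4 (4 : Fin 9) 5 6 3 ∧ D4 (4 : Fin 9) 5 6 7 ∧ D4 (5 : Fin 9) 6 7 8 ∧ D4 (0 : Fin 9) 6 7 8 ∧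
      D4 (0 : Fin 9) 1 7 8 ∧ D4 (0 : Fin 9) 1 2 8 ∧ Apart (0 : Fin 9) 1 2 3 5 6 7 8 ∧
      Apart (4 : Fin 9) 1 2 3 5 6 7 8 ∧ Apart (4 : Fin 9) 1 2 3 0 6 7 8 ∧
      Apart (4 : Fin 9) 5 2 3 0 6 7 8 ∧ Apart (4 : Fin 9) 5 2 3 0 1 7 8 ∧
      Apart (4 : Fin 9) 5 6 3 0 1 7 8 ∧ Apart (4 : Fin 9) 5 6 3 0 1 2 8 ∧
      Apart (4 : Fin 9) 5 6 7 0 1 2 8 ∧ Apart (0 : Fin 9) 1 2 3 4 5 6 7 := by
  unfold D4 Apart; refine ⟨?_, ?_, ?_, ?_, ?_, ?_, ?_, ?_, ?_, ?_, ?_, ?_, ?_, ?_, ?_, ?_, ?_, ?_⟩ <;> decide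

namespace Setup

variable [FiniteDimensional k V] (hs : Setup ρ π) (hl : Linear π) (h2 : (2 : k) ≠ 0)
  (hw : Low4 ρ π)
include hs hl h2 hw

omit hw in
theorem negSp_inf_fixed {g : G} : negSp ρ g ⊓ fixedSp ρ g = ⊥ := by
  refine (Submodule.eq_bot_iff _).2 fun v hv => ?_
  have h1 := mem_negSp.1 hv.1
  rw [mem_fixedSp.1 hv.2] at h1
  have h3 : (2 : k) • v = 0 := by rw [two_smul]; exact eq_neg_iff_add_eq_zero.1 h1
  exact (smul_eq_zero.1 h3).resolve_left h2

theorem low4_seven : 7 ≤ finrank k V := by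
  classical
  by_contra hsmall
  let N : α → α → α → α → Submodule k V := fun a b c d =>
    negSp ρ (Uq π a b c d) ⊔ negSp ρ (Uq π a c d b)
  let F : α → α → α → α → Submodule k V := fun a b c d =>
    fixedSp ρ (Uq π a b c d) ⊓ fixedSp ρ (Uq π a c d b)
  have hNF : ∀ a b c d, D4 a b c d → N a b c d ⊓ F a b c d = ⊥ := by
    intro a b c d h
    refine (Submodule.eq_bot_iff _).2 fun v hv => ?_
    obtain ⟨x1, hx1, x2, hx2, rfl⟩ := Submodule.mem_sup.1 hv.1
    set A := ρ (Uq π a b c d) with hA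
    set B := ρ (Uq π a c d b) with hB
    have hc : ∀ w, A (B w) = B (A w) := fun w => by
      rw [hA, hB, ← rho_mul, (hs.Uq_commute_same hl h).eq, rho_mul]
    have e1 : A x1 = -x1 := mem_negSp.1 hx1
    have e2 : B x2 = -x2 := mem_negSp.1 hx2
    have fA : A (x1 + x2) = x1 + x2 := mem_fixedSp.1 hv.2.1
    have fB : B (x1 + x2) = x1 + x2 := mem_fixedSp.1 hv.2.2
    have e3 : (x1 + x2) + A (x1 + x2) + B (x1 + x2) + B (A (x1 + x2)) = 0 := by
      have h1 : B (A x1) = -B x1 := by rw [e1, map_neg]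
      have h3 : B (A x2) = -A x2 := by rw [← hc, e2, map_neg]
      simp only [map_add]
      rw [h1, h3, e1, e2]; abel
    rw [fA, fB] at e3
    have e4 : ((2 : k) * 2) • (x1 + x2) = 0 := by
      rw [mul_smul, two_smul, two_smul, ← e3]; abel
    exact (smul_eq_zero.1 e4).resolve_left (mul_ne_zero h2 h2)
  have hNdim : ∀ a b c d, D4 a b c d → 3 ≤ finrank k (N a b c d) := by
    intro a b c d h
    by_contra hlt
    simp only [N] at hlt
    have hle : negSp ρ (Uq π a b c d) = negSp ρ (Uq π a c d b) := by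
      have e1 := Submodule.eq_of_le_of_finrank_le
        (le_sup_left : negSp ρ (Uq π a b c d) ≤ negSp ρ (Uq π a b c d) ⊔ negSp ρ (Uq π a c d b)) (by rw [hw.two _ _ _ _ h]; omega)
      have e2 := Submodule.eq_of_le_of_finrank_le
        (le_sup_right : negSp ρ (Uq π a c d b) ≤ negSp ρ (Uq π a b c d) ⊔ negSp ρ (Uq π a c d b)) (by rw [hw.two _ _ _ _ h.rot]; omega)
      exact e1.trans e2.symm
    have hmem : negSp ρ (Uq π a b c d) ≤ fixedSp ρ (Uq π a d b c) := by
      intro v hv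
      rw [mem_fixedSp]
      have h1 := hs.Uq_prod hl h
      have h3 : Uq π a d b c = (Uq π a b c d * Uq π a c d b)⁻¹ := (eq_inv_of_mul_eq_one_right h1)
      have h4 : ρ (Uq π a b c d * Uq π a c d b) v = v := by
        rw [rho_mul, mem_negSp.1 (hle.le hv), map_neg, mem_negSp.1 hv, neg_neg]
      conv_lhs => rw [← h4]
      rw [h3, rho_inv_apply']
    -- the third involution then coincides on this plane with neither of the others
    have h5 : negSp ρ (Uq π a b c d) ⊓ negSp ρ (Uq π a d b c) = ⊥ := by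
      rw [eq_bot_iff, ← hs.negSp_inf_fixed hl h2 (g := Uq π a d b c)]
      exact le_inf inf_le_right (inf_le_left.trans hmem)
    have h6 := Submodule.finrank_sup_add_finrank_inf_eq (negSp ρ (Uq π a b c d))
      (negSp ρ (Uq π a d b c))
    rw [h5, finrank_bot, hw.two _ _ _ _ h, hw.two _ _ _ _ h.rot.rot] at h6
    obtain ⟨v, hv, hv0⟩ := (Submodule.ne_bot_iff (negSp ρ (Uq π a d b c))).1 fun h0 => by
      have := hw.two _ _ _ _ h.rot.rot
      rw [h0, finrank_bot] at this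
      omega
    set A := ρ (Uq π a b c d) with hA
    have hAA : A (A v) = v := by rw [hA, ← rho_mul, hs.Uq_sq hl h, map_one]; rfl
    have hCA : ρ (Uq π a d b c) (A v) = A (ρ (Uq π a d b c) v) := by
      rw [hA, ← rho_mul, ← rho_mul, (hs.Uq_commute_same hl h.rot.rot).eq]
    have h7 : v - A v ∈ negSp ρ (Uq π a b c d) ⊓ negSp ρ (Uq π a d b c) :=
      ⟨mem_negSp.2 (by rw [← hA, map_sub, hAA, neg_sub]),
        mem_negSp.2 (by rw [map_sub, hCA, mem_negSp.1 hv, map_neg]; abel)⟩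
    rw [h5, Submodule.mem_bot, sub_eq_zero] at h7
    have h8 : ρ (Uq π a c d b) v = -v := by
      have h1 := hs.Uq_prod hl h
      have h3 : Uq π a c d b = Uq π a b c d * Uq π a d b c := by
        have e1 : Uq π a d b c = (Uq π a b c d * Uq π a c d b)⁻¹ := eq_inv_of_mul_eq_one_right h1
        have e2 : Uq π a d b c = Uq π a b c d * Uq π a c d b := by
          rw [e1, inv_eq_iff_mul_eq_one]
          have hc := hs.Uq_commute_same hl h
          rw [show Uq π a b c d * Uq π a c d b * (Uq π a b c d * Uq π a c d b) =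
            Uq π a b c d * (Uq π a c d b * Uq π a b c d) * Uq π a c d b by group, ← hc.eq,
            show Uq π a b c d * (Uq π a b c d * Uq π a c d b) * Uq π a c d b =
            (Uq π a b c d * Uq π a b c d) * (Uq π a c d b * Uq π a c d b) by group,
            hs.Uq_sq hl h, hs.Uq_sq hl h.rot, one_mul]
        rw [e2, ← mul_assoc, hs.Uq_sq hl h, one_mul]
      rw [h3, rho_mul, mem_negSp.1 hv, map_neg, ← hA, ← h7]
    have h9 : v ∈ negSp ρ (Uq π a b c d) := hle.ge (mem_negSp.2 h8)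
    have h10 : v ∈ negSp ρ (Uq π a b c d) ⊓ negSp ρ (Uq π a d b c) := ⟨h9, hv⟩
    rw [h5, Submodule.mem_bot] at h10
    exact hv0 h10
  have hNP : ∀ a b c d e f g h, D4 a b c d → D4 e f g h → Apart a b c d e f g h →
      N a b c d ≤ F e f g h := by
    intro a b c d e f g h h1 h1' hA
    obtain ⟨ha, hb, hc, hd⟩ := id hA
    have hA1 : Apart a b c d e g h f :=
      ⟨⟨ha.1, ha.2.2.1, ha.2.2.2, ha.2.1⟩, ⟨hb.1, hb.2.2.1, hb.2.2.2, hb.2.1⟩,
        ⟨hc.1, hc.2.2.1, hc.2.2.2, hc.2.1⟩, ⟨hd.1, hd.2.2.1, hd.2.2.2, hd.2.1⟩⟩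
    refine sup_le (fun v hv => ⟨?_, ?_⟩) (fun v hv => ⟨?_, ?_⟩)
    · exact mem_fixedSp.2 (hw.fix _ _ _ _ _ _ _ _ h1 h1' hA v hv)
    · exact mem_fixedSp.2 (hw.fix _ _ _ _ _ _ _ _ h1 h1'.rot hA1 v hv)
    · exact mem_fixedSp.2 (hw.fix _ _ _ _ _ _ _ _ h1.rot h1' ⟨ha, hc, hd, hb⟩ v hv)
    · exact mem_fixedSp.2 (hw.fix _ _ _ _ _ _ _ _ h1.rot h1'.rot
        ⟨hA1.1, hA1.2.2.1, hA1.2.2.2, hA1.2.1⟩ v hv)
  have hNeq : ∀ a b c d e f g h, D4 a b c d → D4 e f g h → Apart a b c d e f g h →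
      N a b c d = F e f g h := by
    intro a b c d e f g h h1 h1' hA
    refine le_antisymm (hNP _ _ _ _ _ _ _ _ h1 h1' hA) fun v hv => ?_
    have hint : N a b c d ⊓ N e f g h = ⊥ := by
      rw [eq_bot_iff, ← hNF e f g h h1']
      exact le_inf inf_le_right (inf_le_left.trans (hNP _ _ _ _ _ _ _ _ h1 h1' hA))
    have h3 := Submodule.finrank_sup_add_finrank_inf_eq (N a b c d) (N e f g h)
    rw [hint, finrank_bot] at h3
    have htop : N a b c d ⊔ N e f g h = ⊤ := Submodule.eq_top_of_finrank_eq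
      (le_antisymm (Submodule.finrank_le _) (by
        have := hNdim a b c d h1
        have := hNdim e f g h h1'
        omega))
    obtain ⟨p, hp, q, hq, rfl⟩ := Submodule.mem_sup.1 (htop.ge (Submodule.mem_top (x := v)))
    have hq0 : q ∈ N e f g h ⊓ F e f g h :=
      ⟨hq, (Submodule.add_mem_iff_right _ (hNP _ _ _ _ _ _ _ _ h1 h1' hA hp)).1 hv⟩
    rw [hNF e f g h h1', Submodule.mem_bot] at hq0
    rwa [hq0, add_zero]
  obtain ⟨T9, hT9, -⟩ := exists_outside (S := (∅ : Finset α)) (m := 9) (by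
    have := hs.nine; simpa)
  set q := fun i : Fin 9 => ((Finset.equivFinOfCardEq hT9).symm i : α) with hq
  have hqinj : Function.Injective q := Subtype.val_injective.comp (Equiv.injective _)
  have hne : ∀ i j : Fin 9, i ≠ j → q i ≠ q j := fun i j h => hqinj.ne h
  have hD : ∀ a b c d : Fin 9, D4 a b c d → D4 (q a) (q b) (q c) (q d) :=
    fun a b c d h => h.map hqinj
  have hAp : ∀ a b c d e f g h : Fin 9, Apart a b c d e f g h →
      Apart (q a) (q b) (q c) (q d) (q e) (q f) (q g) (q h) := fun a b c d e f g h H =>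
    ⟨⟨hne _ _ H.1.1, hne _ _ H.1.2.1, hne _ _ H.1.2.2.1, hne _ _ H.1.2.2.2⟩,
      ⟨hne _ _ H.2.1.1, hne _ _ H.2.1.2.1, hne _ _ H.2.1.2.2.1, hne _ _ H.2.1.2.2.2⟩,
      ⟨hne _ _ H.2.2.1.1, hne _ _ H.2.2.1.2.1, hne _ _ H.2.2.1.2.2.1, hne _ _ H.2.2.1.2.2.2⟩,
      ⟨hne _ _ H.2.2.2.1, hne _ _ H.2.2.2.2.1, hne _ _ H.2.2.2.2.2.1, hne _ _ H.2.2.2.2.2.2⟩⟩
  have step : ∀ a b c d a' b' c' d' e f g h : Fin 9, D4 a b c d → D4 a' b' c' d' → D4 e f g h →
      Apart a b c d e f g h → Apart a' b' c' d' e f g h →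
      N (q a) (q b) (q c) (q d) = N (q a') (q b') (q c') (q d') :=
    fun a b c d a' b' c' d' e f g h h1 h1' h4 hA hA' =>
      (hNeq _ _ _ _ _ _ _ _ (hD _ _ _ _ h1) (hD _ _ _ _ h4) (hAp _ _ _ _ _ _ _ _ hA)).trans
        (hNeq _ _ _ _ _ _ _ _ (hD _ _ _ _ h1') (hD _ _ _ _ h4) (hAp _ _ _ _ _ _ _ _ hA')).symm
  have hdec := quad_chain
  obtain ⟨d1, d2, d3, d4, d5, e1, e2, e3, e4, A1, A2, A3, A4, A5, A6, A7, A8, A0⟩ := hdec
  have hEq : N (q 0) (q 1) (q 2) (q 3) = N (q 4) (q 5) (q 6) (q 7) :=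
    ((step _ _ _ _ _ _ _ _ _ _ _ _ d1 d2 e1 A1 A2).trans
      (step _ _ _ _ _ _ _ _ _ _ _ _ d2 d3 e2 A3 A4)).trans
      ((step _ _ _ _ _ _ _ _ _ _ _ _ d3 d4 e3 A5 A6).trans
        (step _ _ _ _ _ _ _ _ _ _ _ _ d4 d5 e4 A7 A8))
  have h4 : N (q 4) (q 5) (q 6) (q 7) ⊓ F (q 4) (q 5) (q 6) (q 7) = ⊥ :=
    hNF _ _ _ _ (hD _ _ _ _ d5)
  rw [← hNeq _ _ _ _ _ _ _ _ (hD _ _ _ _ d1) (hD _ _ _ _ d5) (hAp _ _ _ _ _ _ _ _ A0), hEq,
    inf_idem] at h4
  have := hNdim _ _ _ _ (hD _ _ _ _ d5)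
  rw [h4, finrank_bot] at this
  omega

theorem Uq_unique {a b c d a' b' c' d' : α} (h : D4 a b c d) (h' : D4 a' b' c' d')
    (heq : dt a b c d = dt a' b' c' d') : Uq π a b c d = Uq π a' b' c' d' := by
  have hn := hs.low4_seven hl h2 hw
  set A := Uq π a b c d with hA
  set B := Uq π a' b' c' d' with hB
  have hAA : A * A = 1 := hs.Uq_sq hl h
  have hBB : B * B = 1 := hs.Uq_sq hl h'
  have hz : π (A * B) = 1 := by
    rw [map_mul, hA, hB, hs.map_Uq h, hs.map_Uq h', heq, dt_sq h']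
  obtain ⟨s, hs'⟩ := hs.scal _ hz
  have hBA : B = A * (A * B) := by rw [← mul_assoc, hAA, one_mul]
  have hss : s * s = 1 := by
    haveI : Nontrivial V := Module.nontrivial_of_finrank_pos (R := k) (by omega)
    have h1 : (A * B) * (A * B) = 1 := by
      have hc : Commute (A * B) A := hs.central _ hz A
      calc (A * B) * (A * B) = ((A * B) * A) * B := by group
        _ = (A * (A * B)) * B := by rw [hc.eq]
        _ = 1 := by rw [← hBA, hBB]
    have e := congrArg ρ h1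
    rw [map_mul ρ (A * B), map_one, hs', smul_mul_smul_comm, mul_one] at e
    exact scalar_inj (e.trans (one_smul k _).symm)
  rcases mul_self_eq_one_iff.1 hss with rfl | rfl
  · rw [one_smul, ← map_one ρ] at hs'
    rw [hBA, hs.inj hs', mul_one]
  · exfalso
    have hneg : fixedSp ρ A ≤ negSp ρ B := fun v hv => by
      rw [mem_negSp, hBA, rho_mul, hs', LinearMap.smul_apply, Module.End.one_apply, neg_one_smul,
        map_neg, mem_fixedSp.1 hv]
    have h1 := Submodule.finrank_mono hneg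
    rw [hB, hw.two _ _ _ _ h'] at h1
    have h3 := le_negSp_add_fixed (ρ := ρ) h2 hAA
    rw [hA, hw.two _ _ _ _ h, ← hA] at h3
    omega

theorem Uq_triangle {a b c d e f : α} (h : D4 a b c d) (he : D4 a b e f) (hcd : D4 c d e f) :
    Commute (Uq π a b c d) (Uq π a b e f) ∧
      Uq π a b c d * Uq π a b e f = Uq π c d e f := by
  have hn := hs.low4_seven hl h2 hw
  set A := Uq π a b c d with hA
  set B := Uq π a b e f with hB
  set C := Uq π c d e f with hC
  have hAA : A * A = 1 := hs.Uq_sq hl h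
  have hBB : B * B = 1 := hs.Uq_sq hl he
  have hCC : C * C = 1 := hs.Uq_sq hl hcd
  have hBi : B⁻¹ = B := inv_eq_of_mul_eq_one_right hBB
  have hcomm : Commute A B := by
    have h1 : B * A * B⁻¹ = A := by
      have hb : π B = dt a b e f := hs.map_Uq he
      rw [hA, hs.conj_Uq h, hb, dt_apply_fst he, dt_apply_snd he,
        dt_apply_other h.2.1.symm h.2.2.2.1.symm hcd.2.1 hcd.2.2.1,
        dt_apply_other h.2.2.1.symm h.2.2.2.2.1.symm hcd.2.2.2.1 hcd.2.2.2.2.1]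
      exact hs.Uq_unique hl h2 hw h.swap12 h (dt_swap12 h)
    exact (mul_inv_eq_iff_eq_mul.1 h1).symm
  refine ⟨hcomm, ?_⟩
  have hz : π (A * B * C) = 1 := by
    rw [map_mul, map_mul, hA, hB, hC, hs.map_Uq h, hs.map_Uq he, hs.map_Uq hcd,
      dt_mul_dt h he hcd, dt_sq hcd]
  obtain ⟨s, hs'⟩ := hs.scal _ hz
  have hab : (A * B) * (A * B) = 1 := by
    calc (A * B) * (A * B) = A * (B * A) * B := by group
      _ = A * (A * B) * B := by rw [hcomm.eq]
      _ = (A * A) * (B * B) := by group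
      _ = 1 := by rw [hAA, hBB, one_mul]
  have hABC : A * B = (A * B * C) * C := by rw [mul_assoc, hCC, mul_one]
  have hss : s * s = 1 := by
    haveI : Nontrivial V := Module.nontrivial_of_finrank_pos (R := k) (by omega)
    have h1 : (A * B * C) * (A * B * C) = 1 := by
      have hc := hs.central _ hz C
      calc (A * B * C) * (A * B * C) = (A * B * C) * ((A * B * C) * (C * C)) := by
            rw [hCC, mul_one]
        _ = (A * B * C) * (((A * B * C) * C) * C) := by group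
        _ = (A * B * C) * (C * ((A * B * C) * C)) := by
            conv_lhs => rw [hc.eq]
            group
        _ = ((A * B * C) * C) * ((A * B * C) * C) := by group
        _ = 1 := by rw [← hABC, hab]
    have e := congrArg ρ h1
    rw [map_mul ρ (A * B * C), map_one, hs', smul_mul_smul_comm, mul_one] at e
    exact scalar_inj (e.trans (one_smul k _).symm)
  rcases mul_self_eq_one_iff.1 hss with rfl | rfl
  · rw [one_smul, ← map_one ρ] at hs'
    rw [hABC, hs.inj hs', one_mul]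
  · exfalso
    have hle : fixedSp ρ C ≤ negSp ρ A ⊔ negSp ρ B := by
      intro v hv
      have e1 : ρ A (ρ B v) = -v := by
        rw [← rho_mul, hABC, rho_mul, mem_fixedSp.1 hv, hs', LinearMap.smul_apply,
          Module.End.one_apply, neg_one_smul]
      have eA : ∀ w, ρ A (ρ A w) = w := fun w => by rw [← rho_mul, hAA, map_one]; rfl
      have eB : ρ B v = -ρ A v := by
        have := congrArg (ρ A) e1
        rwa [eA, map_neg] at this
      have m1 : v - ρ A v ∈ negSp ρ A := mem_negSp.2 (by rw [map_sub, eA, neg_sub])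
      have m2 : v + ρ A v ∈ negSp ρ B := by
        rw [mem_negSp, map_add, eB, ← rho_mul, ← hcomm.eq, rho_mul, eB, map_neg, eA]; abel
      have e3 : v = (2 : k)⁻¹ • ((v - ρ A v) + (v + ρ A v)) := by
        rw [show (v - ρ A v) + (v + ρ A v) = (2 : k) • v by rw [two_smul]; abel, smul_smul,
          inv_mul_cancel₀ h2, one_smul]
      rw [e3]
      exact Submodule.smul_mem _ _
        (add_mem (Submodule.mem_sup_left m1) (Submodule.mem_sup_right m2))
    have h1 := Submodule.finrank_mono hle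
    have h3 := Submodule.finrank_add_le_finrank_add_finrank (negSp ρ A) (negSp ρ B)
    rw [hA, hB, hw.two _ _ _ _ h, hw.two _ _ _ _ he] at h3
    have h4 := le_negSp_add_fixed (ρ := ρ) h2 hCC
    rw [hC, hw.two _ _ _ _ hcd, ← hC] at h4
    rw [← hA, ← hB] at h3
    omega

theorem Uq_swap_pairs {a b c d : α} (h : D4 a b c d) : Uq π c d a b = Uq π a b c d :=
  hs.Uq_unique hl h2 hw h.pairs h (dt_pairs h)

theorem tri_spaces {a b c d e f : α} (h : D4 a b c d) (he : D4 a b e f) (hcd : D4 c d e f) :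
    finrank k (negSp ρ (Uq π a b c d) ⊓ negSp ρ (Uq π a b e f) : Submodule k V) = 1 ∧
      negSp ρ (Uq π a b c d) ⊓ negSp ρ (Uq π a b e f) ≤ fixedSp ρ (Uq π c d e f) ∧
      negSp ρ (Uq π a b c d) ⊓ fixedSp ρ (Uq π a b e f) ≤ negSp ρ (Uq π c d e f) := by
  obtain ⟨hcomm, hC⟩ := hs.Uq_triangle hl h2 hw h he hcd
  set A := Uq π a b c d with hA
  set B := Uq π a b e f with hB
  set C := Uq π c d e f with hC'
  have hAA : A * A = 1 := hs.Uq_sq hl h
  have hBB : B * B = 1 := hs.Uq_sq hl he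
  have eB : ∀ v, ρ B (ρ B v) = v := fun v => by rw [← rho_mul, hBB, map_one]; rfl
  have h1 : negSp ρ A ⊓ negSp ρ B ≤ fixedSp ρ C := fun v hv => mem_fixedSp.2 (by
    rw [← hC, rho_mul, mem_negSp.1 hv.2, map_neg, mem_negSp.1 hv.1, neg_neg])
  have h3 : negSp ρ A ⊓ fixedSp ρ B ≤ negSp ρ C := fun v hv => mem_negSp.2 (by
    rw [← hC, rho_mul, mem_fixedSp.1 hv.2, mem_negSp.1 hv.1])
  refine ⟨?_, h1, h3⟩
  have hpos : negSp ρ A ⊓ negSp ρ B ≠ ⊥ := by
    intro h0
    have hleA : negSp ρ A ≤ fixedSp ρ B := fun v hv => by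
      have h4 : v - ρ B v ∈ negSp ρ A ⊓ negSp ρ B := by
        refine ⟨mem_negSp.2 ?_, mem_negSp.2 (by rw [map_sub, eB, neg_sub])⟩
        rw [map_sub, mem_negSp.1 hv, ← rho_mul, hcomm.eq, rho_mul, mem_negSp.1 hv, map_neg]
        abel
      rw [h0, Submodule.mem_bot, sub_eq_zero] at h4
      exact mem_fixedSp.2 h4.symm
    have hleB : negSp ρ B ≤ negSp ρ C := fun v hv => by
      have h4 : v - ρ A v ∈ negSp ρ A ⊓ negSp ρ B := by
        refine ⟨mem_negSp.2 ?_, mem_negSp.2 ?_⟩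
        · rw [map_sub, ← rho_mul, hAA, map_one, Module.End.one_apply, neg_sub]
        · rw [map_sub, mem_negSp.1 hv, ← rho_mul, ← hcomm.eq, rho_mul, mem_negSp.1 hv, map_neg]
          abel
      rw [h0, Submodule.mem_bot, sub_eq_zero] at h4
      rw [mem_negSp, ← hC, rho_mul, mem_negSp.1 hv, map_neg, ← h4]
    have hle : negSp ρ A ⊔ negSp ρ B ≤ negSp ρ C :=
      sup_le ((le_inf le_rfl hleA).trans h3) hleB
    have h5 := Submodule.finrank_mono hle
    have h6 := Submodule.finrank_sup_add_finrank_inf_eq (negSp ρ A) (negSp ρ B)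
    have t1 : finrank k (negSp ρ A) = 2 := hw.two _ _ _ _ h
    have t2 : finrank k (negSp ρ B) = 2 := hw.two _ _ _ _ he
    have t3 : finrank k (negSp ρ C) = 2 := hw.two _ _ _ _ hcd
    rw [h0, finrank_bot] at h6
    omega
  have h7 : 0 < finrank k (negSp ρ A ⊓ negSp ρ B : Submodule k V) := by
    haveI := Submodule.nontrivial_iff_ne_bot.2 hpos
    exact Module.finrank_pos
  by_contra hne
  have t1 : finrank k (negSp ρ A) = 2 := hw.two _ _ _ _ h
  have t2 : finrank k (negSp ρ B) = 2 := hw.two _ _ _ _ he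
  have e1 := Submodule.eq_of_le_of_finrank_le
    (inf_le_left : negSp ρ A ⊓ negSp ρ B ≤ negSp ρ A) (by omega)
  have e2 := Submodule.eq_of_le_of_finrank_le
    (inf_le_right : negSp ρ A ⊓ negSp ρ B ≤ negSp ρ B) (by omega)
  have hXA : negSp ρ A = negSp ρ B := e1.symm.trans e2
  have hAC : negSp ρ A ≤ fixedSp ρ C := e1.ge.trans h1
  have hCle : negSp ρ C ≤ negSp ρ A := by
    intro v hv
    have eC : ρ A (ρ B v) = -v := by rw [← rho_mul, hC, mem_negSp.1 hv]
    have eA : ∀ w, ρ A (ρ A w) = w := fun w => by rw [← rho_mul, hAA, map_one]; rfl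
    have eBv : ρ B v = -ρ A v := by
      have := congrArg (ρ A) eC
      rwa [eA, map_neg] at this
    have m1 : v - ρ A v ∈ negSp ρ A := mem_negSp.2 (by rw [map_sub, eA, neg_sub])
    have m2 : v + ρ A v ∈ negSp ρ B := by
      rw [mem_negSp, map_add, eBv, ← rho_mul, ← hcomm.eq, rho_mul, eBv, map_neg, eA]; abel
    rw [← hXA] at m2
    have h8 := add_mem m1 m2
    rw [show (v - ρ A v) + (v + ρ A v) = (2 : k) • v by rw [two_smul]; abel] at h8
    have h9 := Submodule.smul_mem _ (2 : k)⁻¹ h8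
    rwa [smul_smul, inv_mul_cancel₀ h2, one_smul] at h9
  have h10 := hs.negSp_inf_fixed hl h2 (g := C)
  have h11 : negSp ρ C ≤ ⊥ := h10 ▸ le_inf le_rfl (hCle.trans hAC)
  have h12 := Submodule.finrank_mono h11
  have t3 : finrank k (negSp ρ C) = 2 := hw.two _ _ _ _ hcd
  rw [finrank_bot, t3] at h12
  omega

theorem quad_common {a b c d e f g h : α} (h1 : D4 a b c d) (h2' : D4 a b e f) (h3 : D4 a b g h)
    (h12 : D4 c d e f) (h13 : D4 c d g h) (h23 : D4 e f g h) :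
    negSp ρ (Uq π a b c d) ⊓ negSp ρ (Uq π a b e f) ≤ negSp ρ (Uq π a b g h) := by
  set A1 := Uq π a b c d with hA1
  set A2 := Uq π a b e f with hA2
  set A3 := Uq π a b g h with hA3
  obtain ⟨i12, -, f12⟩ := hs.tri_spaces hl h2 hw h1 h2' h12
  obtain ⟨i13, -, -⟩ := hs.tri_spaces hl h2 hw h1 h3 h13
  obtain ⟨i23, -, -⟩ := hs.tri_spaces hl h2 hw h2' h3 h23
  obtain ⟨-, -, f21⟩ := hs.tri_spaces hl h2 hw h2' h1 h12.pairs
  rw [hs.Uq_swap_pairs hl h2 hw h12] at f21
  rw [← hA1, ← hA2] at i12 f12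
  rw [← hA2, ← hA1] at f21
  rw [← hA1, ← hA3] at i13
  rw [← hA2, ← hA3] at i23
  have eA2 : ∀ v, ρ A2 (ρ A2 v) = v := fun v => by
    rw [← rho_mul, hA2, hs.Uq_sq hl h2', map_one]; rfl
  have eA1 : ∀ v, ρ A1 (ρ A1 v) = v := fun v => by
    rw [← rho_mul, hA1, hs.Uq_sq hl h1, map_one]; rfl
  have c12 : Commute A1 A2 := (hs.Uq_triangle hl h2 hw h1 h2' h12).1
  have c13 : Commute A1 A3 := (hs.Uq_triangle hl h2 hw h1 h3 h13).1
  have c23 : Commute A2 A3 := (hs.Uq_triangle hl h2 hw h2' h3 h23).1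
  by_contra hnot
  -- each line of the third plane is fixed by the other involution
  have key : ∀ X Y : G, (∀ v, ρ Y (ρ Y v) = v) → Commute X Y → Commute Y A3 →
      finrank k (negSp ρ X ⊓ negSp ρ Y : Submodule k V) = 1 →
      finrank k (negSp ρ X ⊓ negSp ρ A3 : Submodule k V) = 1 →
      ¬ negSp ρ X ⊓ negSp ρ Y ≤ negSp ρ A3 →
      negSp ρ X ⊓ negSp ρ A3 ≤ fixedSp ρ Y := by
    intro X Y hY hXY hY3 hl1 hl2 hn v hv
    have hm : v - ρ Y v ∈ (negSp ρ X ⊓ negSp ρ Y) ⊓ negSp ρ A3 := by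
      refine ⟨⟨mem_negSp.2 ?_, mem_negSp.2 (by rw [map_sub, hY, neg_sub])⟩, mem_negSp.2 ?_⟩
      · rw [map_sub, mem_negSp.1 hv.1, ← rho_mul, hXY.eq, rho_mul, mem_negSp.1 hv.1, map_neg]
        abel
      · rw [map_sub, mem_negSp.1 hv.2, ← rho_mul, ← hY3.eq, rho_mul, mem_negSp.1 hv.2, map_neg]
        abel
    have h0 : (negSp ρ X ⊓ negSp ρ Y) ⊓ negSp ρ A3 = ⊥ := by
      by_contra hne
      have hp : 0 < finrank k ((negSp ρ X ⊓ negSp ρ Y) ⊓ negSp ρ A3 : Submodule k V) := by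
        haveI := Submodule.nontrivial_iff_ne_bot.2 hne
        exact Module.finrank_pos
      have e := Submodule.eq_of_le_of_finrank_le
        (inf_le_left : (negSp ρ X ⊓ negSp ρ Y) ⊓ negSp ρ A3 ≤ _) (by omega)
      exact hn (e.ge.trans inf_le_right)
    rw [h0, Submodule.mem_bot, sub_eq_zero] at hm
    exact mem_fixedSp.2 hm.symm
  have k1 := key A1 A2 eA2 c12 c23 i12 i13 hnot
  have k2 := key A2 A1 eA1 c12.symm c13 (by rw [inf_comm]; exact i12) i23
    (by rwa [inf_comm])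
  have hd : negSp ρ A1 ⊓ negSp ρ A3 ≠ negSp ρ A2 ⊓ negSp ρ A3 := by
    intro heq
    have h4 : negSp ρ A1 ⊓ negSp ρ A3 ≤ negSp ρ A2 ⊓ fixedSp ρ A2 :=
      le_inf (heq.le.trans inf_le_left) k1
    rw [hs.negSp_inf_fixed hl h2] at h4
    have := Submodule.finrank_mono h4
    rw [finrank_bot, i13] at this
    omega
  set C := Uq π c d e f with hC
  have m1 : negSp ρ A1 ⊓ negSp ρ A3 ≤ negSp ρ C := (le_inf inf_le_left k1).trans f12
  have m2 : negSp ρ A2 ⊓ negSp ρ A3 ≤ negSp ρ C := (le_inf inf_le_left k2).trans f21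
  have hdim : finrank k ((negSp ρ A1 ⊓ negSp ρ A3) ⊔ (negSp ρ A2 ⊓ negSp ρ A3) :
      Submodule k V) = 2 := by
    have e := Submodule.finrank_sup_add_finrank_inf_eq (negSp ρ A1 ⊓ negSp ρ A3)
      (negSp ρ A2 ⊓ negSp ρ A3)
    rw [i13, i23] at e
    have h0 : finrank k ((negSp ρ A1 ⊓ negSp ρ A3) ⊓ (negSp ρ A2 ⊓ negSp ρ A3) :
        Submodule k V) = 0 := by
      by_contra hne
      exact hd ((Submodule.eq_of_le_of_finrank_le inf_le_left (by omega)).symm.trans
        (Submodule.eq_of_le_of_finrank_le inf_le_right (by omega)))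
    omega
  have t3 : finrank k (negSp ρ A3) = 2 := hw.two _ _ _ _ h3
  have tC : finrank k (negSp ρ C) = 2 := hw.two _ _ _ _ h12
  have e3 := Submodule.eq_of_le_of_finrank_le
    (sup_le inf_le_right inf_le_right : (negSp ρ A1 ⊓ negSp ρ A3) ⊔ (negSp ρ A2 ⊓ negSp ρ A3) ≤
      negSp ρ A3) (by omega)
  have eC := Submodule.eq_of_le_of_finrank_le (sup_le m1 m2) (by omega)
  have hfix : negSp ρ A3 ≤ fixedSp ρ C := fun v hv => mem_fixedSp.2 (hw.fix a b g h c d e f h3 h12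
    ⟨⟨h1.2.1, h1.2.2.1, h2'.2.1, h2'.2.2.1⟩, ⟨h1.2.2.2.1, h1.2.2.2.2.1, h2'.2.2.2.1, h2'.2.2.2.2.1⟩,
      ⟨h13.2.1.symm, h13.2.2.2.1.symm, h23.2.1.symm, h23.2.2.2.1.symm⟩,
      ⟨h13.2.2.1.symm, h13.2.2.2.2.1.symm, h23.2.2.1.symm, h23.2.2.2.2.1.symm⟩⟩ v hv)
  have h5 : negSp ρ C ≤ negSp ρ C ⊓ fixedSp ρ C :=
    le_inf le_rfl ((eC.symm.trans e3).le.trans hfix)
  rw [hs.negSp_inf_fixed hl h2] at h5
  have := Submodule.finrank_mono h5
  rw [finrank_bot, tC] at this
  omega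

theorem quad_lineData :
    LineData ρ π (fun a b => ⨅ q : {q : α × α // D4 a b q.1 q.2},
      negSp ρ (Uq π a b q.1.1 q.1.2)) := by
  classical
  set L := fun a b => ⨅ q : {q : α × α // D4 a b q.1 q.2}, negSp ρ (Uq π a b q.1.1 q.1.2) with hL
  let X : α → α → α → α → Submodule k V := fun a b c d => negSp ρ (Uq π a b c d)
  have hsx : ∀ a b c d e f, D4 a b c d → D4 a b e f → D4 c d e f →
      finrank k (X a b c d ⊓ X a b e f : Submodule k V) = 1 :=
    fun a b c d e f h he hcd => (hs.tri_spaces hl h2 hw h he hcd).1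
  have step0 : ∀ a b c d e f g h, D4 a b c d → D4 a b e f → D4 a b g h → D4 c d e f →
      D4 c d g h → D4 e f g h → X a b c d ⊓ X a b e f = X a b c d ⊓ X a b g h := by
    intro a b c d e f g h h1 h1' h3 h12 h13 h23
    refine Submodule.eq_of_le_of_finrank_le
      (le_inf inf_le_left (hs.quad_common hl h2 hw h1 h1' h3 h12 h13 h23)) ?_
    rw [hsx _ _ _ _ _ _ h1 h3 h13, hsx _ _ _ _ _ _ h1 h1' h12]
  have hpair : ∀ (S : Finset α), S.card + 2 ≤ Fintype.card α → ∃ x y, x ≠ y ∧ x ∉ S ∧ y ∉ S :=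
    fun S h => exists_two_outside h
  have step : ∀ a b c d e f g h, D4 a b c d → D4 a b e f → D4 a b g h → D4 c d e f →
      D4 c d g h → X a b c d ⊓ X a b e f = X a b c d ⊓ X a b g h := by
    intro a b c d e f g h h1 h1' h3 h12 h13
    by_cases hov : D4 e f g h
    · exact step0 _ _ _ _ _ _ _ _ h1 h1' h3 h12 h13 hov
    obtain ⟨x, y, hxy, hx, hy⟩ := hpair ({a, b, c, d, e, f, g, h} : Finset α) (by
      have hcard : ({a, b, c, d, e, f, g, h} : Finset α).card ≤ 7 := by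
        by_contra hgt
        refine hov ?_
        have hall : ∀ s : List α, s.toFinset.card = s.length → s.Nodup := fun s hs' =>
          (Multiset.toFinset_card_eq_card_iff_nodup (m := (s : Multiset α))).1 hs'
        have hnd : [a, b, c, d, e, f, g, h].Nodup := by
          refine hall _ ?_
          have hle := List.toFinset_card_le [a, b, c, d, e, f, g, h]
          have heq : [a, b, c, d, e, f, g, h].toFinset = ({a, b, c, d, e, f, g, h} : Finset α) := by
            simp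
          rw [heq] at hle ⊢
          simp only [List.length_cons, List.length_nil] at hle ⊢
          omega
        simp only [List.nodup_cons, List.mem_cons, List.not_mem_nil, or_false, not_or] at hnd
        obtain ⟨-, -, -, -, ⟨ef, eg, eh⟩, ⟨fg, fh⟩, gh, -⟩ := hnd
        exact ⟨ef, eg, eh, fg, fh, gh⟩
      have := hs.nine
      omega)
    simp only [Finset.mem_insert, Finset.mem_singleton, not_or] at hx hy
    obtain ⟨xa, xb, xc, xd, xe, xf, xg, xh⟩ := hx
    obtain ⟨ya, yb, yc, yd, ye, yf, yg, yh⟩ := hy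
    have hab : a ≠ b := h1.1
    have hcd : c ≠ d := h1.2.2.2.2.2
    have hxyab : D4 a b x y :=
      ⟨hab, Ne.symm xa, Ne.symm ya, Ne.symm xb, Ne.symm yb, hxy⟩
    have hxycd : D4 c d x y :=
      ⟨hcd, Ne.symm xc, Ne.symm yc, Ne.symm xd, Ne.symm yd, hxy⟩
    rw [step0 _ _ _ _ _ _ _ _ h1 h1' hxyab h12 hxycd
        ⟨h1'.2.2.2.2.2, Ne.symm xe, Ne.symm ye, Ne.symm xf, Ne.symm yf, hxy⟩,
      step0 _ _ _ _ _ _ _ _ h1 h3 hxyab h13 hxycd
        ⟨h3.2.2.2.2.2, Ne.symm xg, Ne.symm yg, Ne.symm xh, Ne.symm yh, hxy⟩]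
  have hLeq : ∀ a b c d e f, D4 a b c d → D4 a b e f → D4 c d e f →
      L a b = X a b c d ⊓ X a b e f := by
    intro a b c d e f h1 h1' h12
    refine le_antisymm (le_inf (iInf_le _ (⟨(c, d), h1⟩ : {q : α × α // D4 a b q.1 q.2}))
      (iInf_le _ (⟨(e, f), h1'⟩ : {q : α × α // D4 a b q.1 q.2}))) (le_iInf ?_)
    rintro ⟨⟨g, h⟩, h3⟩
    show _ ≤ X a b g h
    obtain ⟨x, y, hxy, hx, hy⟩ := hpair ({a, b, c, d, g, h} : Finset α) (by
      have := hs.nine
      have := (Finset.card_le_six (a := a) (b := b) (c := c) (d := d) (e := g) (f := h))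
      omega)
    simp only [Finset.mem_insert, Finset.mem_singleton, not_or] at hx hy
    obtain ⟨xa, xb, xc, xd, xg, xh⟩ := hx
    obtain ⟨ya, yb, yc, yd, yg, yh⟩ := hy
    have hxyab : D4 a b x y :=
      ⟨h1.1, Ne.symm xa, Ne.symm ya, Ne.symm xb, Ne.symm yb, hxy⟩
    have hxycd : D4 c d x y :=
      ⟨h1.2.2.2.2.2, Ne.symm xc, Ne.symm yc, Ne.symm xd, Ne.symm yd, hxy⟩
    rw [step _ _ _ _ _ _ _ _ h1 h1' hxyab h12 hxycd, inf_comm,
      step _ _ _ _ _ _ _ _ hxyab h1 h3 hxycd.pairs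
        ⟨hxy, xg, xh, yg, yh, h3.2.2.2.2.2⟩]
    exact inf_le_right
  have hext : ∀ a b : α, a ≠ b → ∃ c d e f, D4 a b c d ∧ D4 a b e f ∧ D4 c d e f := by
    intro a b hab
    obtain ⟨T4, hT4, hdis⟩ := exists_outside (S := ({a, b} : Finset α)) (m := 4) (by
      have := hs.nine; rw [Finset.card_pair hab]; omega)
    obtain ⟨c, d, e, f, hcd, hce, hcf, hde, hdf, hef, rfl⟩ := Finset.card_eq_four.1 hT4
    simp only [Finset.disjoint_insert_left, Finset.disjoint_singleton_left, Finset.mem_insert,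
      Finset.mem_singleton, not_or] at hdis
    obtain ⟨⟨ca, cb⟩, ⟨da, db⟩, ⟨ea, eb⟩, ⟨fa, fb⟩⟩ := hdis
    exact ⟨c, d, e, f, ⟨hab, Ne.symm ca, Ne.symm da, Ne.symm cb, Ne.symm db, hcd⟩,
      ⟨hab, Ne.symm ea, Ne.symm fa, Ne.symm eb, Ne.symm fb, hef⟩, hcd, hce, hcf, hde, hdf, hef⟩
  have hline : ∀ a b : α, a ≠ b → finrank k (L a b) = 1 := fun a b hab => by
    obtain ⟨c, d, e, f, h1, h1', h12⟩ := hext a b hab
    rw [hLeq _ _ _ _ _ _ h1 h1' h12, hsx _ _ _ _ _ _ h1 h1' h12]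
  have hle : ∀ a b c d, D4 a b c d → L a b ≤ X a b c d := fun a b c d h =>
    iInf_le _ (⟨(c, d), h⟩ : {q : α × α // D4 a b q.1 q.2})
  have hle' : ∀ a b c d, D4 a b c d → L c d ≤ X a b c d := fun a b c d h => by
    show _ ≤ negSp ρ (Uq π a b c d)
    rw [← hs.Uq_swap_pairs hl h2 hw h]
    exact hle c d a b h.pairs
  have hsymm : ∀ a b : α, a ≠ b → L a b = L b a := fun a b hab => by
    obtain ⟨c, d, e, f, h1, h1', h12⟩ := hext a b hab
    rw [hLeq _ _ _ _ _ _ h1 h1' h12, hLeq _ _ _ _ _ _ h1.swap12 h1'.swap12 h12]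
    show negSp ρ _ ⊓ negSp ρ _ = negSp ρ _ ⊓ negSp ρ _
    rw [hs.Uq_unique hl h2 hw h1.swap12 h1 (dt_swap12 h1),
      hs.Uq_unique hl h2 hw h1'.swap12 h1' (dt_swap12 h1')]
  have hequiv : ∀ g (a b : α), a ≠ b → (L a b).map (ρ g) = L (π g a) (π g b) := fun g a b hab => by
    obtain ⟨c, d, e, f, h1, h1', h12⟩ := hext a b hab
    rw [hLeq _ _ _ _ _ _ h1 h1' h12,
      hLeq _ _ _ _ _ _ (h1.map (π g).injective) (h1'.map (π g).injective) (h12.map (π g).injective),
      Submodule.map_inf _ (rho_injective ρ g)]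
    show (negSp ρ _).map _ ⊓ (negSp ρ _).map _ = _
    rw [map_negSp, map_negSp, hs.conj_Uq h1, hs.conj_Uq h1']
  -- lines of disjoint pairs differ
  have hdiff : ∀ a b c d, D4 a b c d → L a b ≠ L c d := by
    intro a b c d h heq
    obtain ⟨e, f, hef, he, hf⟩ := hpair ({a, b, c, d} : Finset α) (by
      have := hs.nine
      have := (Finset.card_le_four (a := a) (b := b) (c := c) (d := d))
      omega)
    simp only [Finset.mem_insert, Finset.mem_singleton, not_or] at he hf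
    obtain ⟨ea, eb, ec, ed⟩ := he
    obtain ⟨fa, fb, fc, fd⟩ := hf
    have h1' : D4 a b e f := ⟨h.1, Ne.symm ea, Ne.symm fa, Ne.symm eb, Ne.symm fb, hef⟩
    have h12 : D4 c d e f := ⟨h.2.2.2.2.2, Ne.symm ec, Ne.symm fc, Ne.symm ed, Ne.symm fd, hef⟩
    have h4 : L a b ≤ negSp ρ (Uq π c d e f) ⊓ fixedSp ρ (Uq π c d e f) := by
      refine le_inf (heq ▸ hle c d e f h12) ?_
      rw [hLeq _ _ _ _ _ _ h h1' h12]
      exact (hs.tri_spaces hl h2 hw h h1' h12).2.1
    rw [hs.negSp_inf_fixed hl h2] at h4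
    have := Submodule.finrank_mono h4
    rw [finrank_bot, hline a b h.1] at this
    omega
  have hne : ∀ a b c, D3 a b c → L a b ≠ L a c := by
    intro a b c h heq
    have hall : ∀ a' b' c', D3 a' b' c' → L a' b' = L a' c' := fun a' b' c' h' => by
      obtain ⟨g, ga, gb, gc⟩ := hs.exists_map_three h h'
      have h1 := congrArg (Submodule.map (ρ g)) heq
      rwa [hequiv g a b h.1, hequiv g a c h.2.1, ga, gb, gc] at h1
    obtain ⟨d, e, hde, hd, he⟩ := hpair ({a, b, c} : Finset α) (by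
      have := hs.nine
      have := (Finset.card_le_three (a := a) (b := b) (c := c))
      omega)
    simp only [Finset.mem_insert, Finset.mem_singleton, not_or] at hd he
    obtain ⟨da, db, dc⟩ := hd
    obtain ⟨ea, eb, ec⟩ := he
    refine hdiff a b d e ⟨h.1, Ne.symm da, Ne.symm ea, Ne.symm db, Ne.symm eb, hde⟩ ?_
    rw [hall a b d ⟨h.1, Ne.symm da, Ne.symm db⟩, hsymm a d (Ne.symm da),
      hall d a e ⟨da, hde, Ne.symm ea⟩]
  refine ⟨hline, hsymm, hequiv, fun a b c hD => ?_, hne⟩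
  obtain ⟨T6, hT6, hdis⟩ := exists_outside (S := ({a, b, c} : Finset α)) (m := 6) (by
    have := hs.nine
    have := (Finset.card_le_three (a := a) (b := b) (c := c))
    omega)
  set q := fun i : Fin 6 => ((Finset.equivFinOfCardEq hT6).symm i : α) with hq
  have hqinj : Function.Injective q := Subtype.val_injective.comp (Equiv.injective _)
  have hqabc : ∀ i, q i ≠ a ∧ q i ≠ b ∧ q i ≠ c := fun i => by
    have h1 := Finset.disjoint_left.1 hdis ((Finset.equivFinOfCardEq hT6).symm i).2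
    simp only [Finset.mem_insert, Finset.mem_singleton, not_or] at h1
    exact h1
  have qn : ∀ i j : Fin 6, i ≠ j → q i ≠ q j := fun i j h => hqinj.ne h
  set d := q 0 with hd
  set e := q 1 with he
  set f := q 2 with hf
  set g := q 3 with hg
  set i := q 4 with hi
  set j := q 5 with hj
  have hde : d ≠ e := qn _ _ (by decide)
  have hfg : f ≠ g := qn _ _ (by decide)
  obtain ⟨hab, hac, hbc⟩ := hD
  have Dabde : D4 a b d e := ⟨hab, (hqabc 0).1.symm, (hqabc 1).1.symm, (hqabc 0).2.1.symm,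
    (hqabc 1).2.1.symm, hde⟩
  have Dbcde : D4 b c d e := ⟨hbc, (hqabc 0).2.1.symm, (hqabc 1).2.1.symm, (hqabc 0).2.2.symm,
    (hqabc 1).2.2.symm, hde⟩
  -- the third line lies in the span of two lines and any disjoint one
  have hY : ∀ x y : α, (hx : D4 a b x y) → (hy : D4 b c x y) → x ≠ a → y ≠ a →
      L a c ≤ L a b ⊔ L b c ⊔ L x y := by
    intro x y hx hy xa ya v hv
    set U := Uq π b c x y with hU
    have hUv : π U = dt b c x y := hs.map_Uq hy
    have hUi : π U a = a ∧ π U b = c := by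
      rw [hUv]
      exact ⟨dt_apply_other hab hac (Ne.symm xa) (Ne.symm ya), dt_apply_fst hy⟩
    have h1 : L a c = (L a b).map (ρ U) := by rw [hequiv U a b hab, hUi.1, hUi.2]
    rw [h1] at hv
    obtain ⟨w, hw', rfl⟩ := hv
    have hUU : ∀ u, ρ U (ρ U u) = u := fun u => by
      rw [← rho_mul, hU, hs.Uq_sq hl hy, map_one]; rfl
    have h3 : negSp ρ U ≤ L b c ⊔ L x y := by
      have hlxy : finrank k (L x y) = 1 := hline x y hx.2.2.2.2.2
      have hsum : finrank k (L b c ⊔ L x y : Submodule k V) = 2 := by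
        have e := Submodule.finrank_sup_add_finrank_inf_eq (L b c) (L x y)
        rw [hline b c hbc, hlxy] at e
        have h0 : finrank k (L b c ⊓ L x y : Submodule k V) = 0 := by
          by_contra hne'
          exact hdiff b c x y hy ((Submodule.eq_of_le_of_finrank_le
            (inf_le_left : L b c ⊓ L x y ≤ _) (by rw [hline b c hbc]; omega)).symm.trans
            (Submodule.eq_of_le_of_finrank_le inf_le_right (by omega)))
        omega
      have t : finrank k (negSp ρ U) = 2 := hw.two _ _ _ _ hy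
      exact (Submodule.eq_of_le_of_finrank_le (sup_le (hle b c x y hy) (hle' b c x y hy))
        (show finrank k (negSp ρ U) ≤ _ by omega)).ge
    have h4 : w - ρ U w ∈ L b c ⊔ L x y :=
      h3 (mem_negSp.2 (by rw [map_sub, hUU, neg_sub]))
    rw [show ρ U w = w - (w - ρ U w) by abel, sup_assoc]
    exact sub_mem (Submodule.mem_sup_left hw') (Submodule.mem_sup_right h4)
  have hY1 := hY d e Dabde Dbcde (hqabc 0).1 (hqabc 1).1
  have hY2 := hY f g
    ⟨hab, (hqabc 2).1.symm, (hqabc 3).1.symm, (hqabc 2).2.1.symm, (hqabc 3).2.1.symm, hfg⟩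
    ⟨hbc, (hqabc 2).2.1.symm, (hqabc 3).2.1.symm, (hqabc 2).2.2.symm, (hqabc 3).2.2.symm, hfg⟩
    (hqabc 2).1 (hqabc 3).1
  -- the involution on the second pair fixes the first span
  set W := Uq π f g i j with hW
  have Dfgij : D4 f g i j := ⟨hfg, qn _ _ (by decide), qn _ _ (by decide), qn _ _ (by decide),
    qn _ _ (by decide), qn _ _ (by decide)⟩
  have hfixW : ∀ x y z w, D4 x y z w → Apart x y z w f g i j →
      negSp ρ (Uq π x y z w) ≤ fixedSp ρ W := fun x y z w h hA v hv =>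
    mem_fixedSp.2 (hw.fix x y z w f g i j h Dfgij hA v hv)
  have qa : ∀ l, q l ≠ a := fun l => (hqabc l).1
  have qb : ∀ l, q l ≠ b := fun l => (hqabc l).2.1
  have qc : ∀ l, q l ≠ c := fun l => (hqabc l).2.2
  have hde4 : ∀ l : Fin 6, 2 ≤ l.val → d ≠ q l ∧ e ≠ q l := fun l hl' =>
    ⟨qn _ _ (fun h => by rw [← h] at hl'; simp at hl'),
      qn _ _ (fun h => by rw [← h] at hl'; simp at hl')⟩
  have hA1 : Apart a b d e f g i j :=
    ⟨⟨(qa 2).symm, (qa 3).symm, (qa 4).symm, (qa 5).symm⟩,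
      ⟨(qb 2).symm, (qb 3).symm, (qb 4).symm, (qb 5).symm⟩,
      ⟨(hde4 2 (by decide)).1, (hde4 3 (by decide)).1, (hde4 4 (by decide)).1,
        (hde4 5 (by decide)).1⟩,
      ⟨(hde4 2 (by decide)).2, (hde4 3 (by decide)).2, (hde4 4 (by decide)).2,
        (hde4 5 (by decide)).2⟩⟩
  have hA2 : Apart b c d e f g i j :=
    ⟨hA1.2.1, ⟨(qc 2).symm, (qc 3).symm, (qc 4).symm, (qc 5).symm⟩, hA1.2.2.1, hA1.2.2.2⟩
  have hYfix : L a b ⊔ L b c ⊔ L d e ≤ fixedSp ρ W :=
    sup_le (sup_le ((hle a b d e Dabde).trans (hfixW _ _ _ _ Dabde hA1))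
      ((hle b c d e Dbcde).trans (hfixW _ _ _ _ Dbcde hA2)))
      ((hle' a b d e Dabde).trans (hfixW _ _ _ _ Dabde hA1))
  intro v hv
  obtain ⟨p, hp, z, hz, hpz⟩ := Submodule.mem_sup.1 (hY2 hv)
  have hzfix : z ∈ fixedSp ρ W := by
    rw [show z = v - p by rw [← hpz]; abel]
    exact sub_mem (hYfix (hY1 hv)) (hYfix (Submodule.mem_sup_left hp))
  have hzneg : z ∈ negSp ρ W := hle f g i j Dfgij hz
  have h0 : z ∈ negSp ρ W ⊓ fixedSp ρ W := ⟨hzneg, hzfix⟩
  rw [hs.negSp_inf_fixed hl h2, Submodule.mem_bot] at h0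
  rw [h0, add_zero] at hpz
  rwa [← hpz]

end Setup

end CfsgLib.AltSection
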