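import Cfsg.Agent.Lib.AltSection.Spin

/-!
Induction step for spin representations: a five-cycle and the alternating group on the rest.
-/

set_option autoImplicit false

namespace CfsgLib.AltSection

open Equiv Module
open scoped commutatorElement

variable {k : Type} [Field k] [IsAlgClosed k] {V : Type} [AddCommGroup V] [Module k V]
  [FiniteDimensional k V] [Nontrivial V] {G : Type} [Group G] [Finite G] {r : ℕ}
  {ρ : Representation k G V} {π : G →* Perm (Fin r)}

/-- Spin representations on at least fourteen points are large. -/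
theorem Setup.spin_large (hs : Setup ρ π) (hlin : ¬ Linear π) (p : ℕ) [Fact p.Prime] [CharP k p]
    (IH : ∀ m < finrank k V, Bound m) (h5 : (5 : k) ≠ 0) (hr : 14 ≤ r) :
    4 * (r - 7) ≤ finrank k V := by
  classical
  haveI : Fact (Nat.Prime 5) := ⟨by norm_num⟩
  obtain ⟨e⟩ := Function.Embedding.nonempty_of_card_le (α := Fin 5) (β := Fin r)
    (by rw [Fintype.card_fin, Fintype.card_fin]; omega)
  obtain ⟨y, ω, -, -, hy, hE⟩ := hs.exists_cycle dbl5 sign_dbl5 sign_rot5 dbl5_conj rot5_pow
    (by decide +revert) cast_two_five gen_three (by exact_mod_cast h5) e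
    (by rw [Fintype.card_fin]; omega)
  obtain ⟨hpos, hle⟩ := hE 1 one_ne_zero
  set U := Module.End.eigenspace (ρ y) (ω ^ (1 : ZMod 5).val) with hU
  set S : Finset (Fin r) := (Finset.univ.map e)ᶜ with hS
  have hScard : S.card = r - 5 := by
    rw [hS, Finset.card_compl, Finset.card_map, Finset.card_univ, Fintype.card_fin,
      Fintype.card_fin]
  have hSe : ∀ i, e i ∉ S := fun i => by simp [hS]
  set H : Subgroup G := (altOn S).comap π with hH
  have hinv : ∀ g ∈ H, ∀ v ∈ U, ρ g v ∈ U := fun g hg =>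
    hs.cycle_eigen_inv le_rfl e hy (fun i => (mem_altOn.1 hg).2 _ (hSe i)) _
  let ρH : Representation k H U :=
    (⟨U, fun g v hv => hinv g.1 g.2 v hv⟩ : Subrepresentation (ρ.comp H.subtype)).toRepresentation
  have hstab : ∀ (g : H) x, π (g : G) x ∈ S ↔ x ∈ S := by
    intro g x
    have hfix := (mem_altOn.1 g.2).2
    by_cases hx : x ∈ S
    · refine ⟨fun _ => hx, fun _ => ?_⟩
      by_contra hc
      have := (π (g : G)).injective (hfix _ hc)
      exact hc (by rw [this]; exact hx)
    · rw [hfix x hx]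
  let ε : {x // x ∈ S} ≃ Fin (r - 5) := S.equivFinOfCardEq hScard
  let π₀ : H →* Perm {x // x ∈ S} :=
    { toFun := fun g => (π (g : G)).subtypePerm (hstab g)
      map_one' := Equiv.ext fun x => Subtype.ext (by simp)
      map_mul' := fun g g' => Equiv.ext fun x => Subtype.ext (by
        show π ((g * g' : H) : G) x = π (g : G) (π (g' : G) x)
        rw [Subgroup.coe_mul, map_mul, Perm.mul_apply]) }
  let π' : H →* Perm (Fin (r - 5)) := ε.permCongrHom.toMonoidHom.comp π₀
  have hof : ∀ g : H, Perm.ofSubtype (π₀ g) = π (g : G) := fun g =>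
    Perm.ofSubtype_subtypePerm (hstab g) fun x hx => by
      by_contra hc
      exact hx ((mem_altOn.1 g.2).2 x hc)
  have hrange : π'.range = alternatingGroup (Fin (r - 5)) := by
    ext τ
    constructor
    · rintro ⟨g, rfl⟩
      show Perm.sign (ε.permCongr (π₀ g)) = 1
      rw [Perm.sign_permCongr, ← Perm.sign_ofSubtype, hof]
      exact Perm.mem_alternatingGroup.1 (mem_altOn.1 g.2).1
    · intro hτ
      have hmem : Perm.ofSubtype (ε.symm.permCongr τ) ∈ altOn S := by
        refine ⟨Perm.mem_alternatingGroup.2 ?_, fun x hx => Perm.ofSubtype_apply_of_not_mem _ hx⟩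
        rw [Perm.sign_ofSubtype, Perm.sign_permCongr]
        exact Perm.mem_alternatingGroup.1 hτ
      have hl : π (lft π (Perm.ofSubtype (ε.symm.permCongr τ))) =
          Perm.ofSubtype (ε.symm.permCongr τ) := hs.map_lft hmem.1
      refine ⟨⟨lft π (Perm.ofSubtype (ε.symm.permCongr τ)),
        Subgroup.mem_comap.2 (by rw [hl]; exact hmem)⟩, ?_⟩
      have h1 : π₀ ⟨lft π (Perm.ofSubtype (ε.symm.permCongr τ)),
          Subgroup.mem_comap.2 (by rw [hl]; exact hmem)⟩ = ε.symm.permCongr τ :=
        Perm.ofSubtype_injective ((hof _).trans hl)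
      show ε.permCongr (π₀ _) = τ
      rw [h1]
      ext x; simp
  have hker : ∀ g : H, ρH g = 1 → π' g = 1 := by
    haveI : IsSimpleGroup (alternatingGroup (Fin (r - 5))) :=
      alternatingGroup.isSimpleGroup (by rw [Nat.card_fin]; omega)
    let π'' : H →* alternatingGroup (Fin (r - 5)) := π'.codRestrict _ fun g => hrange ▸ ⟨g, rfl⟩
    have hsurj : Function.Surjective π'' := fun σ => by
      obtain ⟨g, hg⟩ := (hrange.symm ▸ σ.2 : (σ : Perm (Fin (r - 5))) ∈ π'.range)
      exact ⟨g, Subtype.ext hg⟩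
    have hN : ((MonoidHom.ker ρH).map π'').Normal := Subgroup.Normal.map inferInstance π'' hsurj
    rcases hN.eq_bot_or_eq_top with h | h
    · intro g hg
      have h1 := Subgroup.mem_map_of_mem π'' (show g ∈ MonoidHom.ker ρH from hg)
      rw [h, Subgroup.mem_bot] at h1
      exact congrArg Subtype.val h1
    · exfalso
      obtain ⟨T, hTS, hT⟩ := Finset.exists_subset_card_eq (show 4 ≤ S.card by omega)
      obtain ⟨a, b, c, d, hab, hac, had, hbc, hbd, hcd, rfl⟩ := Finset.card_eq_four.1 hT
      have hmem : ∀ a' b' c' d' : Fin r, a' ∈ S → b' ∈ S → c' ∈ S → d' ∈ S →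
          lft π (dt a' b' c' d') ∈ H := fun a' b' c' d' h1 h2 h3 h4 => by
        rw [hH, Subgroup.mem_comap, hs.map_lft_dt]; exact dt_mem_altOn h1 h2 h3 h4
      have ha : a ∈ S := hTS (by simp)
      have hb : b ∈ S := hTS (by simp)
      have hc : c ∈ S := hTS (by simp)
      have hd : d ∈ S := hTS (by simp)
      obtain ⟨x, hx, hxe⟩ := h.ge (Subgroup.mem_top (π'' ⟨_, hmem a b c d ha hb hc hd⟩))
      have hxπ : π (x : G) = dt a b c d := by
        have h1 : π₀ x = π₀ ⟨_, hmem a b c d ha hb hc hd⟩ :=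
          ε.permCongrHom.injective (congrArg Subtype.val hxe)
        rw [← hof x, h1, hof, hs.map_lft_dt]
      obtain ⟨h2, hanti⟩ := hs.spin_anti hlin
      obtain ⟨v, hv, hv0⟩ := (Submodule.ne_bot_iff U).1 fun h0 => by
        rw [h0, finrank_bot] at hpos; omega
      have hy' := hinv _ (hmem a c b d ha hc hb hd) v hv
      have hfix : ∀ w ∈ U, ρ (x : G) w = w := fun w hw =>
        congrArg Subtype.val (DFunLike.congr_fun (MonoidHom.mem_ker.1 hx) (⟨w, hw⟩ : U))
      have h3 := hanti a b c d ⟨hab, hac, had, hbc, hbd, hcd⟩ _ _ hxπ (hs.map_lft_dt a c b d) v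
      rw [hfix _ hy', hfix v hv] at h3
      have h4 : (2 : k) • ρ (lft π (dt a c b d)) v = 0 := by
        rw [two_smul]; exact eq_neg_iff_add_eq_zero.1 h3
      exact hv0 (rho_injective ρ (lft π (dt a c b d))
        (((smul_eq_zero.1 h4).resolve_left h2).trans (map_zero _).symm))
  have hsub := IH (finrank k U) (by omega) k p U H (r - 5) ρH π' (by omega) hrange hker rfl
  split_ifs at hsub <;> omega

end CfsgLib.AltSection
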