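import Cfsg.Agent.Lib.AltSection.Reduce
import Cfsg.Agent.Lib.AltSection.Exceptional
import Cfsg.Agent.Lib.AltSection.QuadLines
import Cfsg.Agent.Lib.AltSection.SpinLarge

/-!
The degree bound for alternating sections.
-/

set_option autoImplicit false

namespace CfsgLib.AltSection

open Equiv Module
open scoped commutatorElement

variable {α : Type*} [Fintype α] [DecidableEq α]

theorem exists_block_four {a b c d e f g h : α} (hP : D4 a b c d) (hQ : D4 e f g h)
    (hA : Apart a b c d e f g h) (hcard : 8 ≤ Fintype.card α) :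
    ∃ E : Fin (Fintype.card α / 4) × Fin 4 → α, Function.Injective E ∧ ∃ i j, i ≠ j ∧
      (E (i, 0) = a ∧ E (i, 1) = b ∧ E (i, 2) = c ∧ E (i, 3) = d) ∧
      (E (j, 0) = e ∧ E (j, 1) = f ∧ E (j, 2) = g ∧ E (j, 3) = h) := by
  classical
  have hm : 2 ≤ Fintype.card α / 4 := by omega
  obtain ⟨e₀⟩ := Function.Embedding.nonempty_of_card_le
    (α := Fin (Fintype.card α / 4) × Fin 4) (β := α)
    (by rw [Fintype.card_prod, Fintype.card_fin, Fintype.card_fin]; omega)
  set i : Fin (Fintype.card α / 4) := ⟨0, by omega⟩ with hi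
  set j : Fin (Fintype.card α / 4) := ⟨1, by omega⟩ with hj
  have hij : i ≠ j := fun h => by simpa [hi, hj] using congrArg Fin.val h
  let idx : Fin 2 × Fin 4 → Fin (Fintype.card α / 4) × Fin 4 := fun x => (![i, j] x.1, x.2)
  have hidx : Function.Injective idx := by
    rintro ⟨x, s⟩ ⟨y, t⟩ hxy
    simp only [idx, Prod.mk.injEq] at hxy
    obtain ⟨h1, h2⟩ := hxy
    fin_cases x <;> fin_cases y <;> simp_all [hij.symm]
  let tgt : Fin 2 × Fin 4 → α := fun x => ![![a, b, c, d], ![e, f, g, h]] x.1 x.2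
  have hP' := injective_four hP
  have hQ' := injective_four hQ
  have htgt : Function.Injective tgt := by
    have hsep : ∀ s t, ![a, b, c, d] s ≠ ![e, f, g, h] t := by
      obtain ⟨ha, hb, hc, hd⟩ := hA
      intro s t
      fin_cases s <;> fin_cases t
      exacts [ha.1, ha.2.1, ha.2.2.1, ha.2.2.2, hb.1, hb.2.1, hb.2.2.1, hb.2.2.2,
        hc.1, hc.2.1, hc.2.2.1, hc.2.2.2, hd.1, hd.2.1, hd.2.2.1, hd.2.2.2]
    rintro ⟨x, s⟩ ⟨y, t⟩ hxy
    fin_cases x <;> fin_cases y
    · exact Prod.ext rfl (hP' hxy)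
    · exact absurd hxy (hsep s t)
    · exact absurd hxy.symm (hsep t s)
    · exact Prod.ext rfl (hQ' hxy)
  let φ : {x // x ∈ Set.range (e₀ ∘ idx)} ≃ {x // x ∈ Set.range tgt} :=
    (Equiv.ofInjective _ (e₀.injective.comp hidx)).symm.trans (Equiv.ofInjective tgt htgt)
  have hσ : ∀ x, φ.extendSubtype (e₀ (idx x)) = tgt x := by
    intro x
    rw [Equiv.extendSubtype_apply_of_mem φ (e₀ (idx x)) ⟨x, rfl⟩]
    have h1 : (Equiv.ofInjective _ (e₀.injective.comp hidx)).symm ⟨e₀ (idx x), ⟨x, rfl⟩⟩ = x :=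
      Equiv.ofInjective_symm_apply (e₀.injective.comp hidx) x
    show ((Equiv.ofInjective tgt htgt) _ : α) = tgt x
    rw [h1]; rfl
  refine ⟨fun x => φ.extendSubtype (e₀ x), φ.extendSubtype.injective.comp e₀.injective, i, j, hij,
    ?_, ?_⟩
  · exact ⟨hσ (0, 0), hσ (0, 1), hσ (0, 2), hσ (0, 3)⟩
  · exact ⟨hσ (1, 0), hσ (1, 1), hσ (1, 2), hσ (1, 3)⟩

variable {k : Type*} [Field k] {V : Type*} [AddCommGroup V] [Module k V] {G : Type*} [Group G]
  [FiniteDimensional k V] [IsAlgClosed k] {ρ : Representation k G V} {π : G →* Perm α}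

theorem Setup.low_four (hs : Setup ρ π) (hl : Linear π) (h2 : (2 : k) ≠ 0) (h3 : (3 : k) = 0)
    (hsmall : finrank k V + 2 ≤ Fintype.card α) : Low4 ρ π := by
  have h8 : 8 ≤ Fintype.card α := by have := hs.nine; omega
  refine ⟨fun a b c d hP => ?_, fun a b c d e f g h hP hQ hA v hv => ?_⟩
  · obtain ⟨T4, hT4, hdis⟩ := exists_outside (S := ({a, b, c, d} : Finset α)) (m := 4) (by
      have := (Finset.card_le_four (a := a) (b := b) (c := c) (d := d)); omega)
    obtain ⟨e, f, g, h, hef, heg, heh, hfg, hfh, hgh, rfl⟩ := Finset.card_eq_four.1 hT4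
    simp only [Finset.disjoint_insert_left, Finset.disjoint_singleton_left, Finset.mem_insert,
      Finset.mem_singleton, not_or] at hdis
    obtain ⟨he, hf, hg, hh⟩ := hdis
    have hA : Apart e f g h a b c d := ⟨he, hf, hg, hh⟩
    obtain ⟨E, hE, i, j, -, -, e0, e1, e2, e3⟩ :=
      exists_block_four ⟨hef, heg, heh, hfg, hfh, hgh⟩ hP hA h8
    have h1 := (hs.quad_shape hl h2 h3 rfl hsmall hE (j, 0)).1
    rwa [show blockU π E (j, 0) = Uq π (E (j, 0)) (E (j, 1)) (E (j, 2)) (E (j, 3)) from rfl,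
      e0, e1, e2, e3] at h1
  · obtain ⟨E, hE, i, j, hij, ⟨a0, a1, a2, a3⟩, e0, e1, e2, e3⟩ := exists_block_four hP hQ hA h8
    have h1 := (hs.quad_shape hl h2 h3 rfl hsmall hE (i, 0)).2 (j, 0) hij.symm v
    rw [show blockU π E (i, 0) = Uq π (E (i, 0)) (E (i, 1)) (E (i, 2)) (E (i, 3)) from rfl,
      show blockU π E (j, 0) = Uq π (E (j, 0)) (E (j, 1)) (E (j, 2)) (E (j, 3)) from rfl,
      a0, a1, a2, a3, e0, e1, e2, e3] at h1
    exact h1 hv

theorem Setup.cycle_cases (hs : Setup ρ π) (p : ℕ) [Fact p.Prime] [CharP k p] (h3 : (3 : k) ≠ 0)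
    (hsmall : finrank k V + 2 + (if p ∣ Fintype.card α then 1 else 0) ≤ Fintype.card α) : False := by
  classical
  have hsmall' : finrank k V + 2 ≤ Fintype.card α := by omega
  by_cases htwo : ∀ a b c, D3 a b c → finrank k (moved ρ (T π a b c)) = 2
  · have hlow : Setup.Low3 ρ π := ⟨htwo, fun a b c d e f hinj v hv => by
      obtain ⟨E, hE, i, j, hij, a0, a1, a2, d0, d1, d2⟩ := hs.exists_block hinj
      rcases hs.cycle_shape h3 rfl hsmall' hE with h | ⟨-, h⟩
      · have h1 := (h i).2 j hij.symm v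
        rw [blockT, blockT, a0, a1, a2, d0, d1, d2] at h1
        exact h1 hv
      · have h1 := (h i).1
        rw [blockT, htwo _ _ _ (block_D3 hE i)] at h1
        omega⟩
    have := LineData.bound (hs.low_lineData h3 hlow) p hs
    omega
  push Not at htwo
  obtain ⟨a₀, b₀, c₀, h₀, hne⟩ := htwo
  have hall : ∀ a b c, D3 a b c →
      finrank k (moved ρ (T π a b c)) = finrank k (moved ρ (T π a₀ b₀ c₀)) := by
    intro a b c h
    obtain ⟨g, ga, gb, gc⟩ := hs.exists_map_three h h₀
    rw [← ga, ← gb, ← gc, ← hs.map_moved_T h g, finrank_map_rho]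
  have key : ∀ {a b c d e f}, Function.Injective ![a, b, c, d, e, f] →
      Fintype.card α ≤ 11 ∧ finrank k (moved ρ (T π a b c)) = 8 ∧
        fixedSp ρ (T π a b c) = fixedSp ρ (T π d e f) := by
    intro a b c d e f hinj
    obtain ⟨E, hE, i, j, -, a0, a1, a2, d0, d1, d2⟩ := hs.exists_block hinj
    rcases hs.cycle_shape h3 rfl hsmall' hE with h | ⟨hc, h⟩
    · have h1 := (h i).1
      rw [blockT, hall _ _ _ (block_D3 hE i)] at h1
      exact absurd h1 hne
    · obtain ⟨h1, h2⟩ := h i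
      have h4 := h2 j
      rw [blockT, blockT, a0, a1, a2, d0, d1, d2] at h4
      rw [blockT, a0, a1, a2] at h1
      exact ⟨hc, h1, h4⟩
  obtain ⟨x, y, z, hxyz, hx, hy, hz⟩ :=
    hs.exists_three_outside ({a₀, b₀, c₀} : Finset α) (Finset.card_le_three.trans (by norm_num))
  simp only [Finset.mem_insert, Finset.mem_singleton, not_or] at hx hy hz
  have hinj : Function.Injective ![a₀, b₀, c₀, x, y, z] := by
    obtain ⟨hab, hac, hbc⟩ := h₀
    obtain ⟨hxy, hxz, hyz⟩ := hxyz
    intro u v huv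
    fin_cases u <;> fin_cases v <;> simp_all
  obtain ⟨hc11, h8, -⟩ := key hinj
  exact hs.eight_bound p h3 (fun a b c h => (hall a b c h).trans h8)
    (fun a b c d e f h => (key h).2.2) hc11 hsmall

/-- The degree bound holds in every dimension. -/
theorem bound_all : ∀ n, Bound n := by
  intro n
  induction n using Nat.strong_induction_on with
  | h n IH =>
  refine bound_of_setup n IH fun k _ _ p _ _ V _ _ _ _ G _ _ r ρ π hs hdim => ?_
  subst hdim
  by_contra hlt
  push Not at hlt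
  have hr : 9 ≤ r := by simpa using hs.nine
  have hsmall : finrank k V + 2 + (if p ∣ Fintype.card (Fin r) then 1 else 0) ≤
      Fintype.card (Fin r) := by
    rw [Fintype.card_fin]
    omega
  by_cases h3 : (3 : k) = 0
  · have hp : p = 3 := (Nat.prime_dvd_prime_iff_eq Fact.out Nat.prime_three).1
      ((CharP.cast_eq_zero_iff k p 3).1 (by exact_mod_cast h3))
    subst hp
    have hne : ∀ q : ℕ, ¬ 3 ∣ q → (q : k) ≠ 0 := fun q hq h0 =>
      hq ((CharP.cast_eq_zero_iff k 3 q).1 h0)
    have h2 : (2 : k) ≠ 0 := by exact_mod_cast hne 2 (by norm_num)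
    have h5 : (5 : k) ≠ 0 := by exact_mod_cast hne 5 (by norm_num)
    have h7 : (7 : k) ≠ 0 := by exact_mod_cast hne 7 (by norm_num)
    by_cases hl : Linear π
    · have hw := hs.low_four hl h2 h3 (by omega)
      have := LineData.bound (hs.quad_lineData hl h2 hw) 3 hs
      omega
    · rcases Nat.lt_or_ge r 10 with h10 | h10
      · have := hs.spin_five hl h5
        omega
      rcases Nat.lt_or_ge r 11 with h11 | h11
      · have := hs.spin_ten hl h5 (by simpa using h10)
        omega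
      rcases Nat.lt_or_ge r 14 with h14 | h14
      · have := hs.spin_seven hl h7 (by simpa using h11)
        omega
      · have := hs.spin_large hl 3 IH h5 h14
        omega
  · exact hs.cycle_cases p h3 hsmall

end CfsgLib.AltSection
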