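import Mathlib.GroupTheory.SpecificGroups.Alternating
import Mathlib.GroupTheory.SpecificGroups.Alternating.Centralizer

/-!
Three-cycles and double transpositions as commutators of transpositions, and alternating
groups on subsets.
-/

set_option autoImplicit false

namespace CfsgLib.AltSection

open Equiv
open scoped commutatorElement

variable {α : Type*} [DecidableEq α]

/-- The three-cycle `a ↦ b ↦ c ↦ a`, written as a commutator of transpositions. -/
def cyc (a b c : α) : Perm α := ⁅swap b c, swap a b⁆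

/-- The double transposition `(a b)(c d)`, written as a commutator of three-cycles. -/
def dt (a b c d : α) : Perm α := ⁅cyc a b c, cyc a b d⁆

theorem swap_inv' (a b : α) : (swap a b)⁻¹ = swap a b := Equiv.swap_inv a b

theorem conj_cyc (σ : Perm α) (a b c : α) :
    σ * cyc a b c * σ⁻¹ = cyc (σ a) (σ b) (σ c) := by
  rw [cyc, cyc, conjugate_commutatorElement, ← Equiv.swap_apply_apply, ← Equiv.swap_apply_apply]

theorem conj_dt (σ : Perm α) (a b c d : α) :
    σ * dt a b c d * σ⁻¹ = dt (σ a) (σ b) (σ c) (σ d) := by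
  rw [dt, dt, conjugate_commutatorElement, conj_cyc, conj_cyc]

section apply

variable {a b c d : α}

theorem cyc_apply_fst (hac : a ≠ c) (hbc : b ≠ c) : cyc a b c a = b := by
  rw [cyc, commutatorElement_def, swap_inv', swap_inv']
  simp only [Perm.mul_apply, swap_apply_left]
  by_cases hab : a = b
  · subst hab; simp [swap_apply_of_ne_of_ne, hac]
  simp [swap_apply_of_ne_of_ne, hab, hac, Ne.symm hac, Ne.symm hbc]

theorem cyc_apply_snd (hab : a ≠ b) (hac : a ≠ c) : cyc a b c b = c := by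
  rw [cyc, commutatorElement_def, swap_inv', swap_inv']
  simp [swap_apply_of_ne_of_ne, hab, hac]

theorem cyc_apply_thd (hab : a ≠ b) (hac : a ≠ c) (hbc : b ≠ c) : cyc a b c c = a := by
  rw [cyc, commutatorElement_def, swap_inv', swap_inv']
  simp [swap_apply_of_ne_of_ne, hab, hac, Ne.symm hac, Ne.symm hbc]

theorem cyc_apply_other {x : α} (ha : x ≠ a) (hb : x ≠ b) (hc : x ≠ c) : cyc a b c x = x := by
  rw [cyc, commutatorElement_def, swap_inv', swap_inv']
  simp [swap_apply_of_ne_of_ne, ha, hb, hc]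

end apply

/-- Pairwise distinctness of three points. -/
def D3 (a b c : α) : Prop := a ≠ b ∧ a ≠ c ∧ b ≠ c

/-- Pairwise distinctness of four points. -/
def D4 (a b c d : α) : Prop := a ≠ b ∧ a ≠ c ∧ a ≠ d ∧ b ≠ c ∧ b ≠ d ∧ c ≠ d

theorem D3.rot {a b c : α} (h : D3 a b c) : D3 b c a := ⟨h.2.2, h.1.symm, h.2.1.symm⟩

theorem D3.swap12 {a b c : α} (h : D3 a b c) : D3 b a c := ⟨h.1.symm, h.2.2, h.2.1⟩

theorem D3.swap23 {a b c : α} (h : D3 a b c) : D3 a c b := ⟨h.2.1, h.1, h.2.2.symm⟩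

theorem D3.map {β : Type*} {a b c : α} (h : D3 a b c) {f : α → β} (hf : Function.Injective f) :
    D3 (f a) (f b) (f c) := ⟨hf.ne h.1, hf.ne h.2.1, hf.ne h.2.2⟩

theorem D4.map {β : Type*} {a b c d : α} (h : D4 a b c d) {f : α → β} (hf : Function.Injective f) :
    D4 (f a) (f b) (f c) (f d) :=
  ⟨hf.ne h.1, hf.ne h.2.1, hf.ne h.2.2.1, hf.ne h.2.2.2.1, hf.ne h.2.2.2.2.1, hf.ne h.2.2.2.2.2⟩

theorem cyc_rot {a b c : α} (h : D3 a b c) : cyc b c a = cyc a b c := by
  obtain ⟨hab, hac, hbc⟩ := h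
  ext x
  by_cases hxa : x = a
  · subst hxa; rw [cyc_apply_fst hac hbc, cyc_apply_thd hbc hab.symm hac.symm]
  by_cases hxb : x = b
  · subst hxb; rw [cyc_apply_snd hab hac, cyc_apply_fst hab.symm hac.symm.symm.symm]
  by_cases hxc : x = c
  · subst hxc; rw [cyc_apply_thd hab hac hbc, cyc_apply_snd hbc hab.symm]
  rw [cyc_apply_other hxa hxb hxc, cyc_apply_other hxb hxc hxa]

theorem cyc_swap {a b c : α} (h : D3 a b c) : cyc b a c = (cyc a b c)⁻¹ := by
  obtain ⟨hab, hac, hbc⟩ := h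
  rw [eq_inv_iff_mul_eq_one]
  ext x
  rw [Perm.mul_apply, Perm.one_apply]
  by_cases hxa : x = a
  · subst hxa; rw [cyc_apply_fst hac hbc, cyc_apply_fst hbc hac]
  by_cases hxb : x = b
  · subst hxb; rw [cyc_apply_snd hab hac, cyc_apply_thd hab.symm hbc hac]
  by_cases hxc : x = c
  · subst hxc; rw [cyc_apply_thd hab hac hbc, cyc_apply_snd hab.symm hbc]
  rw [cyc_apply_other hxa hxb hxc, cyc_apply_other hxb hxa hxc]

theorem cyc_inv_apply_other {a b c x : α} (ha : x ≠ a) (hb : x ≠ b) (hc : x ≠ c) :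
    (cyc a b c)⁻¹ x = x := by
  conv_lhs => rw [← cyc_apply_other ha hb hc]
  simp

theorem cyc_pow_three {a b c : α} (h : D3 a b c) : cyc a b c ^ 3 = 1 := by
  obtain ⟨hab, hac, hbc⟩ := h
  ext x
  simp only [pow_succ, pow_zero, one_mul, Perm.mul_apply, Perm.one_apply]
  by_cases hxa : x = a
  · subst hxa; rw [cyc_apply_fst hac hbc, cyc_apply_snd hab hac, cyc_apply_thd hab hac hbc]
  by_cases hxb : x = b
  · subst hxb; rw [cyc_apply_snd hab hac, cyc_apply_thd hab hac hbc, cyc_apply_fst hac hbc]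
  by_cases hxc : x = c
  · subst hxc; rw [cyc_apply_thd hab hac hbc, cyc_apply_fst hac hbc, cyc_apply_snd hab hac]
  rw [cyc_apply_other hxa hxb hxc, cyc_apply_other hxa hxb hxc, cyc_apply_other hxa hxb hxc]

section dtapply

variable {a b c d : α}

theorem dt_apply_fst (h : D4 a b c d) : dt a b c d a = b := by
  obtain ⟨hab, hac, had, hbc, hbd, hcd⟩ := h
  rw [dt, commutatorElement_def, ← cyc_swap ⟨hab, had, hbd⟩, ← cyc_swap ⟨hab, hac, hbc⟩]
  simp only [Perm.mul_apply]
  rw [cyc_apply_snd hab.symm hbd, cyc_apply_other hbd.symm had.symm hcd.symm,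
    cyc_apply_thd hab had hbd, cyc_apply_fst hac hbc]

theorem dt_apply_snd (h : D4 a b c d) : dt a b c d b = a := by
  obtain ⟨hab, hac, had, hbc, hbd, hcd⟩ := h
  rw [dt, commutatorElement_def, ← cyc_swap ⟨hab, had, hbd⟩, ← cyc_swap ⟨hab, hac, hbc⟩]
  simp only [Perm.mul_apply]
  rw [cyc_apply_fst hbd had, cyc_apply_snd hab.symm hbc, cyc_apply_other hac.symm hbc.symm hcd,
    cyc_apply_thd hab hac hbc]

theorem dt_apply_thd (h : D4 a b c d) : dt a b c d c = d := by
  obtain ⟨hab, hac, had, hbc, hbd, hcd⟩ := h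
  rw [dt, commutatorElement_def, ← cyc_swap ⟨hab, had, hbd⟩, ← cyc_swap ⟨hab, hac, hbc⟩]
  simp only [Perm.mul_apply]
  rw [cyc_apply_other hbc.symm hac.symm hcd, cyc_apply_thd hab.symm hbc hac,
    cyc_apply_snd hab had, cyc_apply_other had.symm hbd.symm hcd.symm]

theorem dt_apply_fth (h : D4 a b c d) : dt a b c d d = c := by
  obtain ⟨hab, hac, had, hbc, hbd, hcd⟩ := h
  rw [dt, commutatorElement_def, ← cyc_swap ⟨hab, had, hbd⟩, ← cyc_swap ⟨hab, hac, hbc⟩]
  simp only [Perm.mul_apply]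
  rw [cyc_apply_thd hab.symm hbd had, cyc_apply_fst hbc hac, cyc_apply_fst had hbd,
    cyc_apply_snd hab hac]

theorem dt_apply_other {x : α} (ha : x ≠ a) (hb : x ≠ b) (hc : x ≠ c) (hd : x ≠ d) :
    dt a b c d x = x := by
  rw [dt, commutatorElement_def]
  simp only [Perm.mul_apply]
  rw [cyc_inv_apply_other ha hb hd, cyc_inv_apply_other ha hb hc, cyc_apply_other ha hb hd,
    cyc_apply_other ha hb hc]

end dtapply

theorem conj_dt_cyc {a b c d e : α} (h : D3 a b c) (hd : d ≠ e) (hda : d ≠ a) (hdb : d ≠ b)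
    (hdc : d ≠ c) (hea : e ≠ a) (heb : e ≠ b) (hec : e ≠ c) :
    dt b c d e * cyc a b c * (dt b c d e)⁻¹ = (cyc a b c)⁻¹ := by
  obtain ⟨hab, hac, hbc⟩ := h
  have hq : D4 b c d e := ⟨hbc, hdb.symm, heb.symm, hdc.symm, hec.symm, hd⟩
  rw [conj_cyc, dt_apply_other hab hac hda.symm hea.symm, dt_apply_fst hq, dt_apply_snd hq,
    ← cyc_swap ⟨hab, hac, hbc⟩, cyc_rot (a := b) (b := a) (c := c) ⟨hab.symm, hbc, hac⟩]

/-- Two permutations agreeing on a set and fixing everything outside it are equal. -/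
theorem ext_on {S : Finset α} {σ τ : Perm α} (hσ : ∀ x, x ∉ S → σ x = x)
    (hτ : ∀ x, x ∉ S → τ x = x) (h : ∀ x ∈ S, σ x = τ x) : σ = τ := by
  ext x
  by_cases hx : x ∈ S
  · exact h x hx
  · rw [hσ x hx, hτ x hx]

variable [Fintype α]

theorem sign_cyc (a b c : α) : Perm.sign (cyc a b c) = 1 := by
  rw [cyc, map_commutatorElement, commutatorElement_eq_one_iff_commute]
  exact Commute.all _ _

theorem sign_dt (a b c d : α) : Perm.sign (dt a b c d) = 1 := by
  rw [dt, map_commutatorElement, commutatorElement_eq_one_iff_commute]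
  exact Commute.all _ _

theorem cyc_mem (a b c : α) : cyc a b c ∈ alternatingGroup α :=
  Perm.mem_alternatingGroup.2 (sign_cyc a b c)

theorem dt_mem (a b c d : α) : dt a b c d ∈ alternatingGroup α :=
  Perm.mem_alternatingGroup.2 (sign_dt a b c d)

/-- The even permutations which fix every point outside `S`. -/
def altOn (S : Finset α) : Subgroup (Perm α) where
  carrier := {σ | σ ∈ alternatingGroup α ∧ ∀ x, x ∉ S → σ x = x}
  one_mem' := ⟨one_mem _, fun _ _ => rfl⟩
  mul_mem' := fun {σ τ} hσ hτ =>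
    ⟨mul_mem hσ.1 hτ.1, fun x hx => by rw [Perm.mul_apply, hτ.2 x hx, hσ.2 x hx]⟩
  inv_mem' := fun {σ} hσ => ⟨inv_mem hσ.1, fun x hx => by
    conv_lhs => rw [← hσ.2 x hx]
    simp⟩

theorem mem_altOn {S : Finset α} {σ : Perm α} :
    σ ∈ altOn S ↔ σ ∈ alternatingGroup α ∧ ∀ x, x ∉ S → σ x = x := Iff.rfl

theorem altOn_eq_map (S : Finset α) :
    altOn S = (alternatingGroup {x // x ∈ S}).map (Perm.ofSubtype (p := fun x => x ∈ S)) := by
  ext σ
  constructor
  · rintro ⟨hs, hfix⟩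
    have hmap : ∀ x, σ x ∈ S ↔ x ∈ S := fun x => by
      by_cases hx : x ∈ S
      · refine ⟨fun _ => hx, fun _ => ?_⟩
        by_contra hc
        have := σ.injective (hfix _ hc)
        exact hc (by rw [this]; exact hx)
      · rw [hfix x hx]
    have hof : Perm.ofSubtype (σ.subtypePerm hmap) = σ :=
      Perm.ofSubtype_subtypePerm hmap fun x hx => by
        by_contra hc
        exact hx (hfix x hc)
    refine ⟨σ.subtypePerm hmap, Perm.mem_alternatingGroup.2 ?_, hof⟩
    rw [← Perm.sign_ofSubtype, hof]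
    exact Perm.mem_alternatingGroup.1 hs
  · rintro ⟨τ, hτ, rfl⟩
    refine ⟨Perm.mem_alternatingGroup.2 ?_, fun x hx => Perm.ofSubtype_apply_of_not_mem τ hx⟩
    rw [Perm.sign_ofSubtype]
    exact Perm.mem_alternatingGroup.1 hτ

theorem altOn_perfect {S : Finset α} (hS : 5 ≤ S.card) : ⁅altOn S, altOn S⁆ = altOn S := by
  rw [altOn_eq_map, ← Subgroup.map_commutator,
    commutator_alternatingGroup_eq_self (by simpa using hS)]

theorem cyc_mem_altOn {S : Finset α} {a b c : α} (ha : a ∈ S) (hb : b ∈ S) (hc : c ∈ S) :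
    cyc a b c ∈ altOn S :=
  ⟨cyc_mem a b c, fun x hx => cyc_apply_other (fun h => hx (h ▸ ha)) (fun h => hx (h ▸ hb))
    fun h => hx (h ▸ hc)⟩

theorem dt_mem_altOn {S : Finset α} {a b c d : α} (ha : a ∈ S) (hb : b ∈ S) (hc : c ∈ S)
    (hd : d ∈ S) : dt a b c d ∈ altOn S :=
  ⟨dt_mem a b c d, fun x hx => dt_apply_other (fun h => hx (h ▸ ha)) (fun h => hx (h ▸ hb))
    (fun h => hx (h ▸ hc)) fun h => hx (h ▸ hd)⟩

theorem exists_outside {S : Finset α} {m : ℕ} (h : S.card + m ≤ Fintype.card α) :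
    ∃ T : Finset α, T.card = m ∧ Disjoint T S := by
  obtain ⟨T, hT, hcard⟩ := Finset.exists_subset_card_eq (s := Sᶜ) (n := m)
    (by rw [Finset.card_compl]; omega)
  exact ⟨T, hcard, Finset.disjoint_left.2 fun x hx => Finset.mem_compl.1 (hT hx)⟩

theorem exists_two_outside {S : Finset α} (h : S.card + 2 ≤ Fintype.card α) :
    ∃ d e : α, d ≠ e ∧ d ∉ S ∧ e ∉ S := by
  obtain ⟨T, hT, hd⟩ := exists_outside h
  obtain ⟨d, e, hde, rfl⟩ := Finset.card_eq_two.1 hT
  exact ⟨d, e, hde, Finset.disjoint_left.1 hd (by simp), Finset.disjoint_left.1 hd (by simp)⟩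

theorem exists_one_outside {S : Finset α} (h : S.card + 1 ≤ Fintype.card α) :
    ∃ d : α, d ∉ S := by
  obtain ⟨T, hT, hd⟩ := exists_outside h
  obtain ⟨d, rfl⟩ := Finset.card_eq_one.1 hT
  exact ⟨d, Finset.disjoint_left.1 hd (by simp)⟩

end CfsgLib.AltSection
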