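import Cfsg.Agent.Lib.AltSection.Spin

/-!
Canonical involutions over double transpositions when four-group lifts commute.
-/

set_option autoImplicit false

namespace CfsgLib.AltSection

open Equiv Module
open scoped commutatorElement

variable {k : Type*} [Field k] {V : Type*} [AddCommGroup V] [Module k V] {G : Type*} [Group G]
  {α : Type*} [Fintype α] [DecidableEq α] {ρ : Representation k G V} {π : G →* Perm α}

theorem D4.swap34 {a b c d : α} (h : D4 a b c d) : D4 a b d c :=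
  ⟨h.1, h.2.2.1, h.2.1, h.2.2.2.2.1, h.2.2.2.1, h.2.2.2.2.2.symm⟩

theorem D4.swap12 {a b c d : α} (h : D4 a b c d) : D4 b a c d :=
  ⟨h.1.symm, h.2.2.2.1, h.2.2.2.2.1, h.2.1, h.2.2.1, h.2.2.2.2.2⟩

theorem D4.pairs {a b c d : α} (h : D4 a b c d) : D4 c d a b :=
  ⟨h.2.2.2.2.2, h.2.1.symm, h.2.2.2.1.symm, h.2.2.1.symm, h.2.2.2.2.1.symm, h.1⟩

theorem D4.rot {a b c d : α} (h : D4 a b c d) : D4 a c d b := h.swap23.swap34

theorem D4.tail {a b c d : α} (h : D4 a b c d) : D3 b c d :=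
  ⟨h.2.2.2.1, h.2.2.2.2.1, h.2.2.2.2.2⟩

theorem D4.head {a b c d : α} (h : D4 a b c d) : D3 a b c := ⟨h.1, h.2.1, h.2.2.2.1⟩

theorem dt_pairs {a b c d : α} (h : D4 a b c d) : dt c d a b = dt a b c d := by
  ext x
  by_cases hxa : x = a
  · subst hxa; rw [dt_apply_thd h.pairs, dt_apply_fst h]
  by_cases hxb : x = b
  · subst hxb; rw [dt_apply_fth h.pairs, dt_apply_snd h]
  by_cases hxc : x = c
  · subst hxc; rw [dt_apply_fst h.pairs, dt_apply_thd h]
  by_cases hxd : x = d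
  · subst hxd; rw [dt_apply_snd h.pairs, dt_apply_fth h]
  rw [dt_apply_other hxc hxd hxa hxb, dt_apply_other hxa hxb hxc hxd]

theorem dt_swap12 {a b c d : α} (h : D4 a b c d) : dt b a c d = dt a b c d := by
  ext x
  by_cases hxa : x = a
  · subst hxa; rw [dt_apply_snd h.swap12, dt_apply_fst h]
  by_cases hxb : x = b
  · subst hxb; rw [dt_apply_fst h.swap12, dt_apply_snd h]
  by_cases hxc : x = c
  · subst hxc; rw [dt_apply_thd h.swap12, dt_apply_thd h]
  by_cases hxd : x = d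
  · subst hxd; rw [dt_apply_fth h.swap12, dt_apply_fth h]
  rw [dt_apply_other hxb hxa hxc hxd, dt_apply_other hxa hxb hxc hxd]

theorem dt_swap34 {a b c d : α} (h : D4 a b c d) : dt a b d c = dt a b c d := by
  rw [← dt_pairs h.swap34, dt_swap12 h.pairs, dt_pairs h]

theorem dt_mul {a b c d : α} (h : D4 a b c d) : dt a d c b * dt a c b d = dt a b c d := by
  have h1 := h.swap23
  have h2 : D4 a d c b := h.rot.swap23
  ext x
  rw [Perm.mul_apply]
  by_cases hxa : x = a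
  · subst hxa; rw [dt_apply_fst h1, dt_apply_thd h2, dt_apply_fst h]
  by_cases hxb : x = b
  · subst hxb; rw [dt_apply_thd h1, dt_apply_snd h2, dt_apply_snd h]
  by_cases hxc : x = c
  · subst hxc; rw [dt_apply_snd h1, dt_apply_fst h2, dt_apply_thd h]
  by_cases hxd : x = d
  · subst hxd; rw [dt_apply_fth h1, dt_apply_fth h2, dt_apply_fth h]
  simp [dt_apply_other, hxa, hxb, hxc, hxd]

theorem dt_mul_dt {a b c d e f : α} (h : D4 a b c d) (he : D4 a b e f) (hcd : D4 c d e f) :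
    dt a b c d * dt a b e f = dt c d e f := by
  obtain ⟨hab, hac, had, hbc, hbd, hcd'⟩ := id h
  obtain ⟨-, hae, haf, hbe, hbf, hef⟩ := id he
  obtain ⟨-, hce, hcf, hde, hdf, -⟩ := id hcd
  ext x
  rw [Perm.mul_apply]
  by_cases hxa : x = a
  · subst hxa; rw [dt_apply_fst he, dt_apply_snd h, dt_apply_other hac had hae haf]
  by_cases hxb : x = b
  · subst hxb; rw [dt_apply_snd he, dt_apply_fst h, dt_apply_other hbc hbd hbe hbf]
  by_cases hxc : x = c
  · subst hxc
    rw [dt_apply_other hac.symm hbc.symm hce hcf, dt_apply_thd h, dt_apply_fst hcd]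
  by_cases hxd : x = d
  · subst hxd
    rw [dt_apply_other had.symm hbd.symm hde hdf, dt_apply_fth h, dt_apply_snd hcd]
  by_cases hxe : x = e
  · subst hxe
    rw [dt_apply_thd he, dt_apply_other haf.symm hbf.symm hcf.symm hdf.symm, dt_apply_thd hcd]
  by_cases hxf : x = f
  · subst hxf
    rw [dt_apply_fth he, dt_apply_other hae.symm hbe.symm hce.symm hde.symm, dt_apply_fth hcd]
  simp [dt_apply_other, hxa, hxb, hxc, hxd, hxe, hxf]

/-- The canonical involution over the double transposition `(a b)(c d)`. -/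
noncomputable def Uq (π : G →* Perm α) (a b c d : α) : G :=
  ⁅T π b c d, lft π (dt a c b d)⁆

/-- The subspace negated by an element. -/
def negSp (ρ : Representation k G V) (g : G) : Submodule k V := LinearMap.ker (ρ g + 1)

theorem mem_negSp {g : G} {v : V} : v ∈ negSp ρ g ↔ ρ g v = -v := by
  simp [negSp, add_eq_zero_iff_eq_neg]

theorem map_negSp (g h : G) : (negSp ρ g).map (ρ h) = negSp ρ (h * g * h⁻¹) := by
  ext v
  constructor
  · rintro ⟨w, hw, rfl⟩
    rw [mem_negSp, ← rho_mul, inv_mul_cancel_right, rho_mul, mem_negSp.1 hw, map_neg]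
  · intro hv
    rw [mem_negSp] at hv
    refine ⟨ρ h⁻¹ v, mem_negSp.2 ?_, rho_inv_apply ρ h v⟩
    apply rho_injective ρ h
    rw [map_neg, rho_inv_apply, ← rho_mul, ← rho_mul, hv]

namespace Setup

variable (hs : Setup ρ π)
include hs

theorem map_Uq {a b c d : α} (h : D4 a b c d) : π (Uq π a b c d) = dt a b c d := by
  obtain ⟨hab, hac, had, hbc, hbd, hcd⟩ := id h
  rw [Uq, map_commutatorElement, hs.map_T h.tail, hs.map_lft_dt, commutatorElement_def, conj_dt,
    cyc_apply_other hab hac had, cyc_apply_snd hbc hbd, cyc_apply_fst hbd hcd,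
    cyc_apply_thd hbc hbd hcd, ← dt_mul h]
  have h1 : (dt a c b d)⁻¹ = dt a c b d := inv_eq_of_mul_eq_one_right (dt_sq h.swap23)
  rw [h1, dt_swap34 (show D4 a d b c from h.swap34.swap23)]

theorem conj_Uq {a b c d : α} (h : D4 a b c d) (g : G) :
    g * Uq π a b c d * g⁻¹ = Uq π (π g a) (π g b) (π g c) (π g d) := by
  rw [Uq, Uq, conjugate_commutatorElement, hs.conj_T h.tail]
  exact hs.comm_center (by rw [map_mul, map_mul, map_inv, hs.map_lft_dt, hs.map_lft_dt, conj_dt]) _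

variable (hl : Linear π)
include hl

theorem lin_comm {a b c d : α} (h : D4 a b c d) {x y : G} (hx : π x = dt a b c d)
    (hy : π y = dt a c b d) : Commute x y := by
  have h1 : Commute (lft π (dt a b c d)) y :=
    hs.commute_of_eq (by rw [hs.map_lft_dt, hy]) (hl a b c d h)
  exact (hs.commute_of_eq (show π (lft π (dt a b c d)) = π x by rw [hs.map_lft_dt, hx]) h1.symm).symm

theorem Uq_parts {a b c d : α} (h : D4 a b c d) :
    ∃ u : G, Uq π a b c d = T π b c d * u * (T π b c d)⁻¹ * u⁻¹ ∧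
      π u = dt a c b d ∧ π (T π b c d * u * (T π b c d)⁻¹) = dt a d c b ∧
      π (u * u) = 1 ∧ Commute (T π b c d * u * (T π b c d)⁻¹) u := by
  obtain ⟨hab, hac, had, hbc, hbd, hcd⟩ := id h
  set u := lft π (dt a c b d) with hu
  have hπu : π u = dt a c b d := hs.map_lft_dt _ _ _ _
  have hπ1 : π (T π b c d * u * (T π b c d)⁻¹) = dt a d c b := by
    rw [map_mul, map_mul, map_inv, hs.map_T h.tail, hπu, conj_dt, cyc_apply_other hab hac had,
      cyc_apply_snd hbc hbd, cyc_apply_fst hbd hcd, cyc_apply_thd hbc hbd hcd]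
  refine ⟨u, rfl, hπu, hπ1, by rw [map_mul, hπu, dt_sq h.swap23], ?_⟩
  refine hs.lin_comm hl (a := a) (b := d) (c := c) (d := b) h.rot.swap23 hπ1 ?_
  rw [hπu, dt_swap34 h.swap23]

theorem Uq_sq {a b c d : α} (h : D4 a b c d) : Uq π a b c d * Uq π a b c d = 1 := by
  obtain ⟨u, hU, -, -, hu2, hc⟩ := hs.Uq_parts hl h
  set t := T π b c d with ht
  have h1 : t * (u * u) * t⁻¹ = u * u := by rw [hs.central' hu2 t, mul_inv_cancel_right]
  calc Uq π a b c d * Uq π a b c d = (t * u * t⁻¹) * (u⁻¹ * (t * u * t⁻¹)) * u⁻¹ := by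
        rw [hU]; group
    _ = (t * u * t⁻¹) * ((t * u * t⁻¹) * u⁻¹) * u⁻¹ := by rw [hc.inv_right.eq]
    _ = t * (u * u) * t⁻¹ * (u * u)⁻¹ := by group
    _ = 1 := by rw [h1, mul_inv_cancel]

theorem Uq_prod {a b c d : α} (h : D4 a b c d) :
    Uq π a b c d * Uq π a c d b * Uq π a d b c = 1 := by
  set t := T π b c d with ht
  set u0 := lft π (dt a c b d) with hu0
  set u1 := t * u0 * t⁻¹ with hu1
  set u2 := t * u1 * t⁻¹ with hu2
  obtain ⟨hab, hac, had, hbc, hbd, hcd⟩ := id h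
  have ht3 := hs.T_pow_three h.tail
  have hπ0 : π u0 = dt a c b d := hs.map_lft_dt _ _ _ _
  have key : ∀ {x y z w : α}, π u0 = dt x y z w → π u1 = dt (π t x) (π t y) (π t z) (π t w) :=
    fun hx => by rw [hu1, map_mul, map_mul, map_inv, hx, conj_dt]
  have ta : π t a = a := by rw [ht, hs.map_T h.tail, cyc_apply_other hab hac had]
  have tb : π t b = c := by rw [ht, hs.map_T h.tail, cyc_apply_fst hbd hcd]
  have tc : π t c = d := by rw [ht, hs.map_T h.tail, cyc_apply_snd hbc hbd]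
  have td : π t d = b := by rw [ht, hs.map_T h.tail, cyc_apply_thd hbc hbd hcd]
  have hπ1 : π u1 = dt a d c b := by rw [key hπ0, ta, tb, tc, td]
  have hπ2 : π u2 = dt a b d c := by
    rw [hu2, map_mul, map_mul, map_inv, hπ1, conj_dt, ta, tb, tc, td]
  have e2 : Uq π a c d b = ⁅t, u1⁆ := by
    rw [Uq, hs.T_rot h.tail]
    exact hs.comm_center (by rw [hs.map_lft_dt, hπ1]) _
  have e3 : Uq π a d b c = ⁅t, u2⁆ := by
    rw [Uq, ← hs.T_rot (a := d) (b := b) (c := c) ⟨hbd.symm, hcd.symm, hbc⟩]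
    exact hs.comm_center (by rw [hs.map_lft_dt, hπ2]) _
  have e1 : Uq π a b c d = ⁅t, u0⁆ := rfl
  have h0 : t * u2 * t⁻¹ = u0 := by
    rw [hu2, hu1, show t * (t * (t * u0 * t⁻¹) * t⁻¹) * t⁻¹ = t ^ 3 * u0 * (t ^ 3)⁻¹ by rw [pow_three]; group,
      ht3]
    group
  have c01 : Commute u1 u0 :=
    hs.lin_comm hl (a := a) (b := d) (c := c) (d := b) h.rot.swap23 hπ1
      (by rw [hπ0, dt_swap34 h.swap23])
  have c02 : Commute u2 u0 :=
    hs.lin_comm hl (a := a) (b := b) (c := c) (d := d) h (by rw [hπ2, dt_swap34 h]) hπ0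
  have c12 : Commute u2 u1 :=
    hs.lin_comm hl (a := a) (b := b) (c := d) (d := c) h.swap34 hπ2 (by
      rw [hπ1, dt_swap34 h.rot.swap23])
  rw [e1, e2, e3, commutatorElement_def, commutatorElement_def, commutatorElement_def, ← hu1,
    ← hu2, h0]
  calc u1 * u0⁻¹ * (u2 * u1⁻¹) * (u0 * u2⁻¹)
      = u1 * (u0⁻¹ * (u2 * u1⁻¹)) * (u0 * u2⁻¹) := by group
    _ = u1 * ((u2 * u1⁻¹) * u0⁻¹) * (u0 * u2⁻¹) := by
        rw [(c02.symm.mul_right c01.symm.inv_right).inv_left.eq]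
    _ = u1 * (u2 * (u1⁻¹ * u2⁻¹)) := by group
    _ = u1 * (u2 * (u2⁻¹ * u1⁻¹)) := by rw [c12.symm.inv_inv.eq]
    _ = 1 := by group

theorem Uq_commute_disjoint {a b c d e f g h : α} (h₁ : D4 a b c d) (h₂ : D4 e f g h)
    (ha : a ≠ e ∧ a ≠ f ∧ a ≠ g ∧ a ≠ h) (hb : b ≠ e ∧ b ≠ f ∧ b ≠ g ∧ b ≠ h)
    (hc : c ≠ e ∧ c ≠ f ∧ c ≠ g ∧ c ≠ h) (hd : d ≠ e ∧ d ≠ f ∧ d ≠ g ∧ d ≠ h) :
    Commute (Uq π a b c d) (Uq π e f g h) := by
  refine hs.commute_disjoint (S := {e, f, g, h}) ?_ ?_ ?_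
  · rw [Finset.card_compl]
    have := hs.nine
    have := (Finset.card_le_four (a := e) (b := f) (c := g) (d := h))
    omega
  · intro x hx
    simp only [Finset.mem_insert, Finset.mem_singleton, not_or] at hx
    rw [hs.map_Uq h₂, dt_apply_other hx.1 hx.2.1 hx.2.2.1 hx.2.2.2]
  · intro x hx
    simp only [Finset.mem_insert, Finset.mem_singleton] at hx
    rw [hs.map_Uq h₁]
    rcases hx with rfl | rfl | rfl | rfl
    · exact dt_apply_other ha.1.symm hb.1.symm hc.1.symm hd.1.symm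
    · exact dt_apply_other ha.2.1.symm hb.2.1.symm hc.2.1.symm hd.2.1.symm
    · exact dt_apply_other ha.2.2.1.symm hb.2.2.1.symm hc.2.2.1.symm hd.2.2.1.symm
    · exact dt_apply_other ha.2.2.2.symm hb.2.2.2.symm hc.2.2.2.symm hd.2.2.2.symm

theorem Uq_commute_same {a b c d : α} (h : D4 a b c d) :
    Commute (Uq π a b c d) (Uq π a c d b) := by
  refine hs.lin_comm hl h (hs.map_Uq h) ?_
  rw [hs.map_Uq h.rot, dt_swap34 h.swap23]

end Setup

end CfsgLib.AltSection
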