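import Cfsg.Agent.Lib.AltSection.Setup
import Cfsg.Agent.Lib.AltSection.Eig

/-!
Reduction of the degree bound to irreducible representations of perfect central extensions.
-/

set_option autoImplicit false

namespace CfsgLib.AltSection

open Equiv Module
open scoped commutatorElement

variable {k : Type*} [Field k] {V : Type*} [AddCommGroup V] [Module k V]
  {G : Type*} [Group G]

/-- The elements acting by scalars. -/
def scalars (ρ : Representation k G V) : Subgroup G where
  carrier := {x | ∃ c : k, ρ x = c • (1 : Module.End k V)}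
  one_mem' := ⟨1, by rw [map_one, one_smul]⟩
  mul_mem' := fun {x y} ⟨c, hc⟩ ⟨d, hd⟩ => ⟨c * d, by
    rw [map_mul, hc, hd, smul_mul_smul_comm, mul_one]⟩
  inv_mem' := fun {x} ⟨c, hc⟩ => ⟨c⁻¹, by
    rcases eq_or_ne c 0 with rfl | hc0
    · have h1 : ρ x⁻¹ * ρ x = 1 := by rw [← map_mul, inv_mul_cancel, map_one]
      rw [zero_smul] at hc
      rw [hc, mul_zero] at h1
      haveI : Subsingleton (Module.End k V) := subsingleton_of_zero_eq_one h1
      exact Subsingleton.elim _ _
    · have h1 : ρ x⁻¹ * ρ x = 1 := by rw [← map_mul, inv_mul_cancel, map_one]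
      rw [hc, mul_smul_comm, mul_one] at h1
      rw [← h1, smul_smul, inv_mul_cancel₀ hc0, one_smul]⟩

theorem mem_scalars {ρ : Representation k G V} {x : G} :
    x ∈ scalars ρ ↔ ∃ c : k, ρ x = c • (1 : Module.End k V) := Iff.rfl

theorem scalars_comm {ρ : Representation k G V} (hinj : Function.Injective ρ) {x : G}
    (hx : x ∈ scalars ρ) (g : G) : Commute x g := by
  obtain ⟨c, hc⟩ := hx
  exact hinj (by rw [map_mul, map_mul, hc, smul_one_mul, mul_smul_one])

/-- A commuting finite family has a common eigenvector. -/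
theorem exists_common_eigen [IsAlgClosed k] [FiniteDimensional k V] [Nontrivial V] {ι : Type*}
    (f : ι → Module.End k V) (hc : ∀ i j, Commute (f i) (f j)) :
    ∃ μ : ι → k, (⨅ i, (f i).eigenspace (μ i)) ≠ ⊥ := by
  classical
  have hex : ∃ d, ∃ W : Submodule k V, (∀ i, ∀ v ∈ W, f i v ∈ W) ∧ W ≠ ⊥ ∧ finrank k W = d :=
    ⟨_, ⊤, fun _ _ _ => trivial, top_ne_bot, rfl⟩
  obtain ⟨W, hW, hW0, hWd⟩ := Nat.find_spec hex
  have hall : ∀ i, ∃ μ : k, ∀ v ∈ W, f i v = μ • v := by
    intro i
    haveI : Nontrivial W := Submodule.nontrivial_iff_ne_bot.2 hW0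
    obtain ⟨μ, hμ⟩ := Module.End.exists_eigenvalue ((f i).restrict (hW i))
    obtain ⟨w, hw⟩ := hμ.exists_hasEigenvector
    set W' := W ⊓ (f i).eigenspace μ with hW'def
    have hwv : f i (w : V) = μ • (w : V) := by
      have := congrArg Subtype.val hw.apply_eq_smul
      simpa [LinearMap.restrict_apply] using this
    have hne : W' ≠ ⊥ := by
      refine (Submodule.ne_bot_iff _).2 ⟨w, ⟨w.2, Module.End.mem_eigenspace_iff.2 hwv⟩, ?_⟩
      exact fun h => hw.2 (Subtype.ext h)
    have hinv : ∀ j, ∀ v ∈ W', f j v ∈ W' := by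
      intro j v hv
      refine ⟨hW j v hv.1, Module.End.mem_eigenspace_iff.2 ?_⟩
      have h1 := DFunLike.congr_fun (hc i j).eq v
      simp only [Module.End.mul_apply] at h1
      rw [h1, Module.End.mem_eigenspace_iff.1 hv.2, map_smul]
    have hmin := Nat.find_min' hex ⟨W', hinv, hne, rfl⟩
    have heq : W' = W := Submodule.eq_of_le_of_finrank_le inf_le_left (by omega)
    exact ⟨μ, fun v hv => Module.End.mem_eigenspace_iff.1 ((heq.ge.trans inf_le_right) hv)⟩
  choose μ hμ using hall
  refine ⟨μ, ?_⟩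
  obtain ⟨v, hv, hv0⟩ := (Submodule.ne_bot_iff _).1 hW0
  exact (Submodule.ne_bot_iff _).2
    ⟨v, Submodule.mem_iInf _ |>.2 fun i => Module.End.mem_eigenspace_iff.2 (hμ i v hv), hv0⟩

/-- Joint eigenspaces of a commuting family are at most as many as the dimension. -/
theorem card_weights_le [FiniteDimensional k V] {ι : Type*} (f : ι → Module.End k V)
    (hc : ∀ i j, Commute (f i) (f j)) :
    {μ : ι → k | (⨅ i, (f i).eigenspace (μ i)) ≠ ⊥}.Finite ∧
      Nat.card {μ : ι → k // (⨅ i, (f i).eigenspace (μ i)) ≠ ⊥} ≤ finrank k V := by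
  have h := Module.End.independent_iInf_maxGenEigenspace_of_forall_mapsTo f
    fun i j φ => Module.End.mapsTo_maxGenEigenspace_of_comm (hc j i) φ
  have h' : iSupIndep fun μ : ι → k => ⨅ i, (f i).eigenspace (μ i) := by
    refine iSupIndep.mono h fun μ => ?_
    intro v hv
    simp only [Submodule.mem_iInf] at hv ⊢
    intro i
    exact ((f i).genEigenspace (μ i)).mono le_top (hv i)
  have hfin : {μ : ι → k | (⨅ i, (f i).eigenspace (μ i)) ≠ ⊥}.Finite :=
    WellFoundedGT.finite_ne_bot_of_iSupIndep h'
  refine ⟨hfin, ?_⟩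
  haveI := hfin.fintype
  haveI : Fintype {μ : ι → k // (⨅ i, (f i).eigenspace (μ i)) ≠ ⊥} := hfin.fintype
  rw [Nat.card_eq_fintype_card]
  exact h'.subtype_ne_bot_le_finrank

variable {r : ℕ}

theorem card_alt (hr : 9 ≤ r) :
    2 * Nat.card (alternatingGroup (Fin r)) = r.factorial := by
  haveI : Nontrivial (Fin r) := Fin.nontrivial_iff_two_le.2 (by omega)
  rw [Nat.card_eq_fintype_card, two_mul_card_alternatingGroup, Fintype.card_perm, Fintype.card_fin]

/-- Normal subgroups either die in the alternating quotient or are everything. -/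
theorem normal_cases {π : G →* Equiv.Perm (Fin r)} (hr : 9 ≤ r)
    (hrange : π.range = alternatingGroup (Fin r))
    (hmin : ∀ H : Subgroup G, H.map π = alternatingGroup (Fin r) → H = ⊤)
    (N : Subgroup G) [N.Normal] : N ≤ π.ker ∨ N = ⊤ := by
  haveI : IsSimpleGroup (alternatingGroup (Fin r)) :=
    alternatingGroup.isSimpleGroup (by rw [Nat.card_fin]; omega)
  let π' : G →* alternatingGroup (Fin r) := π.codRestrict _ fun g => hrange ▸ ⟨g, rfl⟩
  have hsurj : Function.Surjective π' := fun σ => by
    obtain ⟨g, hg⟩ := (hrange.symm ▸ σ.2 : (σ : Equiv.Perm (Fin r)) ∈ π.range)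
    exact ⟨g, Subtype.ext hg⟩
  have hN : (N.map π').Normal := Subgroup.Normal.map inferInstance π' hsurj
  rcases hN.eq_bot_or_eq_top with h | h
  · refine Or.inl fun g hg => ?_
    have h1 := Subgroup.mem_map_of_mem π' hg
    rw [h, Subgroup.mem_bot] at h1
    exact congrArg Subtype.val h1
  · refine Or.inr (hmin N ?_)
    refine le_antisymm (hrange ▸ Subgroup.map_le_range π N) fun σ hσ => ?_
    obtain ⟨g, hg, hge⟩ := (h.ge (Subgroup.mem_top (⟨σ, hσ⟩ : alternatingGroup (Fin r))))
    exact ⟨g, hg, congrArg Subtype.val hge⟩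

theorem not_range_trivial {π : G →* Equiv.Perm (Fin r)} (hr : 9 ≤ r)
    (hrange : π.range = alternatingGroup (Fin r)) : ¬ ∀ g, π g = 1 := by
  intro h
  have hcard := card_alt hr
  have hbot : alternatingGroup (Fin r) = ⊥ := by
    rw [← hrange, MonoidHom.range_eq_bot_iff]
    exact MonoidHom.ext h
  rw [hbot, Subgroup.card_bot] at hcard
  have := Nat.factorial_le hr
  norm_num [Nat.factorial] at this
  omega

/-- A normal commutative subgroup acts by scalars. -/
theorem normal_comm_scalar [IsAlgClosed k] [FiniteDimensional k V] [Nontrivial V] [Finite G]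
    {ρ : Representation k G V} {π : G →* Equiv.Perm (Fin r)} (hr : 9 ≤ r)
    (hrange : π.range = alternatingGroup (Fin r))
    (hmin : ∀ H : Subgroup G, H.map π = alternatingGroup (Fin r) → H = ⊤)
    (hirr : ∀ W : Submodule k V, (∀ g, ∀ v ∈ W, ρ g v ∈ W) → W = ⊥ ∨ W = ⊤)
    (hn : finrank k V + 2 ≤ r) (A : Subgroup G) [hA : A.Normal]
    (hcomm : ∀ a ∈ A, ∀ b ∈ A, Commute a b) : A ≤ scalars ρ := by
  classical
  let f : A → Module.End k V := fun a => ρ (a : G)
  have hc : ∀ i j, Commute (f i) (f j) := fun i j => (hcomm _ i.2 _ j.2).map ρ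
  obtain ⟨μ₀, hμ₀⟩ := exists_common_eigen f hc
  obtain ⟨hfin, hcard⟩ := card_weights_le f hc
  let tw : G → (A → k) → (A → k) := fun g μ a =>
    μ ⟨g⁻¹ * a * g, by simpa using hA.conj_mem _ a.2 g⁻¹⟩
  have hmap : ∀ g μ, (⨅ a, (f a).eigenspace (μ a)).map (ρ g) ≤
      ⨅ a, (f a).eigenspace (tw g μ a) := by
    rintro g μ _ ⟨v, hv, rfl⟩
    rw [SetLike.mem_coe, Submodule.mem_iInf] at hv
    rw [Submodule.mem_iInf]
    intro a
    have h1 := Module.End.mem_eigenspace_iff.1
      (hv ⟨g⁻¹ * a * g, by simpa using hA.conj_mem _ a.2 g⁻¹⟩)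
    rw [Module.End.mem_eigenspace_iff]
    show ρ (a : G) (ρ g v) = _
    rw [← rho_mul, show (a : G) * g = g * (g⁻¹ * a * g) by group, rho_mul,
      show ρ (g⁻¹ * a * g) v = tw g μ a • v from h1, map_smul]
  let S := {μ : A → k // (⨅ a, (f a).eigenspace (μ a)) ≠ ⊥}
  haveI : Finite S := hfin.to_subtype
  have hmem : ∀ g (μ : S), (⨅ a, (f a).eigenspace (tw g μ.1 a)) ≠ ⊥ := fun g μ h => by
    apply μ.2
    have h1 := hmap g μ.1
    rw [h, le_bot_iff] at h1
    exact Submodule.map_injective_of_injective (rho_injective ρ g)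
      (h1.trans (Submodule.map_bot _).symm)
  have htw : ∀ g h μ, tw (g * h) μ = tw g (tw h μ) := fun g h μ => funext fun a => by
    simp only [tw]
    exact congrArg μ (Subtype.ext (by simp only [mul_inv_rev]; group))
  have htw1 : ∀ μ, tw 1 μ = μ := fun μ => funext fun a => by
    simp only [tw]
    exact congrArg μ (Subtype.ext (by group))
  let F : G →* Equiv.Perm S :=
    { toFun := fun g =>
        { toFun := fun μ => ⟨tw g μ.1, hmem g μ⟩
          invFun := fun μ => ⟨tw g⁻¹ μ.1, hmem g⁻¹ μ⟩
          left_inv := fun μ => Subtype.ext (show tw g⁻¹ (tw g μ.1) = μ.1 by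
            rw [← htw, inv_mul_cancel, htw1])
          right_inv := fun μ => Subtype.ext (show tw g (tw g⁻¹ μ.1) = μ.1 by
            rw [← htw, mul_inv_cancel, htw1]) }
      map_one' := Equiv.ext fun μ => Subtype.ext (htw1 _)
      map_mul' := fun g h => Equiv.ext fun μ => Subtype.ext (htw g h _) }
  rcases normal_cases hr hrange hmin F.ker with hle | htop
  · exfalso
    have h1 : π.ker.index ≤ F.ker.index :=
      Nat.le_of_dvd (Nat.pos_of_ne_zero Subgroup.index_ne_zero_of_finite)
        (Subgroup.index_dvd_of_le hle)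
    rw [Subgroup.index_ker, Subgroup.index_ker, hrange] at h1
    have h2 : Nat.card F.range ≤ (finrank k V).factorial :=
      (Nat.card_le_card_of_injective _ Subtype.val_injective).trans <| by
        rw [Nat.card_perm]
        exact Nat.factorial_le hcard
    have h3 : 2 * (finrank k V).factorial < r.factorial := by
      have h4 : (finrank k V + 2).factorial ≤ r.factorial := Nat.factorial_le hn
      have h5 : 0 < (finrank k V).factorial := Nat.factorial_pos _
      have h6 : 0 < finrank k V := Module.finrank_pos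
      rw [Nat.factorial_succ, Nat.factorial_succ] at h4
      have h7 : 2 * ((finrank k V + 1) * (finrank k V).factorial) ≤
          (finrank k V + 1 + 1) * ((finrank k V + 1) * (finrank k V).factorial) :=
        Nat.mul_le_mul_right _ (by omega)
      have h8 : 2 * (finrank k V).factorial ≤ (finrank k V + 1) * (finrank k V).factorial :=
        Nat.mul_le_mul_right _ (by omega)
      omega
    have := card_alt hr
    omega
  · have hinv : ∀ g, ∀ v ∈ ⨅ a, (f a).eigenspace (μ₀ a),
        ρ g v ∈ ⨅ a, (f a).eigenspace (μ₀ a) := by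
      intro g v hv
      have hg : F g = 1 := MonoidHom.mem_ker.1 (htop ▸ Subgroup.mem_top g)
      have h1 := congrArg Subtype.val (DFunLike.congr_fun hg ⟨μ₀, hμ₀⟩)
      have h2 := hmap g μ₀ (Submodule.mem_map_of_mem hv)
      change tw g μ₀ = μ₀ at h1
      rwa [h1] at h2
    have htopE : (⨅ a, (f a).eigenspace (μ₀ a)) = ⊤ := (hirr _ hinv).resolve_left hμ₀
    intro a ha
    refine ⟨μ₀ ⟨a, ha⟩, LinearMap.ext fun v => ?_⟩
    have h1 := (Submodule.mem_iInf _).1 (htopE.ge (Submodule.mem_top (x := v))) ⟨a, ha⟩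
    exact Module.End.mem_eigenspace_iff.1 h1

theorem four_pow_le {n : ℕ} (hn : 5 ≤ n) : n ^ 2 < 2 ^ n := by
  induction n, hn using Nat.le_induction with
  | base => norm_num
  | succ n hn ih =>
    rw [pow_succ 2 n]
    nlinarith

/-- A representation over `ZMod q` from an action by additive endomorphisms. -/
def zmodRep (q : ℕ) {W : Type} [AddCommGroup W] [Module (ZMod q) W] {G : Type} [Group G]
    (f : G → (W →+ W)) (h1 : ∀ a, f 1 a = a) (hm : ∀ g h a, f (g * h) a = f g (f h a)) :
    Representation (ZMod q) G W where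
  toFun g := (f g).toZModLinearMap q
  map_one' := LinearMap.ext fun a => h1 a
  map_mul' g h := LinearMap.ext fun a => hm g h a

theorem zmodRep_apply (q : ℕ) {W : Type} [AddCommGroup W] [Module (ZMod q) W] {G : Type}
    [Group G] (f : G → (W →+ W)) (h1 : ∀ a, f 1 a = a)
    (hm : ∀ g h a, f (g * h) a = f g (f h a)) (g : G) (a : W) : zmodRep q f h1 hm g a = f g a :=
  rfl

/-- The alternating quotient cannot be realised on so small an elementary abelian group. -/
theorem small_space_false {G : Type} [Group G] [Finite G] {π : G →* Equiv.Perm (Fin r)}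
    (hr : 9 ≤ r) (hrange : π.range = alternatingGroup (Fin r)) {n : ℕ} (hnpos : 0 < n)
    (IH : ∀ m < n, Bound m) (hn : n + 2 ≤ r) (q : ℕ) [hq : Fact q.Prime] {W : Type}
    [AddCommGroup W] [Module (ZMod q) W] [Finite W] [Nontrivial W]
    (ρW : Representation (ZMod q) G W) (hker : ∀ g, ρW g = 1 → π g = 1)
    (hlin : Nat.card W ≤ n ^ 2) : False := by
  haveI : Module.Finite (ZMod q) W := Module.Finite.of_finite
  set w := finrank (ZMod q) W with hw
  rw [Module.natCard_eq_pow_finrank (K := ZMod q), Nat.card_zmod, ← hw] at hlin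
  have hwpos : 0 < w := Module.finrank_pos
  have h2w : 2 ^ w ≤ q ^ w := Nat.pow_le_pow_left hq.out.two_le w
  rcases Nat.lt_or_ge w n with hlt | hge
  · let kb := AlgebraicClosure (ZMod q)
    haveI : CharP kb q := charP_of_injective_algebraMap (algebraMap (ZMod q) kb).injective q
    let b : Module.Basis (Fin w) (ZMod q) W := Module.finBasis (ZMod q) W
    let φ : (W →ₗ[ZMod q] W) → Module.End kb (Fin w → kb) := fun f =>
      Matrix.toLinAlgEquiv' ((algebraMap (ZMod q) kb).mapMatrix (LinearMap.toMatrixAlgEquiv b f))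
    have hφ : Function.Injective φ :=
      (Matrix.toLinAlgEquiv' (R := kb)).injective.comp
        ((Matrix.map_injective (algebraMap (ZMod q) kb).injective).comp
          (LinearMap.toMatrixAlgEquiv b).injective)
    have hφ1 : φ 1 = 1 := by
      simp [φ]
    have hφm : ∀ f g, φ (f * g) = φ f * φ g := fun f g => by
      simp only [φ, LinearMap.toMatrixAlgEquiv_mul, map_mul]
    let ρ' : Representation kb G (Fin w → kb) :=
      { toFun := fun g => φ (ρW g)
        map_one' := by rw [map_one]; exact hφ1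
        map_mul' := fun g h => by rw [map_mul]; exact hφm _ _ }
    have hb := IH w hlt kb q (Fin w → kb) G r ρ' π hr hrange (fun g hg => by
      refine hker g (hφ ?_)
      rw [hφ1]; exact hg) (by simp)
    have hw2 : r - 2 ≤ w := by split_ifs at hb <;> omega
    have h3 : 2 ^ (r - 2) ≤ n ^ 2 :=
      ((Nat.pow_le_pow_right (by norm_num) hw2).trans h2w).trans hlin
    have h4 := four_pow_le (n := r - 2) (by omega)
    have h5 : n ^ 2 ≤ (r - 2) ^ 2 := Nat.pow_le_pow_left (by omega) 2
    omega
  · have h3 : 2 ^ n ≤ n ^ 2 :=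
      ((Nat.pow_le_pow_right (by norm_num) hge).trans h2w).trans hlin
    have hn4 : n ≤ 4 := by
      by_contra hc
      have := four_pow_le (n := n) (by omega)
      omega
    have hq16 : q ^ w ≤ 16 := hlin.trans (by
      have := Nat.pow_le_pow_left hn4 2
      omega)
    have hw4 : w ≤ 4 := by
      by_contra hc
      have : 2 ^ 5 ≤ 2 ^ w := Nat.pow_le_pow_right (by norm_num) (by omega)
      omega
    have hfun : Nat.card (Fin w → W) ≤ 65536 := by
      rw [Nat.card_fun, Nat.card_fin, Module.natCard_eq_pow_finrank (K := ZMod q), Nat.card_zmod,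
        ← hw]
      calc (q ^ w) ^ w ≤ 16 ^ w := Nat.pow_le_pow_left hq16 w
        _ ≤ 16 ^ 4 := Nat.pow_le_pow_right (by norm_num) hw4
        _ = 65536 := by norm_num
    let b : Module.Basis (Fin w) (ZMod q) W := Module.finBasis (ZMod q) W
    let s : π.range → (Fin w → W) := fun σ i => ρW σ.2.choose (b i)
    have hs : Function.Injective s := fun σ τ h => by
      apply Subtype.ext
      rw [← σ.2.choose_spec, ← τ.2.choose_spec]
      have h0 : ρW σ.2.choose = ρW τ.2.choose := b.ext fun i => congrFun h i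
      have h1 : ρW (σ.2.choose * τ.2.choose⁻¹) = 1 := by
        rw [map_mul, h0, ← map_mul, mul_inv_cancel, map_one]
      have h2 := hker _ h1
      rwa [map_mul, map_inv, mul_inv_eq_one] at h2
    have hle := (Nat.card_le_card_of_injective s hs).trans hfun
    rw [hrange] at hle
    have := card_alt hr
    have h9 := Nat.factorial_le hr
    norm_num [Nat.factorial] at h9
    omega

/-- Under the inductive hypothesis, the kernel of the alternating quotient of a minimal
irreducible faithful counterexample acts by scalars. -/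
theorem ker_le_scalars {k : Type} [Field k] [IsAlgClosed k] {V : Type} [AddCommGroup V]
    [Module k V] [FiniteDimensional k V] [Nontrivial V] {G : Type} [Group G] [Finite G]
    {ρ : Representation k G V} {π : G →* Equiv.Perm (Fin r)}
    (IH : ∀ m < finrank k V, Bound m) (hr : 9 ≤ r)
    (hrange : π.range = alternatingGroup (Fin r)) (hinj : Function.Injective ρ)
    (hmin : ∀ H : Subgroup G, H.map π = alternatingGroup (Fin r) → H = ⊤)
    (hperf : commutator G = ⊤)
    (hirr : ∀ W : Submodule k V, (∀ g, ∀ v ∈ W, ρ g v ∈ W) → W = ⊥ ∨ W = ⊤)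
    (hn : finrank k V + 2 ≤ r) : π.ker ≤ scalars ρ := by
  classical
  set Z := scalars ρ with hZdef
  have hZc : ∀ {x : G}, x ∈ Z → ∀ g : G, Commute x g := fun hx g => scalars_comm hinj hx g
  have hconjZ : ∀ {x : G}, x ∈ Z → ∀ g : G, g * x * g⁻¹ = x := fun hx g => by
    rw [(hZc hx g).symm.eq, mul_inv_cancel_right]
  haveI hZn : Z.Normal := ⟨fun x hx g => by rw [hconjZ hx g]; exact hx⟩
  by_contra hK
  obtain ⟨x₀, hx₀K, hx₀Z⟩ := SetLike.not_le_iff_exists.1 hK
  -- the kernel is nilpotent
  have hfr : π.ker ≤ frattini G := by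
    refine le_iInf₂ fun M hM => ?_
    by_contra hc
    have hne : M ⊔ π.ker = ⊤ := hM.2 _ (lt_of_le_of_ne le_sup_left fun h => hc (h ▸ le_sup_right))
    refine hM.1 (hmin M ?_)
    have h1 : M.map π = (M ⊔ π.ker).map π := by
      rw [Subgroup.map_sup, (Subgroup.map_eq_bot_iff _).2 le_rfl, sup_bot_eq]
    rw [h1, hne, ← MonoidHom.range_eq_map, hrange]
  haveI : Group.IsNilpotent π.ker := by
    haveI := frattini_nilpotent (G := G)
    exact Subgroup.isNilpotent_of_ker_le_center (Subgroup.inclusion hfr)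
      (by rw [(MonoidHom.ker_eq_bot_iff _).2 (Subgroup.inclusion_injective hfr)]; exact bot_le)
  -- an element of prime order modulo scalars in the centre modulo scalars
  set Q := π.ker ⧸ Z.subgroupOf π.ker with hQ
  haveI : Nontrivial Q := ⟨⟨QuotientGroup.mk ⟨x₀, hx₀K⟩, 1, fun h => hx₀Z (by
    have := (QuotientGroup.eq_one_iff _).1 h
    rwa [Subgroup.mem_subgroupOf] at this)⟩⟩
  obtain ⟨q, hq, hdvd⟩ := Nat.exists_prime_and_dvd (n := Nat.card (Subgroup.center Q))
    (fun h => Group.IsNilpotent.center_ne_bot (G := Q) (Subgroup.card_eq_one.1 h))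
  haveI := Fact.mk hq
  obtain ⟨zq, hzq⟩ := exists_prime_orderOf_dvd_card' q hdvd
  obtain ⟨⟨x, hxK⟩, hx⟩ := QuotientGroup.mk_surjective (zq : Q)
  have hxZ : x ∉ Z := fun h => by
    have h1 : (zq : Q) = 1 := by
      rw [← hx]; exact (QuotientGroup.eq_one_iff _).2 (Subgroup.mem_subgroupOf.2 h)
    rw [show zq = 1 from Subtype.ext h1, orderOf_one] at hzq
    exact hq.one_lt.ne hzq
  have hxq : x ^ q ∈ Z := by
    have h1 : ((zq : Q)) ^ q = 1 := by
      rw [← Subgroup.coe_pow, ← hzq, pow_orderOf_eq_one, Subgroup.coe_one]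
    rw [← hx, ← QuotientGroup.mk_pow] at h1
    exact Subgroup.mem_subgroupOf.1 ((QuotientGroup.eq_one_iff _).1 h1)
  have hxc : ∀ z ∈ π.ker, ⁅x, z⁆ ∈ Z := by
    intro z hz
    have h1 := Subgroup.mem_center_iff.1 zq.2 (QuotientGroup.mk ⟨z, hz⟩)
    rw [← hx] at h1
    have h2 : ((⁅(⟨x, hxK⟩ : π.ker), ⟨z, hz⟩⁆ : π.ker) : Q) = 1 := by
      show (QuotientGroup.mk' _) _ = 1
      rw [map_commutatorElement, commutatorElement_eq_one_iff_commute]
      exact h1.symm
    exact Subgroup.mem_subgroupOf.1 ((QuotientGroup.eq_one_iff _).1 h2)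
  -- the subgroup of all such elements
  let P1 : Subgroup G :=
    { carrier := {y | y ∈ π.ker ∧ (∀ z ∈ π.ker, ⁅y, z⁆ ∈ Z) ∧ y ^ q ∈ Z}
      one_mem' := ⟨one_mem _, fun z _ => by rw [commutatorElement_one_left]; exact one_mem _,
        by rw [one_pow]; exact one_mem _⟩
      mul_mem' := fun {a b} ha hb => ⟨mul_mem ha.1 hb.1, fun z hz => by
          have h1 : ⁅a * b, z⁆ = a * ⁅b, z⁆ * a⁻¹ * ⁅a, z⁆ := by
            simp only [commutatorElement_def]; group
          rw [h1, hconjZ (hb.2.1 z hz)]
          exact mul_mem (hb.2.1 z hz) (ha.2.1 z hz), by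
          have hz := hb.2.1 a ha.1
          have h1 : ∀ m : ℕ, ∃ c ∈ Z, (a * b) ^ m = c * (a ^ m * b ^ m) := by
            intro m
            induction m with
            | zero => exact ⟨1, one_mem _, by simp⟩
            | succ m ih =>
              obtain ⟨c, hc, hcm⟩ := ih
              have hba : ∃ d ∈ Z, b ^ m * a = d * (a * b ^ m) := by
                clear hcm
                induction m with
                | zero => exact ⟨1, one_mem _, by simp⟩
                | succ m ih2 =>
                  obtain ⟨d, hd, hdm⟩ := ih2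
                  refine ⟨d * ⁅b, a⁆, mul_mem hd hz, ?_⟩
                  have h2 : b * a = ⁅b, a⁆ * (a * b) := by
                    simp only [commutatorElement_def]; group
                  calc b ^ (m + 1) * a = b * (b ^ m * a) := by rw [pow_succ']; group
                    _ = (b * d) * (a * b ^ m) := by rw [hdm]; group
                    _ = d * (b * a) * b ^ m := by rw [← (hZc hd b).eq]; group
                    _ = d * ⁅b, a⁆ * (a * b ^ (m + 1)) := by rw [h2, pow_succ']; group
              obtain ⟨d, hd, hdm⟩ := hba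
              refine ⟨c * d, mul_mem hc hd, ?_⟩
              calc (a * b) ^ (m + 1) = c * (a ^ m * (b ^ m * a)) * b := by
                    rw [pow_succ, hcm]; group
                _ = c * ((a ^ m * d) * (a * b ^ m)) * b := by rw [hdm]; group
                _ = c * d * (a ^ (m + 1) * b ^ (m + 1)) := by
                    rw [← (hZc hd (a ^ m)).eq, pow_succ, pow_succ]; group
          obtain ⟨c, hc, hcq⟩ := h1 q
          rw [hcq]
          exact mul_mem hc (mul_mem ha.2.2 hb.2.2)⟩
      inv_mem' := fun {a} ha => ⟨inv_mem ha.1, fun z hz => by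
          have h1 : ⁅a⁻¹, z⁆ = a⁻¹ * ⁅a, z⁆⁻¹ * a⁻¹⁻¹ := by
            simp only [commutatorElement_def]; group
          rw [h1, hconjZ (inv_mem (ha.2.1 z hz))]
          exact inv_mem (ha.2.1 z hz), by rw [inv_pow]; exact inv_mem ha.2.2⟩ }
  haveI hP1n : P1.Normal := by
    refine ⟨fun y hy g => ⟨(inferInstance : π.ker.Normal).conj_mem y hy.1 g, fun z hz => ?_, ?_⟩⟩
    · have hz' : g⁻¹ * z * g ∈ π.ker := by
        simpa using (inferInstance : π.ker.Normal).conj_mem z hz g⁻¹
      have h1 : ⁅g * y * g⁻¹, z⁆ = g * ⁅y, g⁻¹ * z * g⁆ * g⁻¹ := by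
        simp only [commutatorElement_def]; group
      rw [h1, hconjZ (hy.2.1 _ hz')]
      exact hy.2.1 _ hz'
    · rw [conj_pow, hconjZ hy.2.2]
      exact hy.2.2
  have hxP1 : x ∈ P1 := ⟨hxK, hxc, hxq⟩
  have hcenter : ∀ y ∈ P1, (∀ z ∈ P1, Commute y z) → y ∈ Z := by
    intro y hy hyc
    haveI : (P1 ⊓ Subgroup.centralizer (P1 : Set G)).Normal := inferInstance
    exact normal_comm_scalar hr hrange hmin hirr hn (P1 ⊓ Subgroup.centralizer (P1 : Set G))
      (fun a ha b hb => Subgroup.mem_centralizer_iff.1 hb.2 a ha.1)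
      ⟨hy, Subgroup.mem_centralizer_iff.2 fun z hz => (hyc z hz).symm.eq⟩
  -- the quotient modulo scalars is small
  set W := P1 ⧸ Z.subgroupOf P1 with hW
  have hcmk : ∀ a b : P1, ⁅(a : G), (b : G)⁆ ∈ Z := fun a b => a.2.2.1 b b.2.1
  have hlin : Nat.card W ≤ finrank k V ^ 2 := by
    let f : P1 → Module.End k (Module.End k V) := fun z =>
      LinearMap.mulLeftRight k (ρ (z : G), ρ (z : G)⁻¹)
    have happ : ∀ (z : P1) (X : Module.End k V), f z X = ρ (z : G) * X * ρ (z : G)⁻¹ :=
      fun z X => by simp [f, LinearMap.mulLeftRight_apply]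
    have hc : ∀ i j, Commute (f i) (f j) := by
      intro i j
      refine LinearMap.ext fun X => ?_
      simp only [Module.End.mul_apply, happ]
      have hij : (i : G) * j = ⁅(i : G), (j : G)⁆ * ((j : G) * i) := by
        simp only [commutatorElement_def]; group
      have hij' : (j : G)⁻¹ * (i : G)⁻¹ = (i : G)⁻¹ * (j : G)⁻¹ * ⁅(i : G), (j : G)⁆⁻¹ := by
        simp only [commutatorElement_def]; group
      obtain ⟨c, hcc⟩ := hcmk i j
      have hcc' : ρ ⁅(i : G), (j : G)⁆ * ρ ⁅(i : G), (j : G)⁆⁻¹ = 1 := by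
        rw [← map_mul, mul_inv_cancel, map_one]
      calc ρ (i : G) * (ρ (j : G) * X * ρ (j : G)⁻¹) * ρ (i : G)⁻¹
          = ρ ((i : G) * j) * X * ρ ((j : G)⁻¹ * (i : G)⁻¹) := by
            simp only [map_mul, mul_assoc]
        _ = ρ ⁅(i : G), (j : G)⁆ * (ρ ((j : G) * i) * X * ρ ((i : G)⁻¹ * (j : G)⁻¹)) *
              ρ ⁅(i : G), (j : G)⁆⁻¹ := by
            rw [hij', hij]; simp only [map_mul, mul_assoc]
        _ = (ρ ((j : G) * i) * X * ρ ((i : G)⁻¹ * (j : G)⁻¹)) *
              (ρ ⁅(i : G), (j : G)⁆ * ρ ⁅(i : G), (j : G)⁆⁻¹) := by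
            rw [hcc, smul_one_mul, ← mul_assoc, mul_smul_one]
        _ = ρ (j : G) * (ρ (i : G) * X * ρ (i : G)⁻¹) * ρ (j : G)⁻¹ := by
            rw [hcc', mul_one]; simp only [map_mul, mul_assoc]
    obtain ⟨hfin, hcard⟩ := card_weights_le f hc
    have hval : ∀ (w : W) (z : P1), ∃ c : k, ρ ⁅(z : G), (w.out : G)⁆ = c • (1 : Module.End k V) :=
      fun w z => hcmk z w.out
    choose χ hχ using hval
    have heig : ∀ w z, ρ (w.out : G) ∈ (f z).eigenspace (χ w z) := by
      intro w z
      rw [Module.End.mem_eigenspace_iff, happ, ← smul_one_mul, ← hχ w z, ← map_mul, ← map_mul,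
        ← map_mul]
      congr 1
      simp only [commutatorElement_def]; group
    have hne : ∀ g : G, ρ g ≠ 0 := fun g h => by
      have h1 : ρ g * ρ g⁻¹ = 1 := by rw [← map_mul, mul_inv_cancel, map_one]
      rw [h, zero_mul] at h1
      exact zero_ne_one h1
    let F : W → {μ : P1 → k // (⨅ z, (f z).eigenspace (μ z)) ≠ ⊥} := fun w =>
      ⟨χ w, (Submodule.ne_bot_iff _).2
        ⟨ρ (w.out : G), (Submodule.mem_iInf _).2 (heig w), hne _⟩⟩
    have hF : Function.Injective F := by
      intro w w' h
      have hh : χ w = χ w' := congrArg Subtype.val h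
      rw [← QuotientGroup.out_eq' w, ← QuotientGroup.out_eq' w', QuotientGroup.eq,
        Subgroup.mem_subgroupOf]
      refine hcenter _ (mul_mem (inv_mem w.out.2) w'.out.2) fun z hz => ?_
      have h1 : ⁅z, (w.out : G)⁆ = ⁅z, (w'.out : G)⁆ := hinj (by
        rw [hχ w ⟨z, hz⟩, hχ w' ⟨z, hz⟩, hh])
      have h2 : z * (w.out : G) * z⁻¹ = ⁅z, (w.out : G)⁆ * w.out := by
        simp only [commutatorElement_def]; group
      have h3 : z * (w'.out : G) * z⁻¹ = ⁅z, (w'.out : G)⁆ * w'.out := by
        simp only [commutatorElement_def]; group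
      have h4 : z * ((w.out : G)⁻¹ * w'.out) * z⁻¹ = (w.out : G)⁻¹ * w'.out := by
        calc z * ((w.out : G)⁻¹ * w'.out) * z⁻¹
            = (z * w.out * z⁻¹)⁻¹ * (z * w'.out * z⁻¹) := by group
          _ = (w.out : G)⁻¹ * w'.out := by rw [h2, h3, h1]; group
      exact (mul_inv_eq_iff_eq_mul.1 h4).symm
    haveI : Finite {μ : P1 → k // (⨅ z, (f z).eigenspace (μ z)) ≠ ⊥} := hfin.to_subtype
    calc Nat.card W ≤ _ := Nat.card_le_card_of_injective F hF
      _ ≤ finrank k (Module.End k V) := hcard
      _ = finrank k V ^ 2 := by rw [Module.finrank_linearMap, sq]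
  -- an elementary abelian section acted on by the whole group
  letI : CommGroup W :=
    { (inferInstance : Group W) with
      mul_comm := fun a b => by
        induction a using QuotientGroup.induction_on with | H a => ?_
        induction b using QuotientGroup.induction_on with | H b => ?_
        rw [← QuotientGroup.mk_mul, ← QuotientGroup.mk_mul, QuotientGroup.eq,
          Subgroup.mem_subgroupOf]
        have h1 : (((a * b)⁻¹ * (b * a) : P1) : G) = ⁅(b : G)⁻¹, (a : G)⁻¹⁆ := by
          simp only [Subgroup.coe_mul, Subgroup.coe_inv, commutatorElement_def]; group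
        rw [h1]
        exact hcmk b⁻¹ a⁻¹ }
  letI hWmod := AddCommGroup.zmodModule (n := q) (G := Additive W) (fun a => by
    obtain ⟨b, hb⟩ := QuotientGroup.mk_surjective (Additive.toMul a)
    apply Additive.toMul.injective
    rw [toMul_nsmul, toMul_zero, ← hb, ← QuotientGroup.mk_pow, QuotientGroup.eq_one_iff,
      Subgroup.mem_subgroupOf, Subgroup.coe_pow]
    exact b.2.2.2)
  let act : G → (W →* W) := fun g => QuotientGroup.map _ _ ((MulAut.conjNormal g).toMonoidHom)
    (fun y hy => by
      rw [Subgroup.mem_subgroupOf] at hy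
      rw [Subgroup.mem_comap, Subgroup.mem_subgroupOf]
      show ((MulAut.conjNormal g y : P1) : G) ∈ Z
      rw [MulAut.conjNormal_apply, hconjZ hy]
      exact hy)
  have hact : ∀ g (y : P1), act g y = (MulAut.conjNormal g y : P1) := fun g y => rfl
  have hact1 : ∀ a : Additive W, (act 1).toAdditive a = a := fun a => by
    obtain ⟨b, hb⟩ := QuotientGroup.mk_surjective (Additive.toMul a)
    show Additive.ofMul (act 1 (Additive.toMul a)) = Additive.ofMul (Additive.toMul a)
    rw [← hb, hact, map_one]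
    rfl
  have hactm : ∀ g h (a : Additive W),
      (act (g * h)).toAdditive a = (act g).toAdditive ((act h).toAdditive a) := fun g h a => by
    obtain ⟨b, hb⟩ := QuotientGroup.mk_surjective (Additive.toMul a)
    show Additive.ofMul (act (g * h) (Additive.toMul a)) =
      Additive.ofMul (act g (act h (Additive.toMul a)))
    rw [← hb, hact, hact, hact, map_mul]
    rfl
  let ρW := zmodRep q (fun g => (act g).toAdditive) hact1 hactm
  let N : Subgroup G :=
    { carrier := {g | ∀ a, act g a = a}
      one_mem' := fun a => hact1 (Additive.ofMul a)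
      mul_mem' := fun {g h} hg hh a =>
        (hactm g h (Additive.ofMul a)).trans ((congrArg (act g) (hh a)).trans (hg a))
      inv_mem' := fun {g} hg a => by
        have h1 : act (g⁻¹ * g) a = act g⁻¹ (act g a) := hactm g⁻¹ g (Additive.ofMul a)
        rw [inv_mul_cancel, hg a] at h1
        rw [← h1]
        exact hact1 (Additive.ofMul a) }
  haveI : N.Normal := ⟨fun y hy g a => by
    have h1 : act (g * y * g⁻¹) a = act g (act g⁻¹ a) :=
      (hactm (g * y) g⁻¹ (Additive.ofMul a)).trans
        ((hactm g y (Additive.ofMul (act g⁻¹ a))).trans (congrArg (act g) (hy _)))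
    rw [h1, show act g (act g⁻¹ a) = act (g * g⁻¹) a from (hactm g g⁻¹ (Additive.ofMul a)).symm,
      mul_inv_cancel]
    exact hact1 (Additive.ofMul a)⟩
  rcases normal_cases hr hrange hmin N with hker | htop
  swap
  · apply hxZ
    have htriv : ∀ g : G, ∀ y : P1, ⁅g, (y : G)⁆ ∈ Z := by
      intro g y
      have h2 : act g (y : W) = (y : W) := (htop ▸ Subgroup.mem_top g : g ∈ N) (y : W)
      rw [hact, QuotientGroup.eq, Subgroup.mem_subgroupOf] at h2
      have h3 : ((MulAut.conjNormal g y : P1) : G) = ⁅g, (y : G)⁆ * y := by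
        rw [MulAut.conjNormal_apply]; simp only [commutatorElement_def]; group
      rw [Subgroup.coe_mul, Subgroup.coe_inv, h3] at h2
      have h4 := hZn.conj_mem _ (inv_mem h2) (y : G)⁻¹
      have h5 : ⁅g, (y : G)⁆ = (y : G) * ((⁅g, (y : G)⁆ * (y : G))⁻¹ * y)⁻¹ * (y : G)⁻¹ := by
        group
      rw [h5]
      exact hZn.conj_mem _ (inv_mem h2) (y : G)
    refine hcenter x hxP1 fun z _ => ?_
    let ψ : G →* Subgroup.center G :=
      { toFun := fun g => ⟨⁅g, x⁆, Subgroup.mem_center_iff.2 fun h =>
          (hZc (htriv g ⟨x, hxP1⟩) h).symm.eq⟩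
        map_one' := Subtype.ext (commutatorElement_one_left x)
        map_mul' := fun g h => Subtype.ext <| by
          show ⁅g * h, x⁆ = ⁅g, x⁆ * ⁅h, x⁆
          have hh : ∀ w : G, Commute ⁅h, x⁆ w := fun w => hZc (htriv h ⟨x, hxP1⟩) w
          calc ⁅g * h, x⁆ = g * ⁅h, x⁆ * g⁻¹ * ⁅g, x⁆ := by
                simp only [commutatorElement_def]; group
            _ = ⁅g, x⁆ * ⁅h, x⁆ := by
                rw [(hh g).symm.eq, mul_inv_cancel_right, (hh _).eq] }
    have hψ : ψ.ker = ⊤ := by
      refine top_unique (hperf ▸ ?_)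
      rw [commutator_def, Subgroup.commutator_le]
      intro a _ b _
      rw [MonoidHom.mem_ker, map_commutatorElement, commutatorElement_eq_one_iff_commute]
      exact Subtype.ext (Subgroup.mem_center_iff.1 (ψ b).2 _)
    have h1 := congrArg Subtype.val (MonoidHom.mem_ker.1 (hψ.ge (Subgroup.mem_top z)))
    exact (commutatorElement_eq_one_iff_commute.1 h1).symm
  · haveI : Finite (Additive W) := inferInstanceAs (Finite W)
    haveI : Nontrivial (Additive W) := ⟨⟨Additive.ofMul ((⟨x, hxP1⟩ : P1) : W), 0, fun h => hxZ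
      (Subgroup.mem_subgroupOf.1 ((QuotientGroup.eq_one_iff _).1 (congrArg Additive.toMul h)))⟩⟩
    exact small_space_false hr hrange Module.finrank_pos IH hn q ρW
      (fun g hg => MonoidHom.mem_ker.1 (hker (fun a => by
        have h0 : ρW g (Additive.ofMul a) = Additive.ofMul a := by rw [hg]; rfl
        have h1 := congrArg Additive.toMul h0
        exact h1))) hlin

/-- It suffices to prove the bound in the reduced situation. -/
theorem bound_of_setup (n : ℕ) (IH : ∀ m < n, Bound m)
    (hS : ∀ (k : Type) [Field k] [IsAlgClosed k] (p : ℕ) [Fact p.Prime] [CharP k p] (V : Type)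
      [AddCommGroup V] [Module k V] [FiniteDimensional k V] [Nontrivial V] (G : Type) [Group G]
      [Finite G] (r : ℕ) (ρ : Representation k G V) (π : G →* Equiv.Perm (Fin r)),
      Setup ρ π → finrank k V = n → r - 1 - (if p ∣ r then 1 else 0) ≤ n) :
    Bound n := by
  intro k _ _ p _ _ V _ _ _ G _ _ r ρ π hr hrange hker hdim
  suffices h : ∀ N (G : Type) [Group G] [Finite G] (ρ : Representation k G V)
      (π : G →* Equiv.Perm (Fin r)), Nat.card G = N → π.range = alternatingGroup (Fin r) →
      (∀ g, ρ g = 1 → π g = 1) → r - 1 - (if p ∣ r then 1 else 0) ≤ n from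
    h _ G ρ π rfl hrange hker
  intro N
  induction N using Nat.strong_induction_on with
  | h N ihN =>
  intro G _ _ ρ π hN hrange hker
  classical
  by_contra hlt
  push Not at hlt
  have hn : n + 2 ≤ r := by split_ifs at hlt <;> omega
  have hVn : Nontrivial V := by
    by_contra hc
    rw [not_nontrivial_iff_subsingleton] at hc
    exact not_range_trivial hr hrange fun g => hker g (LinearMap.ext fun v => Subsingleton.elim _ _)
  -- faithfulness
  have hinj : Function.Injective ρ := by
    by_contra hc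
    have hne : MonoidHom.ker ρ ≠ ⊥ := fun h => hc ((MonoidHom.ker_eq_bot_iff _).1 h)
    let ρ' : Representation k (G ⧸ MonoidHom.ker ρ) V := QuotientGroup.lift _ ρ le_rfl
    let π' : G ⧸ MonoidHom.ker ρ →* Equiv.Perm (Fin r) :=
      QuotientGroup.lift _ π fun g hg => MonoidHom.mem_ker.2 (hker g (MonoidHom.mem_ker.1 hg))
    have hcard : Nat.card (G ⧸ MonoidHom.ker ρ) < N := by
      rw [← hN, Subgroup.card_eq_card_quotient_mul_card_subgroup (MonoidHom.ker ρ)]
      have h1 : 1 < Nat.card (MonoidHom.ker ρ) := by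
        rw [Subgroup.one_lt_card_iff_ne_bot]; exact hne
      exact lt_mul_of_one_lt_right Nat.card_pos h1
    have hr' : π'.range = alternatingGroup (Fin r) := by
      rw [← hrange]
      ext σ
      constructor
      · rintro ⟨x, rfl⟩
        obtain ⟨g, rfl⟩ := QuotientGroup.mk_surjective x
        exact ⟨g, rfl⟩
      · rintro ⟨g, rfl⟩
        exact ⟨QuotientGroup.mk g, rfl⟩
    have := ihN _ hcard (G ⧸ MonoidHom.ker ρ) ρ' π' rfl hr' (fun x hx => by
      obtain ⟨g, rfl⟩ := QuotientGroup.mk_surjective x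
      exact hker g hx)
    omega
  -- minimality
  have hmin : ∀ H : Subgroup G, H.map π = alternatingGroup (Fin r) → H = ⊤ := by
    intro H hH
    by_contra hc
    have hcard : Nat.card H < N := by
      rw [← hN]
      exact lt_of_le_of_ne (Subgroup.card_le_card_group H)
        fun h => hc ((Subgroup.card_eq_iff_eq_top H).1 h)
    have := ihN _ hcard H (ρ.comp H.subtype) (π.comp H.subtype) rfl
      (by rw [MonoidHom.range_comp, Subgroup.range_subtype, hH]) (fun g hg => hker g hg)
    omega
  have hperf : commutator G = ⊤ := by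
    refine hmin _ ?_
    rw [commutator_def, Subgroup.map_commutator, ← MonoidHom.range_eq_map, hrange,
      commutator_alternatingGroup_eq_self (by rw [Nat.card_fin]; omega)]
  -- irreducibility
  have hirr : ∀ W : Submodule k V, (∀ g, ∀ v ∈ W, ρ g v ∈ W) → W = ⊥ ∨ W = ⊤ := by
    intro W hW
    by_contra hc
    push Not at hc
    have hW1 : finrank k W < n := hdim ▸ Submodule.finrank_lt hc.2
    have hW2 : finrank k (V ⧸ W) < n := by
      have h1 := Submodule.finrank_quotient_add_finrank W
      have h2 : 0 < finrank k W := by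
        haveI := Submodule.nontrivial_iff_ne_bot.2 hc.1
        exact Module.finrank_pos
      omega
    let ρ₁ : Representation k G W := (⟨W, fun g v hv => hW g v hv⟩ : Subrepresentation ρ).toRepresentation
    let ρ₂ : Representation k G (V ⧸ W) := ρ.quotient W fun g v hv => hW g v hv
    rcases normal_cases hr hrange hmin (MonoidHom.ker ρ₁) with h1 | h1
    · have := IH _ hW1 k p W G r ρ₁ π hr hrange
        (fun g hg => MonoidHom.mem_ker.1 (h1 (MonoidHom.mem_ker.2 hg))) rfl
      omega
    rcases normal_cases hr hrange hmin (MonoidHom.ker ρ₂) with h2 | h2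
    · have := IH _ hW2 k p (V ⧸ W) G r ρ₂ π hr hrange
        (fun g hg => MonoidHom.mem_ker.1 (h2 (MonoidHom.mem_ker.2 hg))) rfl
      omega
    have hfix : ∀ g, ∀ v ∈ W, ρ g v = v := fun g v hv =>
      congrArg Subtype.val (DFunLike.congr_fun
        (MonoidHom.mem_ker.1 (h1 ▸ Subgroup.mem_top g)) (⟨v, hv⟩ : W))
    have hmod : ∀ g v, ρ g v - v ∈ W := fun g v => (Submodule.Quotient.eq W).1
      (DFunLike.congr_fun (MonoidHom.mem_ker.1 (h2 ▸ Subgroup.mem_top g))
        (Submodule.Quotient.mk v))
    have hab : ∀ g h : G, Commute g h := fun g h => hinj <| LinearMap.ext fun v => by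
      rw [rho_mul, rho_mul]
      have e1 : ρ g (ρ h v - v) = ρ h v - v := hfix g _ (hmod h v)
      have e2 : ρ h (ρ g v - v) = ρ g v - v := hfix h _ (hmod g v)
      rw [map_sub, sub_eq_iff_eq_add] at e1 e2
      rw [e1, e2]; abel
    refine not_range_trivial hr hrange fun g => ?_
    have hbot : commutator G = ⊥ := by
      rw [commutator_def, eq_bot_iff, Subgroup.commutator_le]
      exact fun a _ b _ => Subgroup.mem_bot.2 (commutatorElement_eq_one_iff_commute.2 (hab a b))
    have hg : g ∈ commutator G := hperf ▸ Subgroup.mem_top g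
    rw [hbot, Subgroup.mem_bot] at hg
    rw [hg, map_one]
  subst hdim
  have hscal := ker_le_scalars IH hr hrange hinj hmin hperf hirr hn
  have := hS k p V G r ρ π
    { range := hrange
      central := fun x hx g => scalars_comm hinj (hscal (MonoidHom.mem_ker.2 hx)) g
      nine := by rw [Fintype.card_fin]; omega
      inj := hinj
      perfect := hperf
      irred := hirr
      scal := fun x hx => hscal (MonoidHom.mem_ker.2 hx) } rfl
  omega

end CfsgLib.AltSection
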