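import Cfsg.Agent.Lib.AltSection.Cov
import Mathlib

/-!
The statement proved by induction on the dimension, and the reduced situation.
-/

set_option autoImplicit false

namespace CfsgLib.AltSection

open Equiv Module
open scoped commutatorElement

/-- A group having an alternating quotient of degree `r`, through whose projection the kernel
of a representation of degree `n` factors, forces `n` to be at least the natural bound. -/
def Bound (n : ℕ) : Prop :=
  ∀ (k : Type) [Field k] [IsAlgClosed k] (p : ℕ) [Fact p.Prime] [CharP k p] (V : Type)
    [AddCommGroup V] [Module k V] [FiniteDimensional k V] (G : Type) [Group G] [Finite G]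
    (r : ℕ) (ρ : Representation k G V) (π : G →* Equiv.Perm (Fin r)), 9 ≤ r →
    π.range = alternatingGroup (Fin r) → (∀ g, ρ g = 1 → π g = 1) → finrank k V = n →
    r - 1 - (if p ∣ r then 1 else 0) ≤ n

/-- The reduced situation: an irreducible faithful representation of a perfect central
extension of an alternating group, with scalar kernel. -/
structure Setup {k : Type*} [Field k] {V : Type*} [AddCommGroup V] [Module k V] {G : Type*}
    [Group G] {α : Type*} [Fintype α] [DecidableEq α] (ρ : Representation k G V)
    (π : G →* Equiv.Perm α) : Prop extends Cov π where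
  inj : Function.Injective ρ
  perfect : commutator G = ⊤
  irred : ∀ W : Submodule k V, (∀ g, ∀ v ∈ W, ρ g v ∈ W) → W = ⊥ ∨ W = ⊤
  scal : ∀ x, π x = 1 → ∃ c : k, ρ x = c • (1 : Module.End k V)

variable {k : Type*} [Field k] {V : Type*} [AddCommGroup V] [Module k V] {G : Type*} [Group G]

theorem rho_mul (ρ : Representation k G V) (g h : G) (v : V) : ρ (g * h) v = ρ g (ρ h v) := by
  rw [map_mul]; rfl

theorem rho_inv_apply (ρ : Representation k G V) (g : G) (v : V) : ρ g (ρ g⁻¹ v) = v := by
  rw [← rho_mul, mul_inv_cancel, map_one]; rfl

theorem rho_inv_apply' (ρ : Representation k G V) (g : G) (v : V) : ρ g⁻¹ (ρ g v) = v := by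
  rw [← rho_mul, inv_mul_cancel, map_one]; rfl

theorem rho_injective (ρ : Representation k G V) (g : G) : Function.Injective (ρ g) :=
  Function.LeftInverse.injective (rho_inv_apply' ρ g)

theorem scalar_inj [Nontrivial V] {c d : k}
    (h : c • (1 : Module.End k V) = d • (1 : Module.End k V)) : c = d :=
  smul_left_injective k (one_ne_zero : (1 : Module.End k V) ≠ 0) h

/-- A submodule invariant under every group element is moved onto itself. -/
theorem map_rho_eq (ρ : Representation k G V) {W : Submodule k V}
    (hW : ∀ g, ∀ v ∈ W, ρ g v ∈ W) (g : G) : W.map (ρ g) = W := by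
  refine le_antisymm (Submodule.map_le_iff_le_comap.2 fun v hv => hW g v hv) fun v hv => ?_
  exact ⟨ρ g⁻¹ v, hW _ v hv, rho_inv_apply ρ g v⟩

/-- The image of a subspace under a group element has the same dimension. -/
theorem finrank_map_rho (ρ : Representation k G V) (g : G) (W : Submodule k V) :
    finrank k (W.map (ρ g)) = finrank k W :=
  (Submodule.equivMapOfInjective _ (rho_injective ρ g) W).finrank_eq.symm

theorem map_rho_rho (ρ : Representation k G V) (g h : G) (W : Submodule k V) :
    (W.map (ρ h)).map (ρ g) = W.map (ρ (g * h)) := by
  rw [← Submodule.map_comp, map_mul]; rfl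

end CfsgLib.AltSection
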