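import Cfsg.Agent.Lib.AltSection.Blocks

/-!
Representations in which lifts of a four-group anticommute.
-/

set_option autoImplicit false

namespace CfsgLib.AltSection

open Equiv Module
open scoped commutatorElement

variable {k : Type*} [Field k] {V : Type*} [AddCommGroup V] [Module k V] {G : Type*} [Group G]
  {α : Type*} [Fintype α] [DecidableEq α] {ρ : Representation k G V} {π : G →* Perm α}

/-- Lifts of the four-groups on four points commute. -/
def Linear (π : G →* Perm α) : Prop :=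
  ∀ a b c d : α, D4 a b c d → Commute (lft π (dt a b c d)) (lft π (dt a c b d))

theorem dt_sq {a b c d : α} (h : D4 a b c d) : dt a b c d * dt a b c d = 1 := by
  ext x
  rw [Perm.mul_apply, Perm.one_apply]
  by_cases hxa : x = a
  · subst hxa; rw [dt_apply_fst h, dt_apply_snd h]
  by_cases hxb : x = b
  · subst hxb; rw [dt_apply_snd h, dt_apply_fst h]
  by_cases hxc : x = c
  · subst hxc; rw [dt_apply_thd h, dt_apply_fth h]
  by_cases hxd : x = d
  · subst hxd; rw [dt_apply_fth h, dt_apply_thd h]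
  rw [dt_apply_other hxa hxb hxc hxd, dt_apply_other hxa hxb hxc hxd]

theorem D4.swap23 {a b c d : α} (h : D4 a b c d) : D4 a c b d :=
  ⟨h.2.1, h.1, h.2.2.1, h.2.2.2.1.symm, h.2.2.2.2.2, h.2.2.2.2.1⟩

theorem dt_comm {a b c d : α} (h : D4 a b c d) :
    Commute (dt a b c d) (dt a c b d) := by
  have h' := h.swap23
  ext x
  rw [Perm.mul_apply, Perm.mul_apply]
  by_cases hxa : x = a
  · subst hxa
    rw [dt_apply_fst h', dt_apply_thd h, dt_apply_fst h, dt_apply_thd h']
  by_cases hxb : x = b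
  · subst hxb
    rw [dt_apply_thd h', dt_apply_fth h, dt_apply_snd h, dt_apply_fst h']
  by_cases hxc : x = c
  · subst hxc
    rw [dt_apply_snd h', dt_apply_fst h, dt_apply_thd h, dt_apply_fth h']
  by_cases hxd : x = d
  · subst hxd
    rw [dt_apply_fth h', dt_apply_snd h, dt_apply_fth h, dt_apply_snd h']
  simp [dt_apply_other, hxa, hxb, hxc, hxd]

theorem gen_three : ∀ a b : ZMod 5, a ≠ 0 → b ≠ 0 → ∃ i < 5, b = ((2 : ℕ) : ZMod 5)⁻¹ ^ i * a := by
  have h : ((2 : ℕ) : ZMod 5)⁻¹ = 3 := ZMod.inv_eq_of_mul_eq_one _ _ _ (by decide)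
  rw [h]; decide

theorem gen_five : ∀ a b : ZMod 7, a ≠ 0 → b ≠ 0 → ∃ i < 7, b = ((3 : ℕ) : ZMod 7)⁻¹ ^ i * a := by
  have h : ((3 : ℕ) : ZMod 7)⁻¹ = 5 := ZMod.inv_eq_of_mul_eq_one _ _ _ (by decide)
  rw [h]; decide

theorem cast_two_five : ((2 : ℕ) : ZMod 5) ≠ 0 := by decide

theorem cast_three_seven : ((3 : ℕ) : ZMod 7) ≠ 0 := by decide

namespace Setup

variable (hs : Setup ρ π)
include hs

theorem spin_anti [Nontrivial V] (hlin : ¬ Linear π) :
    (2 : k) ≠ 0 ∧ ∀ a b c d : α, D4 a b c d → ∀ x y : G, π x = dt a b c d → π y = dt a c b d →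
      ∀ v, ρ x (ρ y v) = -ρ y (ρ x v) := by
  simp only [Linear, not_forall] at hlin
  obtain ⟨a₀, b₀, c₀, d₀, h₀, hnc⟩ := hlin
  set x₀ := lft π (dt a₀ b₀ c₀ d₀) with hx₀
  set y₀ := lft π (dt a₀ c₀ b₀ d₀) with hy₀
  have hπx : π x₀ = dt a₀ b₀ c₀ d₀ := hs.map_lft_dt _ _ _ _
  have hπy : π y₀ = dt a₀ c₀ b₀ d₀ := hs.map_lft_dt _ _ _ _
  set c := ⁅x₀, y₀⁆ with hc
  have hc1 : π c = 1 := by
    rw [hc, map_commutatorElement, hπx, hπy, commutatorElement_eq_one_iff_commute]
    exact dt_comm h₀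
  have hcne : c ≠ 1 := fun h => hnc (commutatorElement_eq_one_iff_commute.1 h)
  obtain ⟨s, hs'⟩ := hs.scal c hc1
  have hc2 : c * c = 1 := by
    have hx2 : π (x₀ * x₀) = 1 := by rw [map_mul, hπx, dt_sq h₀]
    have h1 : ⁅x₀ * x₀, y₀⁆ = 1 :=
      commutatorElement_eq_one_iff_commute.2 (hs.central _ hx2 y₀)
    have h2 : ⁅x₀ * x₀, y₀⁆ = x₀ * c * x₀⁻¹ * c := by
      rw [hc]; simp only [commutatorElement_def]; group
    rw [h2, ← (hs.central c hc1 x₀).eq, mul_inv_cancel_right] at h1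
    exact h1
  have hs2 : s * s = 1 := by
    have e := congrArg ρ hc2
    rw [map_mul, map_one, hs', smul_mul_smul_comm, mul_one] at e
    exact scalar_inj (e.trans (one_smul k _).symm)
  have hs1 : s ≠ 1 := by
    rintro rfl
    rw [one_smul] at hs'
    exact hcne (hs.inj (hs'.trans (map_one ρ).symm))
  have hsneg : s = -1 := (mul_self_eq_one_iff.1 hs2).resolve_left hs1
  subst hsneg
  refine ⟨fun h2 => hs1 ?_, fun a b c' d h x y hx hy v => ?_⟩
  · have h3 : (1 : k) + 1 = 0 := by rw [← h2]; norm_num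
    exact (eq_neg_of_add_eq_zero_left h3).symm
  · obtain ⟨g, ga, gb, gc, gd⟩ := hs.exists_map_four h₀ h
    have h1 : g * c * g⁻¹ = ⁅x, y⁆ := by
      rw [hc, conjugate_commutatorElement,
        hs.comm_center_left (show π (g * x₀ * g⁻¹) = π x by
          rw [map_mul, map_mul, map_inv, hπx, hx, conj_dt, ga, gb, gc, gd]),
        hs.comm_center (show π (g * y₀ * g⁻¹) = π y by
          rw [map_mul, map_mul, map_inv, hπy, hy, conj_dt, ga, gb, gc, gd])]
    rw [← (hs.central c hc1 g).eq, mul_inv_cancel_right] at h1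
    have h2 : x * y = c * (y * x) := by rw [h1, commutatorElement_def]; group
    rw [← rho_mul, h2, rho_mul, hs', rho_mul]
    simp

theorem spin_even [FiniteDimensional k V] [Nontrivial V] (hlin : ¬ Linear π) {a b c d : α}
    (h : D4 a b c d) (U : Submodule k V)
    (hUx : ∀ v ∈ U, ρ (lft π (dt a b c d)) v ∈ U)
    (hUy : ∀ v ∈ U, ρ (lft π (dt a c b d)) v ∈ U) : Even (finrank k U) := by
  obtain ⟨h2, hanti⟩ := hs.spin_anti hlin
  set A := (ρ (lft π (dt a b c d))).restrict hUx with hA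
  set B := (ρ (lft π (dt a c b d))).restrict hUy with hB
  have hAB : A * B = (-1 : k) • (B * A) := LinearMap.ext fun v => Subtype.ext (by
    rw [LinearMap.smul_apply, Submodule.coe_smul, neg_one_smul]
    exact hanti a b c d h _ _ (hs.map_lft_dt a b c d) (hs.map_lft_dt a c b d) v.1)
  have hne : ∀ (g : G) (hg : ∀ v ∈ U, ρ g v ∈ U),
      LinearMap.det ((ρ g).restrict hg) ≠ 0 := fun g hg h0 => by
    obtain ⟨v, hv, hv0⟩ := (Submodule.ne_bot_iff _).1
      (ne_of_gt (LinearMap.bot_lt_ker_of_det_eq_zero h0))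
    refine hv0 (Subtype.ext (rho_injective ρ g ?_))
    rw [Submodule.coe_zero, map_zero]
    exact congrArg Subtype.val (LinearMap.mem_ker.1 hv)
  by_contra hodd
  rw [Nat.not_even_iff_odd] at hodd
  have h1 := congrArg LinearMap.det hAB
  rw [LinearMap.det_smul, map_mul, map_mul, hodd.neg_one_pow] at h1
  have h3 : (2 : k) * (LinearMap.det A * LinearMap.det B) = 0 := by linear_combination h1
  exact mul_ne_zero h2 (mul_ne_zero (hne _ hUx) (hne _ hUy)) h3

/-- A block cycle with a normalising element permuting its nontrivial eigenspaces. -/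
theorem exists_cycle [FiniteDimensional k V] [IsAlgClosed k] {q m : ℕ} [Fact q.Prime]
    (μ : Perm (Fin q)) (hμ : Perm.sign μ = -1) (hrot : Perm.sign (finRotate q) = 1)
    (hconj : μ * finRotate q * μ⁻¹ = finRotate q ^ m) (hpow : finRotate q ^ q = 1)
    (hne : finRotate q ^ m * (finRotate q)⁻¹ ≠ 1) (hm : (m : ZMod q) ≠ 0)
    (hgen : ∀ a b : ZMod q, a ≠ 0 → b ≠ 0 → ∃ i < q, b = ((m : ZMod q)⁻¹) ^ i * a)
    (hqk : (q : k) ≠ 0) (e : Fin q ↪ α) (hcard : q + 2 ≤ Fintype.card α) :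
    ∃ (y : G) (ω : k), IsPrimitiveRoot ω q ∧ y ^ q = 1 ∧
      (∀ x, x ∉ Set.range e → π y x = x) ∧
      (∀ a : ZMod q, a ≠ 0 →
        0 < finrank k (Module.End.eigenspace (ρ y) (ω ^ a.val)) ∧
          (q - 1) * finrank k (Module.End.eigenspace (ρ y) (ω ^ a.val)) ≤ finrank k V) := by
  classical
  obtain ⟨ω, hω⟩ : ∃ ω : k, IsPrimitiveRoot ω q := exists_primitive hqk
  obtain ⟨d, d', hdd, hd, hd'⟩ := exists_two_outside (S := Finset.univ.map e)
    (by rw [Finset.card_map, Finset.card_univ, Fintype.card_fin]; exact hcard)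
  simp only [Finset.mem_map, Finset.mem_univ, true_and, not_exists] at hd hd'
  set H : Perm α := onBlock e μ * swap d d' with hH
  have hHmem : H ∈ alternatingGroup α := by
    rw [Perm.mem_alternatingGroup, hH, map_mul, sign_onBlock, hμ, Perm.sign_swap hdd]; rfl
  have hXmem : onBlock e (finRotate q) ∈ alternatingGroup α := by
    rw [Perm.mem_alternatingGroup, sign_onBlock, hrot]
  set h := lft π H with hh
  set x := lft π (onBlock e (finRotate q)) with hx
  have hπh : π h = H := hs.map_lft hHmem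
  have hπx : π x = onBlock e (finRotate q) := hs.map_lft hXmem
  have hsw : Commute (swap d d') (onBlock e (finRotate q)) := commute_of_support fun z => by
    by_cases hz : z ∈ Set.range e
    · obtain ⟨i, rfl⟩ := hz
      exact Or.inl (swap_apply_of_ne_of_ne (hd i) (hd' i))
    · exact Or.inr (onBlock_other e _ hz)
  have hc : π h * π x * (π h)⁻¹ = π x ^ m := by
    rw [hπh, hπx, hH, ← map_pow, ← hconj, map_mul (onBlock e), map_mul (onBlock e),
      map_inv (onBlock e), mul_inv_rev, swap_inv', mul_assoc (onBlock e μ), hsw.eq]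
    simp only [mul_assoc]
    rw [← mul_assoc (swap d d') (swap d d'), swap_mul_self, one_mul]
  obtain ⟨hπy, hyq, hhy⟩ := hs.comm_pow hc (q := q) (by rw [hπx, ← map_pow, hpow, map_one])
  set y := ⁅h, x⁆ with hy
  rw [hπx, ← map_pow, ← map_inv, ← map_mul] at hπy
  refine ⟨y, ω, hω, hyq, fun z hz => by rw [hπy, onBlock_other e _ hz], ?_⟩
  have hy1 : y ≠ 1 := fun h1 => hne (Perm.viaEmbeddingHom_injective e (by
    show onBlock e _ = onBlock e 1
    rw [map_one, ← hπy, h1, map_one]))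
  let T : Fin 1 → G := fun _ => y
  have hT : Tor ρ q T ω := ⟨fun _ _ => Commute.refl y, fun _ => hyq, hqk, hω⟩
  set E := fun a : ZMod q => Module.End.eigenspace (ρ y) (ω ^ a.val) with hE
  have hwt : ∀ χ : Fin 1 → ZMod q, mult ρ T ω χ = finrank k (E (χ 0)) := fun χ => by
    rw [mult]
    suffices hh : wt ρ T ω χ = E (χ 0) by rw [hh]
    ext v
    rw [mem_wt, Module.End.mem_eigenspace_iff]
    exact ⟨fun h => h 0, fun h i => by rw [Subsingleton.elim i 0]; exact h⟩
  -- the normalising element permutes the eigenspaces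
  set e' := (m : ZMod q)⁻¹ with he'
  have hinv : h⁻¹ * y * h = y ^ e'.val := by
    have h1 : (y ^ m) ^ e'.val = y := by
      rw [← pow_mul]
      have h3 : m * e'.val % q = 1 := by
        have h4 : ((m * e'.val : ℕ) : ZMod q) = ((1 : ℕ) : ZMod q) := by
          rw [Nat.cast_mul, ZMod.natCast_zmod_val, he', Nat.cast_one, mul_inv_cancel₀ hm]
        have h5 := (ZMod.natCast_eq_natCast_iff' _ _ _).1 h4
        rwa [Nat.one_mod_eq_one.2 (Fact.out : q.Prime).ne_one] at h5
      rw [pow_eq_pow_mod (m * e'.val) hyq, h3, pow_one]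
    conv_lhs => rw [← h1, ← hhy, conj_pow]
    group
  have hle : ∀ a : ZMod q, finrank k (E a) ≤ finrank k (E (e' * a)) := by
    intro a
    have h1 := mult_le (ρ := ρ) (T := T) hω h id (fun _ => e') (fun _ => hinv) (fun _ => a)
    rwa [hwt, hwt] at h1
  have hiter : ∀ (i : ℕ) (a : ZMod q), finrank k (E a) ≤ finrank k (E (e' ^ i * a)) := by
    intro i
    induction i with
    | zero => intro a; rw [pow_zero, one_mul]
    | succ i ih =>
      intro a
      rw [pow_succ', mul_assoc]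
      exact (ih a).trans (hle _)
  have hall : ∀ a b : ZMod q, a ≠ 0 → b ≠ 0 → finrank k (E a) ≤ finrank k (E b) := by
    intro a b ha hb
    obtain ⟨i, -, rfl⟩ := hgen a b ha hb
    exact hiter i a
  intro a ha
  constructor
  · by_contra h0
    refine hy1 (hT.eq_one_of_mult_zero hs.inj 0 fun χ hχ => ?_)
    rw [hwt]
    have h1 := hall (χ 0) a hχ ha
    rw [Nat.not_lt, Nat.le_zero] at h0
    exact Nat.le_zero.1 (h1.trans h0.le)
  · have h1 := hT.card_mul_le (Finset.univ.filter fun χ : Fin 1 → ZMod q => χ 0 ≠ 0)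
      (d := finrank k (E a)) fun χ hχ => by
        rw [hwt]
        exact hall a (χ 0) ha (Finset.mem_filter.1 hχ).2
    have hcard1 : (Finset.univ.filter fun χ : Fin 1 → ZMod q => χ 0 ≠ 0).card = q - 1 := by
      have hb : (Finset.univ.filter fun χ : Fin 1 → ZMod q => χ 0 ≠ 0) =
          (Finset.univ.filter fun c : ZMod q => c ≠ 0).map
            (Equiv.funUnique (Fin 1) (ZMod q)).symm.toEmbedding := by
        ext χ
        simp [Equiv.funUnique]
      rw [hb, Finset.card_map, Finset.filter_ne', Finset.card_erase_of_mem (Finset.mem_univ _),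
        Finset.card_univ, ZMod.card]
    rwa [hcard1] at h1

theorem cycle_eigen_inv {q : ℕ} (hq : 5 ≤ q) (e : Fin q ↪ α) {y g : G}
    (hy : ∀ x, x ∉ Set.range e → π y x = x) (hg : ∀ i, π g (e i) = e i) (c : k) :
    ∀ v ∈ Module.End.eigenspace (ρ y) c, ρ g v ∈ Module.End.eigenspace (ρ y) c := by
  have hcomm : Commute y g := by
    refine hs.commute_sets (S := Finset.univ.map e)
      (by rw [Finset.card_map, Finset.card_univ, Fintype.card_fin]; exact hq) ?_ ?_
    · intro z hz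
      obtain ⟨i, -, rfl⟩ := Finset.mem_map.1 hz
      exact hg i
    · intro z hz
      exact hy z fun ⟨i, hi⟩ => hz (Finset.mem_map.2 ⟨i, Finset.mem_univ i, hi⟩)
  intro v hv
  rw [Module.End.mem_eigenspace_iff] at hv ⊢
  rw [← rho_mul, hcomm.eq, rho_mul, hv, map_smul]

/-- Spin bound from one cycle and a disjoint four-point set. -/
theorem spin_cycle [FiniteDimensional k V] [IsAlgClosed k] [Nontrivial V] (hlin : ¬ Linear π)
    {q m : ℕ} [Fact q.Prime] (hq : 5 ≤ q) (μ : Perm (Fin q)) (hμ : Perm.sign μ = -1)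
    (hrot : Perm.sign (finRotate q) = 1) (hconj : μ * finRotate q * μ⁻¹ = finRotate q ^ m)
    (hpow : finRotate q ^ q = 1) (hne : finRotate q ^ m * (finRotate q)⁻¹ ≠ 1)
    (hm : (m : ZMod q) ≠ 0)
    (hgen : ∀ a b : ZMod q, a ≠ 0 → b ≠ 0 → ∃ i < q, b = ((m : ZMod q)⁻¹) ^ i * a)
    (hqk : (q : k) ≠ 0) (hcard : q + 4 ≤ Fintype.card α) :
    (q - 1) * 2 ≤ finrank k V := by
  classical
  obtain ⟨e⟩ := Function.Embedding.nonempty_of_card_le (α := Fin q) (β := α)
    (by rw [Fintype.card_fin]; omega)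
  obtain ⟨T4, hT4, hdis⟩ := exists_outside (S := Finset.univ.map e) (m := 4)
    (by rw [Finset.card_map, Finset.card_univ, Fintype.card_fin]; exact hcard)
  obtain ⟨a, b, c, d, hab, hac, had, hbc, hbd, hcd, rfl⟩ := Finset.card_eq_four.1 hT4
  have hout : ∀ i, e i ≠ a ∧ e i ≠ b ∧ e i ≠ c ∧ e i ≠ d := fun i => by
    have h1 := Finset.disjoint_right.1 hdis (Finset.mem_map.2 ⟨i, Finset.mem_univ i, rfl⟩)
    simp only [Finset.mem_insert, Finset.mem_singleton, not_or] at h1
    exact h1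
  obtain ⟨y, ω, -, -, hy, hE⟩ := hs.exists_cycle μ hμ hrot hconj hpow hne hm hgen hqk e (by omega)
  haveI : Fact (1 < q) := ⟨by omega⟩
  obtain ⟨hpos, hle⟩ := hE 1 one_ne_zero
  have heven := hs.spin_even hlin (show D4 a b c d from ⟨hab, hac, had, hbc, hbd, hcd⟩)
    (Module.End.eigenspace (ρ y) (ω ^ (1 : ZMod q).val))
    (hs.cycle_eigen_inv hq e hy (fun i => by
      rw [hs.map_lft_dt, dt_apply_other (hout i).1 (hout i).2.1 (hout i).2.2.1 (hout i).2.2.2]) _)
    (hs.cycle_eigen_inv hq e hy (fun i => by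
      rw [hs.map_lft_dt, dt_apply_other (hout i).1 (hout i).2.2.1 (hout i).2.1 (hout i).2.2.2]) _)
  obtain ⟨t, ht⟩ := heven
  refine le_trans (Nat.mul_le_mul_left _ ?_) hle
  omega

theorem spin_five [FiniteDimensional k V] [IsAlgClosed k] [Nontrivial V] (hlin : ¬ Linear π)
    (h5 : (5 : k) ≠ 0) : 8 ≤ finrank k V := by
  haveI : Fact (Nat.Prime 5) := ⟨by norm_num⟩
  exact hs.spin_cycle hlin (m := 2) le_rfl dbl5 sign_dbl5 sign_rot5 dbl5_conj rot5_pow (by decide)
    cast_two_five gen_three (by exact_mod_cast h5) (by have := hs.nine; omega)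

theorem spin_seven [FiniteDimensional k V] [IsAlgClosed k] [Nontrivial V] (hlin : ¬ Linear π)
    (h7 : (7 : k) ≠ 0) (hcard : 11 ≤ Fintype.card α) : 12 ≤ finrank k V := by
  haveI : Fact (Nat.Prime 7) := ⟨by norm_num⟩
  exact hs.spin_cycle hlin (m := 3) (by norm_num) tpl7 sign_tpl7 sign_rot7 tpl7_conj rot7_pow
    (by decide) cast_three_seven gen_five (by exact_mod_cast h7) (by omega)

end Setup

end CfsgLib.AltSection
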